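import Cfsg.Agent.Lib.TensorThreeThree.Conj

/-!
With rigid radicals every element of the overgroup is a product map: centralisers of the involutions among
the Kronecker elements are analysed by dihedral subgroups.
-/

set_option autoImplicit false
set_option linter.unusedSectionVars false

namespace Cfsg.Agent.Lib.TensorThreeThree

open Module QuadraticMap Matrix Cfsg.Agent.Lib Cfsg.Agent.Lib.TensorThreeFour

/-- Two involutions and the least power of their product in a given subgroup. -/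
theorem dihedral_cases {G : Type*} [Group G] [Finite G] (E : Subgroup G) {l y : G} (hl : l * l = 1)
    (hy : y * y = 1) :
    (∃ k : ℕ, (l * y) ^ (2 * k + 1) ∈ E ∧ (l * y) ^ k * l * ((l * y) ^ k)⁻¹ = (l * y) ^ (2 * k + 1) * y) ∨
      ∃ k : ℕ, (l * y) ^ (2 * k) ∈ E ∧ (l * y) ^ k ∉ E ∧
        (l * y) ^ k * l * ((l * y) ^ k)⁻¹ = (l * y) ^ (2 * k) * l ∧
        (l * y) ^ k * y * ((l * y) ^ k)⁻¹ = (l * y) ^ (2 * k) * y := by
  classical
  obtain ⟨r, hr⟩ : ∃ r, r = l * y := ⟨_, rfl⟩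
  rw [← hr]
  have hli : l⁻¹ = l := inv_eq_of_mul_eq_one_right hl
  have hyi : y⁻¹ = y := inv_eq_of_mul_eq_one_right hy
  have hrinv : r⁻¹ = y * l := by rw [hr, _root_.mul_inv_rev, hli, hyi]
  have hflip : ∀ g : G, g * g = 1 → g * r * g⁻¹ = r⁻¹ → ∀ k : ℕ, r ^ k * g * (r ^ k)⁻¹ = r ^ (2 * k) * g := by
    intro g hg e k
    have hgi : g⁻¹ = g := inv_eq_of_mul_eq_one_right hg
    have e' : g * r ^ k * g⁻¹ = r⁻¹ ^ k := by rw [← e, conj_pow]
    rw [inv_pow] at e'
    rw [← e', two_mul, pow_add, show r ^ k * g * (g * r ^ k * g⁻¹) = r ^ k * (g * g) * r ^ k * g⁻¹ by group, hg,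
      mul_one, hgi]
  have hfl := hflip l hl (by rw [hrinv, hr, ← mul_assoc, hl, one_mul, hli])
  have hfy := hflip y hy (by rw [hrinv, hr, hyi, mul_assoc y, mul_assoc l, hy, mul_one])
  have hex : ∃ m, 0 < m ∧ r ^ m ∈ E := ⟨orderOf r, orderOf_pos r, by rw [pow_orderOf_eq_one]; exact E.one_mem⟩
  obtain ⟨hm0, hmE⟩ := Nat.find_spec hex
  obtain ⟨m, hm⟩ : ∃ m, m = Nat.find hex := ⟨_, rfl⟩
  rw [← hm] at hm0 hmE
  rcases Nat.even_or_odd m with ⟨k, hk⟩ | ⟨k, hk⟩
  · refine Or.inr ⟨k, by rwa [two_mul, ← hk], fun h => ?_, hfl k, hfy k⟩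
    exact Nat.find_min hex (show k < Nat.find hex by omega) ⟨by omega, h⟩
  · refine Or.inl ⟨k, by rwa [← hk], ?_⟩
    rw [hfl k, pow_succ, mul_assoc (r ^ (2 * k)), hr, mul_assoc l, hy, mul_one]

/-- The subgroup of two commuting involutions. -/
def fourGroup {G : Type*} [Group G] {a b : G} (ha : a * a = 1) (hb : b * b = 1) (hab : Commute a b) :
    Subgroup G where
  carrier := {g | g = 1 ∨ g = a ∨ g = b ∨ g = a * b}
  one_mem' := Or.inl rfl
  mul_mem' := by
    have hab' : b * a = a * b := hab.eq.symm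
    have h1 : ∀ g, a * (a * g) = g := fun g => by rw [← mul_assoc, ha, one_mul]
    have h2 : ∀ g, b * (b * g) = g := fun g => by rw [← mul_assoc, hb, one_mul]
    have h3 : ∀ g, b * (a * g) = a * (b * g) := fun g => by rw [← mul_assoc, hab', mul_assoc]
    rintro x y (rfl | rfl | rfl | rfl) (rfl | rfl | rfl | rfl) <;>
      simp [ha, hb, hab', h1, h2, h3, mul_assoc]
  inv_mem' := by
    rintro x (rfl | rfl | rfl | rfl)
    · exact Or.inl inv_one
    · exact Or.inr (Or.inl (inv_eq_of_mul_eq_one_right ha))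
    · exact Or.inr (Or.inr (Or.inl (inv_eq_of_mul_eq_one_right hb)))
    · refine Or.inr (Or.inr (Or.inr (inv_eq_of_mul_eq_one_right ?_)))
      rw [hab.symm.mul_mul_mul_comm, ha, hb, one_mul]

/-- Powers of an involution. -/
theorem eq_of_mem_zpowers {G : Type*} [Group G] {x e : G} (hx : x * x = 1) (he : e ∈ Subgroup.zpowers x) :
    e = 1 ∨ e = x := by
  obtain ⟨i, rfl⟩ := Subgroup.mem_zpowers_iff.1 he
  rcases Int.even_or_odd i with ⟨j, rfl⟩ | ⟨j, rfl⟩
  · exact Or.inl (by rw [← two_mul, _root_.zpow_mul, _root_.zpow_two, hx, _root_.one_zpow])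
  · exact Or.inr (by rw [_root_.zpow_add_one, _root_.zpow_mul, _root_.zpow_two, hx, _root_.one_zpow, one_mul])

section Small

variable {F : Type*} [Field F] {f : LinearMap.BilinForm F (V3 F)} (hf : Sym f)
include hf

theorem trace_rot_mul {z w : V3 F} (hz : f z z ≠ 0) (hw : f w w ≠ 0) (hzw : f z w = 0) :
    LinearMap.trace F _ (rotE f hz * rotE f hw).toLinearMap = -1 := by
  obtain ⟨v, hv, hzv, hwv, hexp⟩ := exists_third hf hz hw hzw
  rw [(rot_prod hf hz hw hv hzw hzv hwv hexp).1, trace_rotE hf hv]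

/-- Involutions commuting with two orthogonal half turns. -/
theorem four_of_comm {z w : V3 F} (hz : f z z ≠ 0) (hw : f w w ≠ 0) (hzw : f z w = 0) {A : V3 F ≃ₗ[F] V3 F}
    (hA : IsIso f A.toLinearMap) (hd : LinearMap.det A.toLinearMap = 1) (h2 : A * A = 1)
    (hcz : A * rotE f hz = rotE f hz * A) (hcw : A * rotE f hw = rotE f hw * A) :
    A = 1 ∨ A = rotE f hz ∨ A = rotE f hw ∨ A = rotE f hz * rotE f hw := by
  rcases eq_rot hf hA hd h2 with rfl | ⟨s, hs, rfl⟩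
  · exact Or.inl rfl
  by_cases h1 : rotE f hs = rotE f hz
  · exact Or.inr (Or.inl h1)
  by_cases h2' : rotE f hs = rotE f hw
  · exact Or.inr (Or.inr (Or.inl h2'))
  have esz := perp_of_comm hf hs hz hcz h1
  have esw := perp_of_comm hf hs hw hcw h2'
  obtain ⟨v, hv, hzv, hwv, hexp⟩ := exists_third hf hz hw hzw
  refine Or.inr (Or.inr (Or.inr ?_))
  rw [(rot_prod hf hz hw hv hzw hzv hwv hexp).1]
  have e := hexp s
  rw [hf.symm z s, esz, hf.symm w s, esw, zero_div, zero_div, zero_smul, zero_smul, zero_add, zero_add] at e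
  have hl0 : f v s / f v v ≠ 0 := fun h => hs (by rw [e, h, zero_smul]; simp)
  refine LinearEquiv.ext fun x => ?_
  rw [rotE_apply, rotE_apply, reflL_apply, reflL_apply]
  generalize f v s / f v v = l at e hl0
  subst e
  simp only [map_smul, LinearMap.smul_apply, smul_eq_mul]
  match_scalars <;> field_simp

end Small

namespace Ctx

variable {ι : Type} [Fintype ι] [DecidableEq ι] {F : Type*} [Field F] {Q : QuadraticForm F (ι → F)}
  {H : Subgroup (GL ι F)} (C : Ctx Q H)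
include C

theorem trace_kr_rot {A B : V3 F ≃ₗ[F] V3 F} (hA : LinearMap.trace F _ A.toLinearMap = -1)
    (hB : LinearMap.trace F _ B.toLinearMap = -1) : (C.kr A B : Matrix ι ι F).trace = 1 := by
  rw [kr_trace, hA, hB]; norm_num

theorem trace_kr_one {B : V3 F ≃ₗ[F] V3 F} (hB : LinearMap.trace F _ B.toLinearMap = -1) :
    (C.kr 1 B : Matrix ι ι F).trace = -3 := by
  rw [kr_trace, hB]
  show LinearMap.trace F _ (LinearMap.id : V3 F →ₗ[F] V3 F) * -1 = _
  rw [LinearMap.trace_id, Module.finrank_fin_fun]; push_cast; ring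

/-- Elements of trace `1` and of trace `-3` are not conjugate. -/
theorem trace_absurd {g x y : GL ι F} (h : g * x * g⁻¹ = y) (hx : (x : Matrix ι ι F).trace = -3)
    (hy : (y : Matrix ι ι F).trace = 1) : False := by
  rw [← h, Units.val_mul, Units.val_mul, Matrix.trace_units_conj, hx] at hy
  exact C.symU.four_ne (by linear_combination -hy)

theorem kr_comm {A A' B B' : V3 F ≃ₗ[F] V3 F} (hA : A * A' = A' * A) (hB : B * B' = B' * B) :
    C.kr A B * C.kr A' B' = C.kr A' B' * C.kr A B := by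
  rw [kr_mul, kr_mul, hA, hB]

theorem kr_rot_sq {z z' : V3 F} (hz : C.fU z z ≠ 0) (hz' : C.fW z' z' ≠ 0) :
    C.kr (rotE C.fU hz) (rotE C.fW hz') * C.kr (rotE C.fU hz) (rotE C.fW hz') = 1 := by
  rw [kr_mul, rot_sq hz, rot_sq hz', kr_one]

theorem comm_rot {A B : V3 F ≃ₗ[F] V3 F} (hA : IsIso C.fU A.toLinearMap) (hd : LinearMap.det A.toLinearMap = 1)
    {z : V3 F} (hz : C.fU z z ≠ 0) {B' : V3 F ≃ₗ[F] V3 F}
    (h : C.kr A B * C.kr (rotE C.fU hz) B' = C.kr (rotE C.fU hz) B' * C.kr A B) :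
    A * rotE C.fU hz = rotE C.fU hz * A ∧ B * B' = B' * B :=
  C.comm_of_kr_comm hA (rotE_iso C.symU hz) hd (det_rotE C.symU (Module.finrank_fin_fun F) hz) h

/-- An involution acting on the second factor only is a half turn. -/
theorem good2_of_snd {B : V3 F ≃ₗ[F] V3 F} (hB : C.kr 1 B ∈ H) (h2 : B * B = 1) (hne : B ≠ 1) :
    C.Good2 (C.kr 1 B) := by
  have hkr : C.flip.kr B 1 = C.kr 1 B := C.flip_kr _ _
  obtain ⟨A', B', hA', hB', hd', hdB', e⟩ := C.exists_kr_mem (C.isKr_kr 1 B) hB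
  obtain ⟨eA, eB⟩ := C.kr_inj (fun _ _ => rfl) hA' LinearMap.det_id hd' e
  subst eB
  rcases eq_rot C.symW hB' hdB' h2 with h | ⟨z, hz, h⟩
  · exact absurd h hne
  · exact Or.inr ⟨z, hz, by rw [← hkr, h]; rfl, hB⟩

variable [Finite F]

/-- Centralisers of four groups of double half turns. -/
theorem cent_four (hC : C.NR) (hC' : C.flip.NR) {z₁ z₂ w₁ w₂ : V3 F} (h1 : C.fU z₁ z₁ ≠ 0)
    (h2 : C.fU z₂ z₂ ≠ 0) (k1 : C.fW w₁ w₁ ≠ 0) (k2 : C.fW w₂ w₂ ≠ 0) (hz : C.fU z₁ z₂ = 0)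
    (hw : C.fW w₁ w₂ = 0) (g1 : C.kr (rotE C.fU h1) 1 ∈ H) (g2 : C.kr (rotE C.fU h2) 1 ∈ H)
    (g3 : C.kr 1 (rotE C.fW k1) ∈ H) (g4 : C.kr 1 (rotE C.fW k2) ∈ H) {c : GL ι F} (hc : c ∈ H)
    (c1 : Commute c (C.kr (rotE C.fU h1) (rotE C.fW k1))) (c2 : Commute c (C.kr (rotE C.fU h2) (rotE C.fW k2))) :
    C.InM c := by
  obtain ⟨a, ha⟩ : ∃ a, a = rotE C.fU h1 := ⟨_, rfl⟩
  obtain ⟨b, hb⟩ : ∃ b, b = rotE C.fU h2 := ⟨_, rfl⟩
  obtain ⟨a', ha'⟩ : ∃ a, a = rotE C.fW k1 := ⟨_, rfl⟩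
  obtain ⟨b', hb'⟩ : ∃ b, b = rotE C.fW k2 := ⟨_, rfl⟩
  have haa : a * a = 1 := ha ▸ rot_sq h1
  have hbb : b * b = 1 := hb ▸ rot_sq h2
  have haa' : a' * a' = 1 := ha' ▸ rot_sq k1
  have hbb' : b' * b' = 1 := hb' ▸ rot_sq k2
  have hab : a * b = b * a := ha ▸ hb ▸ rot_mul_comm C.symU h1 h2 hz
  have hab' : a' * b' = b' * a' := ha' ▸ hb' ▸ rot_mul_comm C.symW k1 k2 hw
  have ta : LinearMap.trace F _ a.toLinearMap = -1 := ha ▸ trace_rotE C.symU h1
  have tb : LinearMap.trace F _ b.toLinearMap = -1 := hb ▸ trace_rotE C.symU h2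
  have ta' : LinearMap.trace F _ a'.toLinearMap = -1 := ha' ▸ trace_rotE C.symW k1
  have tb' : LinearMap.trace F _ b'.toLinearMap = -1 := hb' ▸ trace_rotE C.symW k2
  have tab : LinearMap.trace F _ (a * b).toLinearMap = -1 := ha ▸ hb ▸ trace_rot_mul C.symU h1 h2 hz
  have tab' : LinearMap.trace F _ (a' * b').toLinearMap = -1 := ha' ▸ hb' ▸ trace_rot_mul C.symW k1 k2 hw
  rw [← ha] at g1 c1
  rw [← hb] at g2 c2
  rw [← ha'] at g3 c1
  rw [← hb'] at g4 c2
  obtain ⟨x, hx⟩ : ∃ x, x = C.kr a a' := ⟨_, rfl⟩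
  obtain ⟨x', hx'⟩ : ∃ x, x = C.kr b b' := ⟨_, rfl⟩
  rw [← hx] at c1
  rw [← hx'] at c2
  have hxx : x * x = 1 := by rw [hx, kr_mul, haa, haa', kr_one]
  have hxx' : x' * x' = 1 := by rw [hx', kr_mul, hbb, hbb', kr_one]
  have hxy : Commute x x' := by rw [hx, hx']; exact C.kr_comm hab hab'
  obtain ⟨E, hE⟩ : ∃ E, E = fourGroup hxx hxx' hxy := ⟨_, rfl⟩
  have hmemE : ∀ g, g ∈ E ↔ g = 1 ∨ g = x ∨ g = x' ∨ g = x * x' := fun g => by rw [hE]; rfl
  obtain ⟨l, hl⟩ : ∃ l, l = C.kr a 1 := ⟨_, rfl⟩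
  obtain ⟨l', hl'⟩ : ∃ l, l = C.kr b 1 := ⟨_, rfl⟩
  have hll : l * l = 1 := by rw [hl, kr_mul, haa, one_mul, kr_one]
  have hll' : l' * l' = 1 := by rw [hl', kr_mul, hbb, one_mul, kr_one]
  have hlgood : C.Good l := ⟨z₁, h1, by rw [hl, ha], hl ▸ g1⟩
  have hlgood' : C.Good l' := ⟨z₂, h2, by rw [hl', hb], hl' ▸ g2⟩
  have clx : Commute l x := by rw [hl, hx]; exact C.kr_comm rfl (by rw [one_mul, mul_one])
  have clx' : Commute l x' := by rw [hl, hx']; exact C.kr_comm hab (by rw [one_mul, mul_one])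
  have cl'x : Commute l' x := by rw [hl', hx]; exact C.kr_comm hab.symm (by rw [one_mul, mul_one])
  have cl'x' : Commute l' x' := by rw [hl', hx']; exact C.kr_comm rfl (by rw [one_mul, mul_one])
  obtain ⟨y, hy⟩ : ∃ y, y = c * l' * c⁻¹ := ⟨_, rfl⟩
  have hyH : y ∈ H := hy ▸ H.mul_mem (H.mul_mem hc (C.good_mem hlgood').1) (H.inv_mem hc)
  have hyy : y * y = 1 := by
    rw [hy, show c * l' * c⁻¹ * (c * l' * c⁻¹) = c * (l' * l') * c⁻¹ by group, hll', mul_one, mul_inv_cancel]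
  have cyx : Commute y x := by rw [hy]; exact ((c1.mul_left cl'x).mul_left c1.inv_left)
  have cyx' : Commute y x' := by rw [hy]; exact ((c2.mul_left cl'x').mul_left c2.inv_left)
  suffices C.InM y from C.inM_of_conj hC hC' (Or.inl hlgood') hc (hy ▸ this)
  have hrH : ∀ k : ℕ, (l * y) ^ k ∈ H := fun k => H.pow_mem (H.mul_mem (C.good_mem hlgood).1 hyH) k
  have crx : Commute (l * y) x := clx.mul_left cyx
  have crx' : Commute (l * y) x' := clx'.mul_left cyx'
  have hcε : ∀ ε ∈ E, Commute c ε := fun ε hε => by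
    rcases (hmemE ε).1 hε with rfl | rfl | rfl | rfl
    exacts [Commute.one_right _, c1, c2, c1.mul_right c2]
  rcases dihedral_cases E hll hyy with ⟨k, hkE, hk⟩ | ⟨k, hkE, hkn, hk, hk'⟩
  · exfalso
    obtain ⟨ε, hε⟩ : ∃ ε, ε = (l * y) ^ (2 * k + 1) := ⟨_, rfl⟩
    rw [← hε] at hkE hk
    obtain ⟨h, hh⟩ : ∃ h, h = c⁻¹ * (l * y) ^ k := ⟨_, rfl⟩
    have hconj : h * l * h⁻¹ = ε * l' := by
      rw [hh, show c⁻¹ * (l * y) ^ k * l * (c⁻¹ * (l * y) ^ k)⁻¹ = c⁻¹ * ((l * y) ^ k * l * ((l * y) ^ k)⁻¹) * c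
        by group, hk, hy, ← mul_assoc, (hcε ε hkE).inv_left.eq]
      group
    have hhx : Commute h x := hh ▸ c1.inv_left.mul_left (crx.pow_left k)
    have hconj' : h * (l * x) * h⁻¹ = ε * l' * x := by
      rw [← hconj, show h * (l * x) * h⁻¹ = h * l * h⁻¹ * (h * x * h⁻¹) by group, hhx.eq, mul_inv_cancel_right]
    have tl : (l : Matrix ι ι F).trace = -3 := C.trace_good hlgood
    have tlx : ((l * x : GL ι F) : Matrix ι ι F).trace = -3 := by
      rw [hl, hx, kr_mul, haa, one_mul]; exact C.trace_kr_one ta'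
    rcases (hmemE ε).1 hkE with e | e | e | e <;> rw [e] at hconj hconj'
    · refine C.trace_absurd hconj' tlx ?_
      rw [one_mul, hl', hx, kr_mul, one_mul, ← hab]; exact C.trace_kr_rot tab ta'
    · refine C.trace_absurd hconj tl ?_
      rw [hl', hx, kr_mul, mul_one]; exact C.trace_kr_rot tab ta'
    · refine C.trace_absurd hconj' tlx ?_
      rw [hl', hx', hx, kr_mul, kr_mul, hbb, one_mul, mul_one, ← hab']; exact C.trace_kr_rot ta tab'
    · refine C.trace_absurd hconj tl ?_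
      rw [hl', hx', hx, kr_mul, kr_mul, mul_assoc a, hbb, mul_one, mul_one]; exact C.trace_kr_rot ta tab'
  · obtain ⟨ε, hε⟩ : ∃ ε, ε = (l * y) ^ (2 * k) := ⟨_, rfl⟩
    rw [← hε] at hkE hk hk'
    have hk'' : c⁻¹ * (l * y) ^ k * c * l' * (c⁻¹ * (l * y) ^ k * c)⁻¹ = ε * l' := by
      rw [show c⁻¹ * (l * y) ^ k * c * l' * (c⁻¹ * (l * y) ^ k * c)⁻¹ =
        c⁻¹ * ((l * y) ^ k * (c * l' * c⁻¹) * ((l * y) ^ k)⁻¹) * c by group, ← hy, hk', hy, ← mul_assoc,
        (hcε ε hkE).inv_left.eq]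
      group
    have hε1 : ε = 1 := by
      rcases (hmemE ε).1 hkE with e | e | e | e
      · exact e
      all_goals exfalso; rw [e] at hk hk''
      · refine C.trace_absurd hk'' (C.trace_good hlgood') ?_
        rw [hl', hx, kr_mul, mul_one]; exact C.trace_kr_rot tab ta'
      · refine C.trace_absurd hk (C.trace_good hlgood) ?_
        rw [hl, hx', kr_mul, mul_one, ← hab]; exact C.trace_kr_rot tab tb'
      · refine C.trace_absurd hk'' (C.trace_good hlgood') ?_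
        rw [hl', hx', hx, kr_mul, kr_mul, mul_assoc a, hbb, mul_one, mul_one]; exact C.trace_kr_rot ta tab'
    rw [hε1, one_mul] at hk
    obtain ⟨w, hwdef⟩ : ∃ w, w = (l * y) ^ k := ⟨_, rfl⟩
    rw [← hwdef] at hk hkn
    have hwl : Commute w l := mul_inv_eq_iff_eq_mul.1 hk
    have hww : w * w = 1 := by rw [hwdef, ← pow_add, ← two_mul, ← hε, hε1]
    have hwx : Commute w x := hwdef ▸ crx.pow_left k
    have hwx' : Commute w x' := hwdef ▸ crx'.pow_left k
    have hwy : Commute y w := by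
      have e : y = l * (l * y) := by rw [← mul_assoc, hll, one_mul]
      have h := hwl.mul_right (hwdef ▸ (Commute.refl (l * y)).pow_left k : Commute w (l * y))
      rw [← e] at h
      exact h.symm
    have hwH : w ∈ H := hwdef ▸ hrH k
    obtain ⟨A, B, hA, hB, hAd, hBd, hwAB⟩ := C.exists_kr_mem (C.isKr_of_comm_good hC hlgood hwH hwl.eq) hwH
    have hAB := C.pow_of_kr hA hAd (k := 2) (by rw [pow_two, ← hwAB, hww])
    rw [pow_two, pow_two] at hAB
    have eA := (C.comm_rot hA hAd h1 (B' := 1) (B := B) (by rw [← hwAB, ← ha, ← hl]; exact hwl.eq)).1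
    have eb := C.comm_rot hA hAd h2 (B := B) (B' := b') (by rw [← hwAB, ← hb, ← hx']; exact hwx'.eq)
    have ea := C.comm_rot hA hAd h1 (B := B) (B' := a') (by rw [← hwAB, ← ha, ← hx]; exact hwx.eq)
    obtain ⟨g, hgE, B', hg, hB'⟩ : ∃ g ∈ E, ∃ B', w * g = C.kr 1 B' ∧ B' * B' = 1 := by
      rcases four_of_comm C.symU h1 h2 hz hA hAd hAB.1 eA eb.1 with h | h | h | h
      · exact ⟨1, E.one_mem, B, by rw [mul_one, hwAB, h], hAB.2⟩
      · refine ⟨x, (hmemE _).2 (Or.inr (Or.inl rfl)), B * a', by rw [hwAB, hx, kr_mul, h, ← ha, haa], ?_⟩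
        rw [Commute.mul_mul_mul_comm ea.2.symm, hAB.2, haa', one_mul]
      · refine ⟨x', (hmemE _).2 (Or.inr (Or.inr (Or.inl rfl))), B * b', by rw [hwAB, hx', kr_mul, h, ← hb, hbb], ?_⟩
        rw [Commute.mul_mul_mul_comm eb.2.symm, hAB.2, hbb', one_mul]
      · refine ⟨x * x', (hmemE _).2 (Or.inr (Or.inr (Or.inr rfl))), B * (a' * b'), ?_, ?_⟩
        · rw [hwAB, hx, hx', kr_mul, kr_mul, h, ← ha, ← hb, Commute.mul_mul_mul_comm (hab.symm : Commute b a), haa, hbb, one_mul]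
        · rw [Commute.mul_mul_mul_comm ((Commute.mul_right ea.2 eb.2).symm), hAB.2,
            Commute.mul_mul_mul_comm (hab'.symm : Commute b' a'), haa', hbb', one_mul, one_mul]
    have hgH : w * g ∈ H := by
      refine H.mul_mem hwH ?_
      have hxH : x ∈ H := by
        have := H.mul_mem g1 g3
        rwa [kr_mul, mul_one, one_mul, ← hx] at this
      have hxH' : x' ∈ H := by
        have := H.mul_mem g2 g4
        rwa [kr_mul, mul_one, one_mul, ← hx'] at this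
      rcases (hmemE g).1 hgE with rfl | rfl | rfl | rfl
      exacts [H.one_mem, hxH, hxH', H.mul_mem hxH hxH']
    have hne : B' ≠ 1 := fun e => hkn (by
      rw [e, kr_one] at hg
      rw [eq_inv_of_mul_eq_one_left hg]
      exact E.inv_mem hgE)
    refine C.inM_of_comm_good hC hC' (C.good2_of_snd (hg ▸ hgH) hB' hne) hyH ?_
    rw [← hg]
    refine (hwy.mul_right ?_).eq
    rcases (hmemE g).1 hgE with rfl | rfl | rfl | rfl
    exacts [Commute.one_right _, cyx, cyx', cyx.mul_right cyx']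

/-- Centralisers of double half turns with good axes. -/
theorem cent_gg (hC : C.NR) (hC' : C.flip.NR) {z z' : V3 F} (hz : C.fU z z ≠ 0) (hz' : C.fW z' z' ≠ 0)
    (g1 : C.kr (rotE C.fU hz) 1 ∈ H) (g3 : C.kr 1 (rotE C.fW hz') ∈ H) {c : GL ι F} (hc : c ∈ H)
    (hcx : Commute c (C.kr (rotE C.fU hz) (rotE C.fW hz'))) : C.InM c := by
  obtain ⟨u, hu, hzu, g2⟩ := C.exists_good_perp hz
  obtain ⟨a, ha⟩ : ∃ a, a = rotE C.fU hz := ⟨_, rfl⟩
  obtain ⟨b, hb⟩ : ∃ b, b = rotE C.fU hu := ⟨_, rfl⟩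
  obtain ⟨a', ha'⟩ : ∃ a, a = rotE C.fW hz' := ⟨_, rfl⟩
  have haa : a * a = 1 := ha ▸ rot_sq hz
  have hbb : b * b = 1 := hb ▸ rot_sq hu
  have haa' : a' * a' = 1 := ha' ▸ rot_sq hz'
  have hab : a * b = b * a := ha ▸ hb ▸ rot_mul_comm C.symU hz hu hzu
  have ta' : LinearMap.trace F _ a'.toLinearMap = -1 := ha' ▸ trace_rotE C.symW hz'
  have tab : LinearMap.trace F _ (a * b).toLinearMap = -1 := ha ▸ hb ▸ trace_rot_mul C.symU hz hu hzu
  rw [← ha, ← ha'] at hcx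
  obtain ⟨x, hx⟩ : ∃ x, x = C.kr a a' := ⟨_, rfl⟩
  rw [← hx] at hcx
  have hxx : x * x = 1 := by rw [hx, kr_mul, haa, haa', kr_one]
  obtain ⟨lz, hlz⟩ : ∃ l, l = C.kr a 1 := ⟨_, rfl⟩
  obtain ⟨l, hl⟩ : ∃ l, l = C.kr b 1 := ⟨_, rfl⟩
  have hll : l * l = 1 := by rw [hl, kr_mul, hbb, one_mul, kr_one]
  have hlgood : C.Good l := ⟨u, hu, by rw [hl, hb], hl ▸ hb ▸ g2⟩
  have hzgood : C.Good lz := ⟨z, hz, by rw [hlz, ha], hlz ▸ ha ▸ g1⟩
  have hzz : lz * lz = 1 := C.good_sq hzgood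
  have clx : Commute l x := by rw [hl, hx]; exact C.kr_comm hab.symm (by rw [one_mul, mul_one])
  have czx : Commute lz x := by rw [hlz, hx]; exact C.kr_comm rfl (by rw [one_mul, mul_one])
  obtain ⟨y, hy⟩ : ∃ y, y = c * lz * c⁻¹ := ⟨_, rfl⟩
  have hyH : y ∈ H := hy ▸ H.mul_mem (H.mul_mem hc (C.good_mem hzgood).1) (H.inv_mem hc)
  have hyy : y * y = 1 := by
    rw [hy, show c * lz * c⁻¹ * (c * lz * c⁻¹) = c * (lz * lz) * c⁻¹ by group, hzz, mul_one, mul_inv_cancel]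
  have cyx : Commute y x := by rw [hy]; exact ((hcx.mul_left czx).mul_left hcx.inv_left)
  suffices C.InM y from C.inM_of_conj hC hC' (Or.inl hzgood) hc (hy ▸ this)
  have crx : Commute (l * y) x := clx.mul_left cyx
  have tlx : ((x * l : GL ι F) : Matrix ι ι F).trace = 1 := by
    rw [hl, hx, kr_mul, mul_one]; exact C.trace_kr_rot tab ta'
  rcases dihedral_cases (Subgroup.zpowers x) hll hyy with ⟨k, hkE, hk⟩ | ⟨k, hkE, hkn, hk, -⟩
  · exfalso
    obtain ⟨ε, hε⟩ : ∃ ε, ε = (l * y) ^ (2 * k + 1) := ⟨_, rfl⟩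
    rw [← hε] at hkE hk
    obtain ⟨h, hh⟩ : ∃ h, h = c⁻¹ * (l * y) ^ k := ⟨_, rfl⟩
    have hcε : Commute c ε := by
      rcases eq_of_mem_zpowers hxx hkE with e | e <;> rw [e]
      exacts [Commute.one_right _, hcx]
    have hconj : h * l * h⁻¹ = ε * lz := by
      rw [hh, show c⁻¹ * (l * y) ^ k * l * (c⁻¹ * (l * y) ^ k)⁻¹ = c⁻¹ * ((l * y) ^ k * l * ((l * y) ^ k)⁻¹) * c
        by group, hk, hy, ← mul_assoc, hcε.inv_left.eq]
      group
    have hhx : Commute h x := hh ▸ hcx.inv_left.mul_left (crx.pow_left k)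
    have hconj' : h⁻¹ * (ε * lz * x) * h⁻¹⁻¹ = x * l := by
      rw [← clx.eq, ← hconj,
        show h⁻¹ * (h * l * h⁻¹ * x) * h⁻¹⁻¹ = l * (h⁻¹ * x * h) by group, hhx.inv_left.eq, inv_mul_cancel_right]
    refine C.trace_absurd hconj' ?_ tlx
    rcases eq_of_mem_zpowers hxx hkE with e | e <;> rw [e, hlz, hx]
    · rw [one_mul, kr_mul, haa, one_mul]; exact C.trace_kr_one ta'
    · rw [kr_mul, kr_mul, haa, one_mul, mul_one, haa']
      have h := C.trace_good hzgood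
      rwa [hlz] at h
  · obtain ⟨ε, hε⟩ : ∃ ε, ε = (l * y) ^ (2 * k) := ⟨_, rfl⟩
    rw [← hε] at hkE hk
    have hε1 : ε = 1 := by
      refine (eq_of_mem_zpowers hxx hkE).resolve_right fun e => ?_
      exact C.trace_absurd (hk.trans (by rw [e])) (C.trace_good hlgood) tlx
    rw [hε1, one_mul] at hk
    obtain ⟨w, hwdef⟩ : ∃ w, w = (l * y) ^ k := ⟨_, rfl⟩
    rw [← hwdef] at hk hkn
    have hwl : Commute w l := mul_inv_eq_iff_eq_mul.1 hk
    have hww : w * w = 1 := by rw [hwdef, ← pow_add, ← two_mul, ← hε, hε1]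
    have hwx : Commute w x := hwdef ▸ crx.pow_left k
    have hwy : Commute y w := by
      have e : y = l * (l * y) := by rw [← mul_assoc, hll, one_mul]
      have h := hwl.mul_right (hwdef ▸ (Commute.refl (l * y)).pow_left k : Commute w (l * y))
      rw [← e] at h
      exact h.symm
    have hwH : w ∈ H := hwdef ▸ H.pow_mem (H.mul_mem (C.good_mem hlgood).1 hyH) k
    have hxH : x ∈ H := by
      have := H.mul_mem g1 g3
      rwa [kr_mul, mul_one, one_mul, ← ha, ← ha', ← hx] at this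
    obtain ⟨A, B, hA, hB, hAd, hBd, hwAB⟩ := C.exists_kr_mem (C.isKr_of_comm_good hC hlgood hwH hwl.eq) hwH
    obtain ⟨hA2, hB2⟩ := C.pow_of_kr hA hAd (k := 2) (by rw [pow_two, ← hwAB, hww])
    rw [pow_two] at hA2 hB2
    have eu := (C.comm_rot hA hAd hu (B' := 1) (B := B) (by rw [← hwAB, ← hb, ← hl]; exact hwl.eq)).1
    have ez := C.comm_rot hA hAd hz (B := B) (B' := a') (by rw [← hwAB, ← ha, ← hx]; exact hwx.eq)
    have hsnd : ∀ {g : GL ι F} {B' : V3 F ≃ₗ[F] V3 F}, g ∈ H → Commute y g → g ≠ 1 → B' * B' = 1 →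
        g = C.kr 1 B' → C.InM y := fun {g B'} hg hgy hg1 hB' e => by
      refine C.inM_of_comm_good hC hC' (C.good2_of_snd (e ▸ hg) hB' ?_) hyH (e ▸ hgy.eq)
      exact fun h => hg1 (by rw [e, h, kr_one])
    have hw1 : w ≠ 1 := fun h => hkn (h ▸ Subgroup.one_mem _)
    have hxw : x * w ≠ 1 := fun h => hkn (by
      rw [show w = x from (eq_inv_of_mul_eq_one_right h).trans (inv_eq_of_mul_eq_one_right hxx)]
      exact Subgroup.mem_zpowers x)
    have hx2 : B * B = 1 → (a' * B) * (a' * B) = 1 := fun h => by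
      rw [(Commute.mul_mul_mul_comm (ez.2 : Commute B a')), haa', h, one_mul]
    rcases four_of_comm C.symU hz hu hzu hA hAd hA2 ez.1 eu with h | h | h | h
    · exact hsnd hwH hwy hw1 hB2 (by rw [hwAB, h])
    · exact hsnd (H.mul_mem hxH hwH) (cyx.mul_right hwy) hxw (hx2 hB2)
        (by rw [hwAB, hx, kr_mul, h, ← ha, haa])
    all_goals
      have hAH : C.kr A 1 ∈ H := by
        rw [h]
        first
          | exact g2
          | (have := H.mul_mem g1 g2
             rwa [kr_mul, mul_one] at this)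
      rcases eq_rot C.symW hB hBd hB2 with rfl | ⟨s, hs, rfl⟩
      · refine C.inM_of_comm_good hC hC' (Or.inl ?_) hyH hwy.eq
        rcases eq_rot C.symU hA hAd hA2 with rfl | ⟨q, hq, rfl⟩
        · exact absurd (hwAB.trans C.kr_one) hw1
        · exact ⟨q, hq, hwAB, hwH⟩
      rcases eq_rot C.symU hA hAd hA2 with rfl | ⟨q, hq, rfl⟩
      · exact hsnd hwH hwy hw1 hB2 hwAB
      have hsH : C.kr 1 (rotE C.fW hs) ∈ H := by
        have := H.mul_mem hAH hwH
        rwa [hwAB, kr_mul, rot_sq hq, one_mul] at this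
      by_cases e1 : rotE C.fW hs = a'
      · refine C.inM_of_comm_good hC hC' (Or.inl ?_) hyH (cyx.mul_right hwy).eq
        have hxwH := H.mul_mem hxH hwH
        have e2 : x * w = C.kr (a * rotE C.fU hq) 1 := by rw [hwAB, hx, kr_mul, e1, haa']
        by_cases e3 : rotE C.fU hq = a
        · exact absurd (by rw [e2, e3, haa, kr_one]) hxw
        · have hqz : C.fU z q = 0 := by
            rw [C.symU.symm]
            exact perp_of_comm C.symU hq hz ez.1 (by rw [← ha]; exact e3)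
          obtain ⟨v, hv, hzv, hqv, hexp⟩ := exists_third C.symU hz hq hqz
          exact ⟨v, hv, by rw [e2, ha, (rot_prod C.symU hz hq hv hqz hzv hqv hexp).1], hxwH⟩
      by_cases e3 : rotE C.fU hq = a
      · exact hsnd (H.mul_mem hxH hwH) (cyx.mul_right hwy) hxw (hx2 hB2) (by rw [hwAB, hx, kr_mul, e3, haa])
      refine C.cent_four hC hC' (z₁ := z) (z₂ := q) (w₁ := z') (w₂ := s) hz hq hz' hs ?_ ?_ g1 hAH g3 hsH hyH
        (ha ▸ ha' ▸ hx ▸ cyx) (hwAB ▸ hwy)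
      · rw [C.symU.symm]
        exact perp_of_comm C.symU hq hz ez.1 (by rw [← ha]; exact e3)
      · rw [C.symW.symm]
        refine perp_of_comm C.symW hs hz' ?_ (by rw [← ha']; exact e1)
        rw [← ha']; exact ez.2

/-- Involutions with trivial or good first factor. -/
theorem cent_fst (hC : C.NR) (hC' : C.flip.NR) {A B : V3 F ≃ₗ[F] V3 F} (hw : C.kr A B ∈ H)
    (h2 : C.kr A B * C.kr A B = 1) (hne : C.kr A B ≠ 1) (hA : IsIso C.fU A.toLinearMap)
    (hAd : LinearMap.det A.toLinearMap = 1) (hB : IsIso C.fW B.toLinearMap)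
    (hBd : LinearMap.det B.toLinearMap = 1) (hAH : C.kr A 1 ∈ H) {c : GL ι F} (hc : c ∈ H)
    (hcw : Commute c (C.kr A B)) : C.InM c := by
  obtain ⟨hA2, hB2⟩ := C.pow_of_kr hA hAd (k := 2) (by rw [pow_two, h2])
  rw [pow_two] at hA2 hB2
  rcases eq_rot C.symU hA hAd hA2 with rfl | ⟨q, hq, rfl⟩
  · refine C.inM_of_comm_good hC hC' (C.good2_of_snd hw hB2 ?_) hc hcw.eq
    exact fun h => hne (by rw [h, kr_one])
  rcases eq_rot C.symW hB hBd hB2 with rfl | ⟨s, hs, rfl⟩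
  · exact C.inM_of_comm_good hC hC' (Or.inl ⟨q, hq, rfl, hw⟩) hc hcw.eq
  refine C.cent_gg hC hC' hq hs hAH ?_ hc hcw
  have := H.mul_mem hAH hw
  rwa [kr_mul, rot_sq hq, one_mul] at this

/-- An element of trace one among the product maps commutes with a half turn. -/
theorem exists_good_comm {y : GL ι F} (hy : y ∈ H) (hyM : C.InM y) (hyy : y * y = 1)
    (htr : (y : Matrix ι ι F).trace = 1) : ∃ l, C.Good l ∧ Commute l y := by
  rcases hyM with hk | ⟨A, B, h⟩
  · obtain ⟨A, B, hA, hB, hAd, -, rfl⟩ := C.exists_kr_mem hk hy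
    have hA2 : A * A = 1 := by rw [← pow_two]; exact (C.pow_of_kr hA hAd (k := 2) (by rw [pow_two, hyy])).1
    rcases eq_rot C.symU hA hAd hA2 with rfl | ⟨q, hq, rfl⟩
    · obtain ⟨z, hz, hzH⟩ := C.exists_good
      exact ⟨_, C.good_of_mem hz hzH, C.kr_comm (by rw [one_mul, mul_one]) (by rw [one_mul, mul_one])⟩
    · obtain ⟨u, hu, hqu, huH⟩ := C.exists_good_perp hq
      exact ⟨_, C.good_of_mem hu huH,
        C.kr_comm (rot_mul_comm C.symU hq hu hqu).symm (by rw [one_mul, mul_one])⟩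
  · exfalso
    have h' : ∀ u v, act y (C.ten u v) = C.ten (B v) (A u) := h
    obtain ⟨l, hl, hl2⟩ : ∃ l : F, (∀ u, B (A u) = l • u) ∧ l * l = 1 := by
      have hne : A (B C.w) ≠ 0 := fun e => C.w_ne
        (B.injective ((A.injective (e.trans (map_zero A).symm)).trans (map_zero B).symm))
      obtain ⟨c, hc⟩ := exists_ne C.symW hne
      obtain ⟨l, hl⟩ : ∃ l, l = C.fW C.w c / C.fW (A (B C.w)) c := ⟨_, rfl⟩
      have e : ∀ u, B (A u) = l • u := fun u => by
        have e := congrArg (fun g => C.co c (act g (C.ten u C.w))) hyy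
        simp only [act_mul, h', act_one, co_ten] at e
        rw [hl, div_eq_inv_mul, mul_smul, ← e, inv_smul_smul₀ hc]
      refine ⟨l, e, ?_⟩
      have eA : ∀ v, A (B v) = l • v := fun v => by
        conv_lhs => rw [← A.apply_symm_apply v, e, map_smul, A.apply_symm_apply]
      have e' := congrArg (fun g => act g (C.ten C.w C.w)) hyy
      simp only [act_mul, h', act_one, e, eA, map_smul, LinearMap.smul_apply, smul_smul] at e'
      have hne : C.ten C.w C.w ≠ 0 := fun h0 =>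
        C.w_ne (C.ten_right_inj C.w_ne (h0.trans (map_zero (C.ten C.w)).symm))
      exact smul_left_injective F hne (e'.trans (one_smul F _).symm)
    have htr' : (y : Matrix ι ι F).trace = 3 * l := by
      have e : (y : Matrix ι ι F).trace = LinearMap.trace F _ (actL y) := by
        rw [LinearMap.trace_eq_matrix_trace F (Pi.basisFun F ι), LinearMap.toMatrix_eq_toMatrix']
        exact congrArg Matrix.trace (LinearMap.toMatrix'_toLin' _).symm
      rw [e, LinearMap.trace_eq_matrix_trace F C.bV, Matrix.trace]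
      have hc : ∀ i j, Matrix.diag (LinearMap.toMatrix C.bV C.bV (actL y)) (i, j) =
          LinearMap.toMatrix' B.toLinearMap i j * LinearMap.toMatrix' A.toLinearMap j i := fun i j => by
        rw [Matrix.diag_apply, LinearMap.toMatrix_apply, C.bV_eq]
        show C.bV.repr (act y _) _ = _
        rw [h', repr_ten]
        simp [LinearMap.toMatrix'_apply]
      simp only [Fintype.sum_prod_type, hc]
      have hBA : LinearMap.toMatrix' B.toLinearMap * LinearMap.toMatrix' A.toLinearMap = l • 1 := by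
        rw [← LinearMap.toMatrix'_comp, show B.toLinearMap ∘ₗ A.toLinearMap = l • LinearMap.id from
          LinearMap.ext hl, map_smul, LinearMap.toMatrix'_id]
      have e2 := congrArg Matrix.trace hBA
      rw [Matrix.trace_smul, Matrix.trace_one, Fintype.card_fin, smul_eq_mul, Matrix.trace] at e2
      simp only [Matrix.diag_apply, Matrix.mul_apply] at e2
      rw [e2]; push_cast; ring
    rw [htr'] at htr
    have h4 : (4 : F) * 2 = 0 := by linear_combination (3 * l + 1) * htr - 9 * hl2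
    exact mul_ne_zero C.symU.four_ne C.two h4

/-- A conjugate of a double half turn among the product maps comes from a product map. -/
theorem inM_of_gg_conj (hC : C.NR) (hC' : C.flip.NR) {z z' : V3 F} (hz : C.fU z z ≠ 0) (hz' : C.fW z' z' ≠ 0)
    (g1 : C.kr (rotE C.fU hz) 1 ∈ H) (g3 : C.kr 1 (rotE C.fW hz') ∈ H) {c : GL ι F} (hc : c ∈ H)
    (hy : C.InM (c * C.kr (rotE C.fU hz) (rotE C.fW hz') * c⁻¹)) : C.InM c := by
  obtain ⟨x, hx⟩ : ∃ x, x = C.kr (rotE C.fU hz) (rotE C.fW hz') := ⟨_, rfl⟩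
  rw [← hx] at hy
  have hxH : x ∈ H := by
    have := H.mul_mem g1 g3
    rwa [kr_mul, mul_one, one_mul, ← hx] at this
  have hxx : x * x = 1 := hx ▸ C.kr_rot_sq hz hz'
  obtain ⟨l, hl, hly⟩ := C.exists_good_comm (H.mul_mem (H.mul_mem hc hxH) (H.inv_mem hc)) hy
    (by rw [show c * x * c⁻¹ * (c * x * c⁻¹) = c * (x * x) * c⁻¹ by group, hxx, mul_one, mul_inv_cancel])
    (by rw [Units.val_mul, Units.val_mul, Matrix.trace_units_conj, hx,
      C.trace_kr_rot (trace_rotE C.symU hz) (trace_rotE C.symW hz')])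
  have hcom : Commute (c⁻¹ * l * c) x := by
    show c⁻¹ * l * c * x = x * (c⁻¹ * l * c)
    rw [show c⁻¹ * l * c * x = c⁻¹ * (l * (c * x * c⁻¹)) * c by group, hly.eq]
    group
  have h := C.cent_gg hC hC' hz hz' g1 g3 (H.mul_mem (H.mul_mem (H.inv_mem hc) (C.good_mem hl).1) hc)
    (hx ▸ hcom)
  have h' := C.inM_of_conj hC hC' (Or.inl hl) (H.inv_mem hc) (by rwa [inv_inv])
  have h'' := C.inM_inv h'
  rwa [inv_inv] at h''

/-- Centralisers of double half turns with bad axes. -/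
theorem cent_bb (hC : C.NR) (hC' : C.flip.NR) {z z' : V3 F} (hz : C.fU z z ≠ 0) (hz' : C.fW z' z' ≠ 0)
    (hxH : C.kr (rotE C.fU hz) (rotE C.fW hz') ∈ H) {c : GL ι F} (hc : c ∈ H)
    (hcx : Commute c (C.kr (rotE C.fU hz) (rotE C.fW hz'))) : C.InM c := by
  obtain ⟨u, hu, hzu, g1⟩ := C.exists_good_perp hz
  obtain ⟨u', hu', hzu', g3⟩ : ∃ u', ∃ hu' : C.fW u' u' ≠ 0, C.fW z' u' = 0 ∧ C.kr 1 (rotE C.fW hu') ∈ H := by
    obtain ⟨u', hu', hzu', g3⟩ := C.flip.exists_good_perp hz'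
    rw [flip_kr] at g3
    exact ⟨u', hu', hzu', g3⟩
  obtain ⟨a, ha⟩ : ∃ a, a = rotE C.fU hz := ⟨_, rfl⟩
  obtain ⟨b, hb⟩ : ∃ b, b = rotE C.fU hu := ⟨_, rfl⟩
  obtain ⟨a', ha'⟩ : ∃ a, a = rotE C.fW hz' := ⟨_, rfl⟩
  obtain ⟨b', hb'⟩ : ∃ b, b = rotE C.fW hu' := ⟨_, rfl⟩
  have haa : a * a = 1 := ha ▸ rot_sq hz
  have hbb : b * b = 1 := hb ▸ rot_sq hu
  have haa' : a' * a' = 1 := ha' ▸ rot_sq hz'
  have hab : a * b = b * a := ha ▸ hb ▸ rot_mul_comm C.symU hz hu hzu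
  have hab' : a' * b' = b' * a' := ha' ▸ hb' ▸ rot_mul_comm C.symW hz' hu' hzu'
  have ta' : LinearMap.trace F _ a'.toLinearMap = -1 := ha' ▸ trace_rotE C.symW hz'
  have tb : LinearMap.trace F _ b.toLinearMap = -1 := hb ▸ trace_rotE C.symU hu
  have tb' : LinearMap.trace F _ b'.toLinearMap = -1 := hb' ▸ trace_rotE C.symW hu'
  have tab : LinearMap.trace F _ (a * b).toLinearMap = -1 := ha ▸ hb ▸ trace_rot_mul C.symU hz hu hzu
  have tab' : LinearMap.trace F _ (a' * b').toLinearMap = -1 := ha' ▸ hb' ▸ trace_rot_mul C.symW hz' hu' hzu'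
  rw [← ha, ← ha'] at hcx hxH
  obtain ⟨x, hx⟩ : ∃ x, x = C.kr a a' := ⟨_, rfl⟩
  rw [← hx] at hcx hxH
  have hxx : x * x = 1 := by rw [hx, kr_mul, haa, haa', kr_one]
  obtain ⟨x₂, hx₂⟩ : ∃ g, g = C.kr b b' := ⟨_, rfl⟩
  have hx₂H : x₂ ∈ H := by
    have := H.mul_mem g1 g3
    rwa [kr_mul, mul_one, one_mul, ← hb, ← hb', ← hx₂] at this
  have hx₂x₂ : x₂ * x₂ = 1 := by rw [hx₂, hb, hb']; exact C.kr_rot_sq hu hu'
  obtain ⟨l, hl⟩ : ∃ l, l = C.kr b 1 := ⟨_, rfl⟩
  have hll : l * l = 1 := by rw [hl, kr_mul, hbb, one_mul, kr_one]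
  have hlgood : C.Good l := ⟨u, hu, by rw [hl, hb], hl ▸ hb ▸ g1⟩
  have clx : Commute l x := by rw [hl, hx]; exact C.kr_comm hab.symm (by rw [one_mul, mul_one])
  have c2x : Commute x₂ x := by rw [hx₂, hx]; exact C.kr_comm hab.symm hab'.symm
  obtain ⟨y, hy⟩ : ∃ y, y = c * x₂ * c⁻¹ := ⟨_, rfl⟩
  have hyH : y ∈ H := hy ▸ H.mul_mem (H.mul_mem hc hx₂H) (H.inv_mem hc)
  have hyy : y * y = 1 := by
    rw [hy, show c * x₂ * c⁻¹ * (c * x₂ * c⁻¹) = c * (x₂ * x₂) * c⁻¹ by group, hx₂x₂, mul_one, mul_inv_cancel]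
  have cyx : Commute y x := by rw [hy]; exact ((hcx.mul_left c2x).mul_left hcx.inv_left)
  suffices C.InM y by
    refine C.inM_of_gg_conj hC hC' hu hu' g1 g3 hc ?_
    rwa [← hb, ← hb', ← hx₂, ← hy]
  have crx : Commute (l * y) x := clx.mul_left cyx
  have tl := C.trace_good hlgood
  rcases dihedral_cases (Subgroup.zpowers x) hll hyy with ⟨k, hkE, hk⟩ | ⟨k, hkE, hkn, hk, -⟩
  · exfalso
    obtain ⟨ε, hε⟩ : ∃ ε, ε = (l * y) ^ (2 * k + 1) := ⟨_, rfl⟩
    rw [← hε] at hkE hk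
    obtain ⟨h, hh⟩ : ∃ h, h = c⁻¹ * (l * y) ^ k := ⟨_, rfl⟩
    have hcε : Commute c ε := by
      rcases eq_of_mem_zpowers hxx hkE with e | e <;> rw [e]
      exacts [Commute.one_right _, hcx]
    have hconj : h * l * h⁻¹ = ε * x₂ := by
      rw [hh, show c⁻¹ * (l * y) ^ k * l * (c⁻¹ * (l * y) ^ k)⁻¹ = c⁻¹ * ((l * y) ^ k * l * ((l * y) ^ k)⁻¹) * c
        by group, hk, hy, ← mul_assoc, hcε.inv_left.eq]
      group
    refine C.trace_absurd hconj tl ?_
    rcases eq_of_mem_zpowers hxx hkE with e | e <;> rw [e, hx₂]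
    · rw [one_mul]; exact C.trace_kr_rot tb tb'
    · rw [hx, kr_mul]; exact C.trace_kr_rot tab tab'
  · obtain ⟨ε, hε⟩ : ∃ ε, ε = (l * y) ^ (2 * k) := ⟨_, rfl⟩
    rw [← hε] at hkE hk
    have hε1 : ε = 1 := by
      refine (eq_of_mem_zpowers hxx hkE).resolve_right fun e => ?_
      refine C.trace_absurd (hk.trans (by rw [e])) tl ?_
      rw [hl, hx, kr_mul, mul_one]; exact C.trace_kr_rot tab ta'
    rw [hε1, one_mul] at hk
    obtain ⟨w, hwdef⟩ : ∃ w, w = (l * y) ^ k := ⟨_, rfl⟩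
    rw [← hwdef] at hk hkn
    have hwl : Commute w l := mul_inv_eq_iff_eq_mul.1 hk
    have hww : w * w = 1 := by rw [hwdef, ← pow_add, ← two_mul, ← hε, hε1]
    have hwx : Commute w x := hwdef ▸ crx.pow_left k
    have hwy : Commute y w := by
      have e : y = l * (l * y) := by rw [← mul_assoc, hll, one_mul]
      have h := hwl.mul_right (hwdef ▸ (Commute.refl (l * y)).pow_left k : Commute w (l * y))
      rw [← e] at h
      exact h.symm
    have hwH : w ∈ H := hwdef ▸ H.pow_mem (H.mul_mem (C.good_mem hlgood).1 hyH) k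
    obtain ⟨A, B, hA, hB, hAd, hBd, hwAB⟩ := C.exists_kr_mem (C.isKr_of_comm_good hC hlgood hwH hwl.eq) hwH
    obtain ⟨hA2, hB2⟩ := C.pow_of_kr hA hAd (k := 2) (by rw [pow_two, ← hwAB, hww])
    rw [pow_two] at hA2 hB2
    have eu := (C.comm_rot hA hAd hu (B' := 1) (B := B) (by rw [← hwAB, ← hb, ← hl]; exact hwl.eq)).1
    have ez := C.comm_rot hA hAd hz (B := B) (B' := a') (by rw [← hwAB, ← ha, ← hx]; exact hwx.eq)
    have hw1 : w ≠ 1 := fun h => hkn (h ▸ Subgroup.one_mem _)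
    have hxw : x * w ≠ 1 := fun h => hkn (by
      rw [show w = x from (eq_inv_of_mul_eq_one_right h).trans (inv_eq_of_mul_eq_one_right hxx)]
      exact Subgroup.mem_zpowers x)
    have hx2 : x * w * (x * w) = 1 := by rw [hwx.mul_mul_mul_comm, hxx, hww, one_mul]
    have hAi : IsIso C.fU (a * A).toLinearMap := fun p q => ((ha ▸ rotE_iso C.symU hz) _ _).trans (hA p q)
    have hBi : IsIso C.fW (a' * B).toLinearMap := fun p q => ((ha' ▸ rotE_iso C.symW hz') _ _).trans (hB p q)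
    have hAdd : LinearMap.det (a * A).toLinearMap = 1 := by
      show LinearMap.det (a.toLinearMap ∘ₗ A.toLinearMap) = 1
      rw [LinearMap.det_comp, ha, det_rotE C.symU (Module.finrank_fin_fun F), hAd, one_mul]
    have hBdd : LinearMap.det (a' * B).toLinearMap = 1 := by
      show LinearMap.det (a'.toLinearMap ∘ₗ B.toLinearMap) = 1
      rw [LinearMap.det_comp, ha', det_rotE C.symW (Module.finrank_fin_fun F), hBd, one_mul]
    have hxwAB : x * w = C.kr (a * A) (a' * B) := by rw [hwAB, hx, kr_mul]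
    have k1 : C.kr A 1 ∈ H → C.InM y := fun h => C.cent_fst hC hC' (hwAB ▸ hwH) (hwAB ▸ hww) (hwAB ▸ hw1)
      hA hAd hB hBd h hyH (hwAB ▸ hwy)
    have k2 : C.kr (a * A) 1 ∈ H → C.InM y := fun h => C.cent_fst hC hC' (hxwAB ▸ H.mul_mem hxH hwH)
      (hxwAB ▸ hx2) (hxwAB ▸ hxw) hAi hAdd hBi hBdd h hyH (hxwAB ▸ cyx.mul_right hwy)
    have h1H : C.kr (1 : V3 F ≃ₗ[F] V3 F) 1 ∈ H := by rw [kr_one]; exact H.one_mem
    rcases four_of_comm C.symU hz hu hzu hA hAd hA2 ez.1 eu with h | h | h | h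
    · exact k1 (h ▸ h1H)
    · exact k2 (by rw [h, ← ha, haa]; exact h1H)
    · exact k1 (h ▸ g1)
    · exact k2 (by rw [h, ← ha, ← mul_assoc, haa, one_mul]; exact g1)

/-- Centralisers of involutions among the Kronecker elements. -/
theorem cent_invol (hC : C.NR) (hC' : C.flip.NR) {w c : GL ι F} (hw : w ∈ H) (hk : IsKr C.ten w)
    (hww : w * w = 1) (hne : w ≠ 1) (hc : c ∈ H) (hcw : Commute c w) : C.InM c := by
  obtain ⟨A, B, hA, hB, hAd, hBd, rfl⟩ := C.exists_kr_mem hk hw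
  obtain ⟨hA2, hB2⟩ := C.pow_of_kr hA hAd (k := 2) (by rw [pow_two, hww])
  rw [pow_two] at hA2 hB2
  rcases eq_rot C.symU hA hAd hA2 with rfl | ⟨q, hq, rfl⟩
  · exact C.cent_fst hC hC' hw hww hne hA hAd hB hBd (by rw [kr_one]; exact H.one_mem) hc hcw
  rcases eq_rot C.symW hB hBd hB2 with rfl | ⟨s, hs, rfl⟩
  · exact C.cent_fst hC hC' hw hww hne hA hAd hB hBd hw hc hcw
  exact C.cent_bb hC hC' hq hs hw hc hcw

/-- With rigid radicals every element of the overgroup is a product map. -/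
theorem inM_all (hC : C.NR) (hC' : C.flip.NR) {c : GL ι F} (hc : c ∈ H) : C.InM c := by
  obtain ⟨z, hz, g1⟩ := C.exists_good
  obtain ⟨z', hz', g3⟩ : ∃ z', ∃ hz' : C.fW z' z' ≠ 0, C.kr 1 (rotE C.fW hz') ∈ H := by
    obtain ⟨z', hz', g3⟩ := C.flip.exists_good
    rw [flip_kr] at g3
    exact ⟨z', hz', g3⟩
  obtain ⟨x, hx⟩ : ∃ x, x = C.kr (rotE C.fU hz) (rotE C.fW hz') := ⟨_, rfl⟩
  have hxH : x ∈ H := by
    have := H.mul_mem g1 g3
    rwa [kr_mul, mul_one, one_mul, ← hx] at this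
  have hxx : x * x = 1 := hx ▸ C.kr_rot_sq hz hz'
  obtain ⟨y, hy⟩ : ∃ y, y = c * x * c⁻¹ := ⟨_, rfl⟩
  have hyH : y ∈ H := hy ▸ H.mul_mem (H.mul_mem hc hxH) (H.inv_mem hc)
  have hyy : y * y = 1 := by
    rw [hy, show c * x * c⁻¹ * (c * x * c⁻¹) = c * (x * x) * c⁻¹ by group, hxx, mul_one, mul_inv_cancel]
  suffices C.InM y from C.inM_of_gg_conj hC hC' hz hz' g1 g3 hc (by rwa [← hx, ← hy])
  have hlgood : C.Good (C.kr (rotE C.fU hz) 1) := C.good_of_mem hz g1
  obtain ⟨l, hl⟩ : ∃ l, l = C.kr (rotE C.fU hz) 1 := ⟨_, rfl⟩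
  rw [← hl] at hlgood
  have hll : l * l = 1 := C.good_sq hlgood
  rcases dihedral_cases (⊥ : Subgroup (GL ι F)) hll hyy with ⟨k, hkE, hk⟩ | ⟨k, hkE, hkn, hk, -⟩
  · exfalso
    rw [Subgroup.mem_bot] at hkE
    rw [hkE, one_mul] at hk
    refine C.trace_absurd hk (C.trace_good hlgood) ?_
    rw [hy, Units.val_mul, Units.val_mul, Matrix.trace_units_conj, hx,
      C.trace_kr_rot (trace_rotE C.symU hz) (trace_rotE C.symW hz')]
  · rw [Subgroup.mem_bot] at hkE hkn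
    rw [hkE, one_mul] at hk
    obtain ⟨w, hwdef⟩ : ∃ w, w = (l * y) ^ k := ⟨_, rfl⟩
    rw [← hwdef] at hk hkn
    have hwl : Commute w l := mul_inv_eq_iff_eq_mul.1 hk
    have hww : w * w = 1 := by rw [hwdef, ← pow_add, ← two_mul, hkE]
    have hwy : Commute y w := by
      have e : y = l * (l * y) := by rw [← mul_assoc, hll, one_mul]
      have h := hwl.mul_right (hwdef ▸ (Commute.refl (l * y)).pow_left k : Commute w (l * y))
      rw [← e] at h
      exact h.symm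
    have hwH : w ∈ H := hwdef ▸ H.pow_mem (H.mul_mem (C.good_mem hlgood).1 hyH) k
    exact C.cent_invol hC hC' hwH (C.isKr_of_comm_good hC hlgood hwH hwl.eq) hww hkn hyH hwy

end Ctx

end Cfsg.Agent.Lib.TensorThreeThree
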