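import Cfsg.Agent.Lib.TensorThreeThree.Good

/-!
Conjugates of half turns among the product maps of the two factors are half turns of one of the factors.
-/

set_option autoImplicit false
set_option linter.unusedSectionVars false

namespace Cfsg.Agent.Lib.TensorThreeThree

open Module QuadraticMap Matrix Cfsg.Agent.Lib Cfsg.Agent.Lib.TensorThreeFour

/-- An isometry fixing the first two vectors of a frame is trivial. -/
theorem eq_one_of_frame {F : Type*} [Field F] {f : LinearMap.BilinForm F (V3 F)} (hf : Sym f) {a z b : V3 F}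
    {n : F} (fr : Frame3 f a z b n) {γ : V3 F ≃ₗ[F] V3 F} (hγ : IsIso f γ.toLinearMap) (ha : γ a = a)
    (hz : γ z = z) : γ = 1 := by
  have i : ∀ x y, f (γ x) (γ y) = f x y := hγ
  have e1 : f a (γ b) = 1 := by
    have e := i a b
    rwa [ha, fr.ab] at e
  have e2 : f z (γ b) = 0 := by
    have e := i z b
    rwa [hz, hf.symm z b, fr.bz] at e
  have hg := fr.expand (γ b)
  rw [e1, e2, zero_div, zero_smul, add_zero, one_smul] at hg
  have e3 := i b b
  rw [fr.bb, hg] at e3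
  simp only [map_add, map_smul, LinearMap.add_apply, LinearMap.smul_apply, fr.aa, fr.bb, fr.ab, hf.symm b a,
    smul_eq_mul] at e3
  have h0 : f b (γ b) = 0 := (mul_eq_zero.1 (show f b (γ b) * 2 = 0 by linear_combination e3)).resolve_right hf.two
  rw [h0, zero_smul, zero_add] at hg
  exact LinearEquiv.toLinearMap_injective (fr.ext ha hz hg)

/-- The determinant of an isometry of odd order. -/
theorem det_of_pow_odd {F : Type*} [Field F] {f : LinearMap.BilinForm F (V3 F)} (hf : Sym f)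
    {A : V3 F ≃ₗ[F] V3 F} (hA : IsIso f A.toLinearMap) {k : ℕ} (hk : Odd k) (h : A ^ k = 1) :
    LinearMap.det A.toLinearMap = 1 := by
  have e := det_iso_sq hf (A := A.toLinearMap) (m := 1) fun u v => by rw [one_mul]; exact hA u v
  rw [one_pow] at e
  have e' : LinearMap.det A.toLinearMap ^ k = 1 := by
    rw [← map_pow, ← Ctx.coe_pow_lin, h]
    exact LinearMap.det_id
  obtain ⟨i, rfl⟩ := hk
  rwa [pow_succ, pow_mul, e, one_pow, one_mul] at e'

/-- Isometries of odd prime characteristic order fixing a common singular vector commute. -/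
theorem comm_of_fix_singular {F : Type*} [Field F] {p : ℕ} [Fact p.Prime] [CharP F p]
    {f : LinearMap.BilinForm F (V3 F)} (hf : Sym f) {a : V3 F} (ha0 : a ≠ 0) (ha : f a a = 0)
    {β γ : V3 F ≃ₗ[F] V3 F} (hβ : IsIso f β.toLinearMap) (hβa : β a = a) (hβp : β ^ p = 1)
    (hγ : IsIso f γ.toLinearMap) (hγa : γ a = a) (hγp : γ ^ p = 1) : β * γ = γ * β := by
  obtain ⟨z, b, n, fr⟩ := exists_frame3 hf (Module.finrank_fin_fun F) ha0 ha
  have hz0 : z ≠ 0 := fun h => fr.n0 (by rw [← fr.zz, h]; simp)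
  have hmid : ∀ {A : V3 F ≃ₗ[F] V3 F}, IsIso f A.toLinearMap → A a = a → A ^ p = 1 →
      ∃ x : F, A z = x • a + z := by
    intro A hA hAa hAp
    have h0 : f a (A z) = 0 := by
      have e : f (A a) (A z) = f a z := hA a z
      rwa [hAa, fr.az] at e
    have hAz := fr.expand (A z)
    rw [h0, zero_smul, add_zero] at hAz
    generalize f b (A z) = x at hAz
    generalize f z (A z) / n = ε at hAz
    have hk : ∀ k : ℕ, ∃ y : F, (A ^ k) z = y • a + ε ^ k • z := by
      intro k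
      induction k with
      | zero => exact ⟨0, by simp⟩
      | succ k ih =>
        obtain ⟨y, hy⟩ := ih
        refine ⟨y + ε ^ k * x, ?_⟩
        rw [pow_succ', LinearEquiv.mul_apply, hy, map_add, map_smul, map_smul, hAa, hAz]
        module
    obtain ⟨y, hy⟩ := hk p
    rw [hAp, LinearEquiv.coe_one, id_eq] at hy
    have e := congrArg (f z) hy
    simp only [map_add, map_smul, fr.zz, hf.symm z a, fr.az, mul_zero, zero_add, smul_eq_mul] at e
    have hεp : ε ^ p = 1 := mul_right_cancel₀ fr.n0 (by rw [one_mul]; exact e.symm)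
    have hε : ε = 1 := frobenius_inj F p (by simp [frobenius_def, hεp])
    exact ⟨x, by rw [hAz, hε, one_smul]⟩
  obtain ⟨x, hx⟩ := hmid hβ hβa hβp
  obtain ⟨y, hy⟩ := hmid hγ hγa hγp
  have hinv : ∀ {A : V3 F ≃ₗ[F] V3 F}, IsIso f A.toLinearMap → IsIso f A⁻¹.toLinearMap := fun {A} hA u v => by
    show f (A.symm u) (A.symm v) = _
    have e := hA (A.symm u) (A.symm v)
    simp only [LinearEquiv.coe_coe, LinearEquiv.apply_symm_apply] at e
    exact e.symm
  have hγβ : IsIso f (γ * β).toLinearMap := fun u v => (hγ _ _).trans (hβ u v)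
  refine (inv_mul_eq_one.1 (eq_one_of_frame hf fr (γ := (γ * β)⁻¹ * (β * γ))
    (fun u v => (hinv hγβ _ _).trans ((hβ _ _).trans (hγ u v))) ?_ ?_)).symm
  · rw [LinearEquiv.mul_apply, LinearEquiv.mul_apply, hγa, hβa]
    exact (LinearEquiv.symm_apply_eq _).2 (by rw [LinearEquiv.mul_apply, hβa, hγa])
  · rw [LinearEquiv.mul_apply, LinearEquiv.mul_apply, hy, map_add, map_smul, hβa, hx]
    refine (LinearEquiv.symm_apply_eq _).2 ?_
    rw [LinearEquiv.mul_apply, hx, map_add, map_smul, hγa, hy]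
    module

namespace Ctx

variable {ι : Type} [Fintype ι] [DecidableEq ι] {F : Type*} [Field F] {Q : QuadraticForm F (ι → F)}
  {H : Subgroup (GL ι F)} (C : Ctx Q H)
include C

/-- Product maps of the two factors, possibly exchanging them. -/
def InM (x : GL ι F) : Prop := C.IsHom C x ∨ C.IsHom C.flip x

/-- Half turns of one of the factors in the overgroup. -/
def Good2 (x : GL ι F) : Prop := C.Good x ∨ C.flip.Good x

theorem isHom_comp {D E : Ctx Q H} {x y : GL ι F} (hy : D.IsHom E y) (hx : C.IsHom D x) : C.IsHom E (y * x) := by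
  obtain ⟨A, B, h⟩ := hx
  obtain ⟨A', B', h'⟩ := hy
  exact ⟨A.trans A', B.trans B', fun u v => by rw [act_mul, h, h']; rfl⟩

theorem isHom_inv {D : Ctx Q H} {x : GL ι F} (hx : C.IsHom D x) : D.IsHom C x⁻¹ := by
  obtain ⟨A, B, h⟩ := hx
  refine ⟨A.symm, B.symm, fun u v => ?_⟩
  conv_lhs => rw [← A.apply_symm_apply u, ← B.apply_symm_apply v, ← h, act_inv_act]

theorem isHom_flip {D : Ctx Q H} {x : GL ι F} (hx : C.IsHom D x) : C.flip.IsHom D.flip x := by
  obtain ⟨A, B, h⟩ := hx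
  exact ⟨B, A, fun u v => h v u⟩

theorem inM_one : C.InM 1 := Or.inl ⟨LinearEquiv.refl F _, LinearEquiv.refl F _, fun _ _ => act_one _⟩

theorem inM_inv {x : GL ι F} (hx : C.InM x) : C.InM x⁻¹ := by
  rcases hx with h | h
  · exact Or.inl (C.isHom_inv h)
  · exact Or.inr (C.flip.isHom_flip (D := C) (C.isHom_inv h))

theorem inM_mul {x y : GL ι F} (hx : C.InM x) (hy : C.InM y) : C.InM (x * y) := by
  rcases hy with hy | hy
  · exact hx.imp (fun h => C.isHom_comp h hy) (fun h => C.isHom_comp h hy)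
  · rcases hx with hx | hx
    · exact Or.inr (C.isHom_comp (C.isHom_flip hx) hy)
    · exact Or.inl (C.isHom_comp (C.isHom_flip hx) hy)

theorem inM_of_kr {x : GL ι F} (hx : IsKr C.ten x) : C.InM x := Or.inl hx

theorem inM_flip {x : GL ι F} (hx : C.flip.InM x) : C.InM x := by
  rcases hx with h | h
  · exact Or.inl (C.flip.isHom_flip h)
  · exact Or.inr (C.flip.isHom_flip h)

theorem good2_flip {x : GL ι F} (hx : C.flip.Good2 x) : C.Good2 x := by
  rcases hx with h | ⟨z, hz, h, hH⟩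
  · exact Or.inr h
  · exact Or.inl ⟨z, hz, h.trans (by rw [flip_kr, flip_kr]; rfl), hH⟩

theorem inM_of_good2 {x : GL ι F} (hx : C.Good2 x) : C.InM x :=
  hx.elim (fun h => Or.inl (C.good_mem h).2) fun h => C.inM_flip (Or.inl (C.flip.good_mem h).2)

theorem trace_good {x : GL ι F} (hx : C.Good x) : (x : Matrix ι ι F).trace = -3 := by
  obtain ⟨z, hz, rfl, -⟩ := hx
  rw [kr_trace, trace_rotE C.symU hz]
  show -1 * LinearMap.trace F _ (LinearMap.id : V3 F →ₗ[F] V3 F) = _
  rw [LinearMap.trace_id, Module.finrank_fin_fun]; push_cast; ring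

variable [Finite F]

/-- The vector attached to an involution exchanging the factors. -/
theorem exists_sigma {A : V3 F ≃ₗ[F] V3 F} {m : F} (hm : m ≠ 0)
    (hA : ∀ u u', C.fW (A u) (A u') = m * C.fU u u') :
    ∃ S : ι → F, S ≠ 0 ∧ ∀ s : V3 F ≃ₗ[F] V3 F, IsIso C.fU s.toLinearMap →
      act (C.kr s (A * s * A⁻¹)) S = S := by
  have fr := C.frU
  obtain ⟨S, hS⟩ : ∃ S, S = C.ten C.a (A C.b) + C.n⁻¹ • C.ten C.z (A C.z) + C.ten C.b (A C.a) := ⟨_, rfl⟩
  have hpol : ∀ u v, polar ⇑Q S (C.ten u v) = m * C.fU u (A.symm v) := fun u v => by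
    have e : ∀ x, C.fW (A x) v = m * C.fU x (A.symm v) := fun x => by
      rw [← hA, LinearEquiv.apply_symm_apply]
    rw [hS]
    simp only [polar_add_left, polar_smul_left, C.polarQ, e, smul_eq_mul]
    conv_rhs => rw [fr.expand u]
    simp only [map_add, map_smul, LinearMap.add_apply, LinearMap.smul_apply, smul_eq_mul, C.symU.symm C.b u,
      C.symU.symm C.z u, C.symU.symm C.a u]
    field_simp
    ring
  refine ⟨S, fun h0 => ?_, fun s hs => ?_⟩
  · have e := hpol C.z (A C.z)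
    rw [h0, LinearEquiv.symm_apply_apply, fr.zz, QuadraticMap.polar_zero_left] at e
    exact mul_ne_zero hm fr.n0 e.symm
  · have hi : Isom Q (C.kr s (A * s * A⁻¹)) := by
      refine C.isom_kr hs fun u v => ?_
      show C.fW (A (s (A.symm u))) (A (s (A.symm v))) = _
      rw [hA, show C.fU (s _) (s _) = _ from hs _ _, ← hA, LinearEquiv.apply_symm_apply,
        LinearEquiv.apply_symm_apply]
    refine eq_of_sub_eq_zero (C.nondegQ.1 _ fun y => ?_)
    refine LinearMap.congr_fun (f := QuadraticMap.polarBilin Q (act (C.kr s (A * s * A⁻¹)) S - S)) (g := 0)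
      (C.ext_ten fun u v => ?_) y
    rw [QuadraticMap.polarBilin_apply_apply, polar_sub_left, LinearMap.zero_apply, sub_eq_zero]
    obtain ⟨u', rfl⟩ := s.surjective u
    obtain ⟨v', rfl⟩ := (A * s * A⁻¹).surjective v
    rw [← kr_ten C, polar_isom hi, hpol, kr_ten, hpol]
    congr 1
    show _ = C.fU (s u') (A.symm (A (s (A.symm v'))))
    rw [LinearEquiv.symm_apply_apply]
    exact (hs _ _).symm

/-- A conjugate of a half turn cannot exchange the factors. -/
theorem not_swap_conj (hC : C.NR) {x h : GL ι F} (hx : C.Good x) (hh : h ∈ H) :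
    ¬ C.IsHom C.flip (h * x * h⁻¹) := by
  rintro ⟨A, B, hy⟩
  obtain ⟨hxH, -⟩ := C.good_mem hx
  have hxx := C.good_sq hx
  obtain ⟨p, hp, hpo, hchar⟩ := C.exists_char
  have := Fact.mk hp
  obtain ⟨y, hydef⟩ : ∃ y, y = h * x * h⁻¹ := ⟨_, rfl⟩
  rw [← hydef] at hy
  have hy' : ∀ u v, act y (C.ten u v) = C.ten (B v) (A u) := hy
  have hyH : y ∈ H := hydef ▸ H.mul_mem (H.mul_mem hh hxH) (H.inv_mem hh)
  have hyy : y * y = 1 := by
    rw [hydef, show h * x * h⁻¹ * (h * x * h⁻¹) = h * (x * x) * h⁻¹ by group, hxx, mul_one, mul_inv_cancel]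
  obtain ⟨m, hm, hA, -⟩ := C.similitude (D := C.flip) (C.isom_of_mem hyH) hy
  have hA' : ∀ u u', C.fW (A u) (A u') = m * C.fU u u' := hA
  obtain ⟨l, hl⟩ : ∃ l : F, ∀ u, B (A u) = l • u := by
    have hne : A (B C.w) ≠ 0 := fun e => C.w_ne
      (B.injective ((A.injective (e.trans (map_zero A).symm)).trans (map_zero B).symm))
    obtain ⟨c, hc⟩ := exists_ne C.symW hne
    refine ⟨C.fW C.w c / C.fW (A (B C.w)) c, fun u => ?_⟩
    have e := congrArg (fun g => C.co c (act g (C.ten u C.w))) hyy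
    simp only [act_mul, hy', act_one, co_ten] at e
    rw [div_eq_inv_mul, mul_smul, ← e, inv_smul_smul₀ hc]
  obtain ⟨S, hS0, hS⟩ := C.exists_sigma hm hA'
  -- elements commuting with the involution
  have key : ∀ s : V3 F ≃ₗ[F] V3 F, IsIso C.fU s.toLinearMap → s ^ p = 1 →
      ∃ β : V3 F ≃ₗ[F] V3 F, IsIso C.fW β.toLinearMap ∧ β ^ p = 1 ∧
        C.kr s (A * s * A⁻¹) = h * C.kr 1 β * h⁻¹ ∧ act (C.kr 1 β) (act h⁻¹ S) = act h⁻¹ S := by
    intro s hs hsp
    have hsW : IsIso C.fW (A * s * A⁻¹).toLinearMap := fun u v => by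
      show C.fW (A (s (A.symm u))) (A (s (A.symm v))) = _
      rw [hA', show C.fU (s _) (s _) = _ from hs _ _, ← hA', LinearEquiv.apply_symm_apply,
        LinearEquiv.apply_symm_apply]
    have hkH : C.kr s (A * s * A⁻¹) ∈ H :=
      C.kr_mem_of_pow_odd hs hsW hpo hsp (by rw [conj_pow, hsp, mul_one, mul_inv_cancel])
    have hky : C.kr s (A * s * A⁻¹) * y = y * C.kr s (A * s * A⁻¹) := C.gl_ext fun u v => by
      rw [act_mul, hy', kr_ten, act_mul, kr_ten, hy']
      have e1 : B v = l • A.symm v := by rw [← hl, LinearEquiv.apply_symm_apply]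
      show C.ten (s (B v)) (A (s (A.symm (A u)))) = C.ten (B (A (s (A.symm v)))) (A (s u))
      rw [LinearEquiv.symm_apply_apply, hl, e1, map_smul s]
    obtain ⟨g, hg⟩ : ∃ g, g = h⁻¹ * C.kr s (A * s * A⁻¹) * h := ⟨_, rfl⟩
    have hgx : g * x = x * g := by
      have hx' : x = h⁻¹ * y * h := by rw [hydef]; group
      rw [hg, hx', show h⁻¹ * C.kr s (A * s * A⁻¹) * h * (h⁻¹ * y * h) = h⁻¹ * (C.kr s (A * s * A⁻¹) * y) * h
        by group, hky]
      group
    have hgp : g ^ p = 1 := by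
      have e := conj_pow (a := h⁻¹) (b := C.kr s (A * s * A⁻¹)) (i := p)
      rw [inv_inv] at e
      rw [hg, e, kr_pow, conj_pow, hsp, mul_one, mul_inv_cancel, kr_one, mul_one, inv_mul_cancel]
    obtain ⟨β, hβ, hβp, hgβ⟩ :=
      C.kr_one_of_comm_good hC hx (hg ▸ H.mul_mem (H.mul_mem (H.inv_mem hh) hkH) hh) hgx hgp
    refine ⟨β, hβ, hβp, by rw [← hgβ, hg]; group, ?_⟩
    rw [← hgβ, hg, act_mul, act_mul, act_act_inv, hS s hs]
  have fr := C.frU
  have haz : C.fU C.a ((1 : F) • C.z) = 0 := by rw [map_smul, fr.az, smul_zero]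
  have hbz : C.fU C.b ((1 : F) • C.z) = 0 := by rw [map_smul, fr.bz, smul_zero]
  obtain ⟨s₁, hs1⟩ : ∃ s, s = siegE C.symU fr.aa haz := ⟨_, rfl⟩
  obtain ⟨s₂, hs2⟩ : ∃ s, s = siegE C.symU fr.bb hbz := ⟨_, rfl⟩
  have hsi₁ : IsIso C.fU s₁.toLinearMap := hs1 ▸ siegL_iso C.symU fr.aa haz
  have hsi₂ : IsIso C.fU s₂.toLinearMap := hs2 ▸ siegL_iso C.symU fr.bb hbz
  have hsp₁ : s₁ ^ p = 1 := hs1 ▸ siegE_pow_char C.symU _ _ p
  have hsp₂ : s₂ ^ p = 1 := hs2 ▸ siegE_pow_char C.symU _ _ p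
  have hne : s₁ * s₂ ≠ s₂ * s₁ := by
    intro e
    have e' := congrArg (C.fU C.z) (LinearEquiv.congr_fun e C.a)
    rw [LinearEquiv.mul_apply, LinearEquiv.mul_apply, hs1, hs2, siegE_apply, siegE_apply, siegE_apply,
      siegE_apply] at e'
    simp only [siegL_apply, map_add, map_sub, map_smul, LinearMap.smul_apply, fr.aa, fr.bb, fr.ab, fr.az, fr.bz,
      fr.zz, C.symU.symm C.b C.a, C.symU.symm C.z C.a, C.symU.symm C.z C.b, smul_eq_mul] at e'
    have h2 := C.two
    have hn := fr.n0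
    field_simp at e'
    ring_nf at e'
    exact mul_ne_zero h2 (mul_ne_zero hn hn) (by linear_combination -e')
  obtain ⟨β₁, hβi₁, hβp₁, he₁, hv₁⟩ := key s₁ hsi₁ hsp₁
  obtain ⟨β₂, hβi₂, hβp₂, he₂, hv₂⟩ := key s₂ hsi₂ hsp₂
  -- a common fixed vector
  have hv0 : act h⁻¹ S ≠ 0 := fun e => hS0 (by rw [← act_act_inv h S, e, act_zero])
  obtain ⟨u, hu⟩ : ∃ u, C.ro u (act h⁻¹ S) ≠ 0 := by
    by_contra hno
    push Not at hno
    refine hv0 (C.nondegQ.1 _ fun y => ?_)
    refine LinearMap.congr_fun (f := QuadraticMap.polarBilin Q (act h⁻¹ S)) (g := 0) (C.ext_ten fun u v => ?_) y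
    have e := C.flip.fU_co u (act h⁻¹ S) v
    rw [show C.flip.co u (act h⁻¹ S) = 0 from hno u, map_zero, LinearMap.zero_apply] at e
    exact e.symm
  have hro : ∀ β : V3 F ≃ₗ[F] V3 F, act (C.kr 1 β) (act h⁻¹ S) = act h⁻¹ S →
      β (C.ro u (act h⁻¹ S)) = C.ro u (act h⁻¹ S) := fun β hv => by
    have e := LinearMap.congr_fun (C.ext_ten (L := (C.ro u).comp (actL (C.kr 1 β)))
      (L' := β.toLinearMap.comp (C.ro u)) fun x y => by
        show C.ro u (act (C.kr 1 β) (C.ten x y)) = β (C.ro u (C.ten x y))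
        rw [kr_ten, ro_ten, ro_ten, map_smul]; rfl) (act h⁻¹ S)
    rw [LinearMap.comp_apply, LinearMap.comp_apply] at e
    rw [show actL (C.kr 1 β) (act h⁻¹ S) = act h⁻¹ S from hv] at e
    exact e.symm
  by_cases hw : C.fW (C.ro u (act h⁻¹ S)) (C.ro u (act h⁻¹ S)) = 0
  · have hcomm := comm_of_fix_singular C.symW hu hw hβi₁ (hro _ hv₁) hβp₁ hβi₂ (hro _ hv₂) hβp₂
    have e : C.kr s₁ (A * s₁ * A⁻¹) * C.kr s₂ (A * s₂ * A⁻¹) = C.kr s₂ (A * s₂ * A⁻¹) * C.kr s₁ (A * s₁ * A⁻¹) := by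
      rw [he₁, he₂, show h * C.kr 1 β₁ * h⁻¹ * (h * C.kr 1 β₂ * h⁻¹) = h * (C.kr 1 β₁ * C.kr 1 β₂) * h⁻¹ by group,
        kr_mul, hcomm, ← kr_mul]
      group
    exact hne (C.comm_of_kr_comm hsi₁ hsi₂ (det_of_pow_odd C.symU hsi₁ hpo hsp₁)
      (det_of_pow_odd C.symU hsi₂ hpo hsp₂) e).1
  · have hb := C.eq_one_of_fix C.symW hβi₁ hβp₁ hw (hro _ hv₁)
    rw [hb, kr_one, mul_one, mul_inv_cancel, ← C.kr_one] at he₁
    have h1 := (C.kr_inj hsi₁ (fun _ _ => rfl) (det_of_pow_odd C.symU hsi₁ hpo hsp₁) LinearMap.det_id he₁).1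
    exact hne (by rw [h1, one_mul, mul_one])

/-- A conjugate of a half turn among the product maps is a half turn. -/
theorem good_of_conj (hC : C.NR) {x h : GL ι F} (hx : C.Good x) (hh : h ∈ H) (hy : C.InM (h * x * h⁻¹)) :
    C.Good2 (h * x * h⁻¹) := by
  have hk : IsKr C.ten (h * x * h⁻¹) := hy.resolve_right (C.not_swap_conj hC hx hh)
  obtain ⟨hxH, -⟩ := C.good_mem hx
  have hxx := C.good_sq hx
  have hyH := H.mul_mem (H.mul_mem hh hxH) (H.inv_mem hh)
  obtain ⟨A, B, hA, hB, hAd, hBd, hAB⟩ := C.exists_kr_mem hk hyH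
  have hy2 : C.kr A B ^ 2 = 1 := by rw [← hAB, conj_pow, pow_two, hxx, mul_one, mul_inv_cancel]
  obtain ⟨hA2, hB2⟩ := C.pow_of_kr hA hAd hy2
  rw [pow_two] at hA2 hB2
  have htr : LinearMap.trace F _ A.toLinearMap * LinearMap.trace F _ B.toLinearMap = -3 := by
    rw [← C.kr_trace, ← hAB, Units.val_mul, Units.val_mul, Matrix.trace_units_conj, C.trace_good hx]
  rcases eq_rot C.symU hA hAd hA2 with rfl | ⟨z, hz, rfl⟩ <;>
    rcases eq_rot C.symW hB hBd hB2 with rfl | ⟨z', hz', rfl⟩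
  · exfalso
    rw [kr_one, conj_eq_one_iff] at hAB
    exact C.not_good_one (hAB ▸ hx)
  · exact Or.inr ⟨z', hz', hAB.trans (C.flip_kr _ _).symm, hyH⟩
  · exact Or.inl ⟨z, hz, hAB, hyH⟩
  · exfalso
    rw [trace_rotE C.symU hz, trace_rotE C.symW hz'] at htr
    exact C.symU.four_ne (by linear_combination htr)

/-- The same for half turns of either factor. -/
theorem good2_of_conj (hC : C.NR) (hC' : C.flip.NR) {x h : GL ι F} (hx : C.Good2 x) (hh : h ∈ H)
    (hy : C.InM (h * x * h⁻¹)) : C.Good2 (h * x * h⁻¹) := by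
  rcases hx with hx | hx
  · exact C.good_of_conj hC hx hh hy
  · refine C.good2_flip (C.flip.good_of_conj hC' hx hh ?_)
    rcases hy with h | h
    · exact Or.inl (C.isHom_flip h)
    · exact Or.inr (C.isHom_flip h)

/-- Half turns are fused only by product maps. -/
theorem inM_of_fusion (hC : C.NR) (hC' : C.flip.NR) {x h : GL ι F} (hx : C.Good2 x) (hh : h ∈ H)
    (hy : C.Good2 (h * x * h⁻¹)) : C.InM h := by
  rcases hx with hx | hx <;> rcases hy with hy | hy
  · exact Or.inl (C.isHom_of_fusion C hC hC hx hh hy)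
  · exact Or.inr (C.isHom_of_fusion C.flip hC hC' hx hh hy)
  · exact C.inM_flip (Or.inr (C.flip.isHom_of_fusion C hC' hC hx hh hy))
  · exact C.inM_flip (Or.inl (C.flip.isHom_of_fusion C.flip hC' hC' hx hh hy))

/-- Moving a half turn among product maps forces a product map. -/
theorem inM_of_conj (hC : C.NR) (hC' : C.flip.NR) {x h : GL ι F} (hx : C.Good2 x) (hh : h ∈ H)
    (hy : C.InM (h * x * h⁻¹)) : C.InM h :=
  C.inM_of_fusion hC hC' hx hh (C.good2_of_conj hC hC' hx hh hy)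

/-- The centraliser of a half turn of either factor. -/
theorem inM_of_comm_good (hC : C.NR) (hC' : C.flip.NR) {x g : GL ι F} (hx : C.Good2 x) (hg : g ∈ H)
    (hc : g * x = x * g) : C.InM g :=
  hx.elim (fun h => Or.inl (C.isKr_of_comm_good hC h hg hc))
    (fun h => C.inM_flip (Or.inl (C.flip.isKr_of_comm_good hC' h hg hc)))

end Ctx

end Cfsg.Agent.Lib.TensorThreeThree
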