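import Cfsg.Agent.Lib.HallHigmanB.Linear
import Cfsg.Agent.Lib.PSolvable.PSolv

/-!
An element of order `p ≥ 5` with cubic minimal polynomial centralises every `p'`-group it normalises.
-/

set_option autoImplicit false
set_option linter.unusedSectionVars false


namespace Cfsg.Agent.Lib.TensorThreeThree

open Matrix
open scoped Pointwise

/-- An element of order `p ≥ 5` with cubic minimal polynomial centralises the `p'`-groups it normalises. -/
theorem comm_of_cubic {ι : Type} [Fintype ι] [DecidableEq ι] {F : Type*} [Field F] [Finite F] {p : ℕ}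
    [Fact p.Prime] [CharP F p] (h5 : 5 ≤ p) {K : Subgroup (GL ι F)} {y : GL ι F}
    (hyn : y ∈ Subgroup.normalizer (K : Set (GL ι F))) (hcop : (Nat.card K).Coprime p) (hyp : y ^ p = 1)
    (hy3 : ((y : Matrix ι ι F) - 1) ^ 3 = 0) : ∀ k ∈ K, Commute y k := by
  intro k₀ hk₀
  have hp : p.Prime := Fact.out
  rcases eq_or_ne y 1 with rfl | hy1
  · exact Commute.one_left k₀
  have hord : orderOf y = p := orderOf_eq_prime hyp hy1
  obtain ⟨L, hL⟩ : ∃ L, L = K ⊔ Subgroup.zpowers y := ⟨_, rfl⟩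
  have hKL : K ≤ L := hL ▸ le_sup_left
  have hyL : y ∈ L := hL ▸ Subgroup.mem_sup_right (Subgroup.mem_zpowers y)
  have hZn : Subgroup.zpowers y ≤ Subgroup.normalizer (K : Set (GL ι F)) := Subgroup.zpowers_le.2 hyn
  have hdec : ∀ x ∈ L, ∃ k ∈ K, ∃ i : ℤ, x = k * y ^ i := by
    intro x hx
    rw [hL] at hx
    rw [← SetLike.mem_coe, Subgroup.coe_mul_of_right_le_normalizer_left K _ hZn] at hx
    obtain ⟨k, hk, z, hz, rfl⟩ := hx
    obtain ⟨i, rfl⟩ := Subgroup.mem_zpowers_iff.1 hz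
    exact ⟨k, hk, i, rfl⟩
  let K' : Subgroup L := K.subgroupOf L
  have : K'.Normal := Subgroup.normal_subgroupOf_iff_le_normalizer hKL |>.2
    (hL ▸ sup_le Subgroup.le_normalizer hZn)
  have hK'c : (Nat.card K').Coprime p := by
    rwa [Nat.card_congr (Subgroup.subgroupOfEquivOfLe hKL).toEquiv]
  have hyp' : (⟨y, hyL⟩ : L) ^ p = 1 := Subtype.ext hyp
  have hq : IsPGroup p (L ⧸ K') := by
    intro x
    obtain ⟨⟨x, hx⟩, rfl⟩ := QuotientGroup.mk_surjective x
    obtain ⟨k, hk, i, rfl⟩ := hdec x hx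
    refine ⟨1, ?_⟩
    have e : (⟨k * y ^ i, hx⟩ : L) = (⟨k, hKL hk⟩ : L) * (⟨y, hyL⟩ : L) ^ i := Subtype.ext (by simp)
    rw [e, QuotientGroup.mk_mul, (QuotientGroup.eq_one_iff _).2 (show (⟨k, hKL hk⟩ : L) ∈ K' from hk), one_mul,
      pow_one, ← QuotientGroup.mk_pow, ← _root_.zpow_natCast, ← _root_.zpow_mul, mul_comm, _root_.zpow_mul, _root_.zpow_natCast, hyp',
      _root_.one_zpow, QuotientGroup.mk_one]
  have hsol : Cfsg.IsPSolvable p L :=
    PSolvable.isPSolvable_of_quotient K' (Or.inr hK'c) (PSolvable.isPSolvable_of_isPGroup hq)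
  by_cases hP : Cfsg.pCore p L = ⊥
  · let ρ : L →* Module.End F (ι → F) :=
      ((Matrix.toLinAlgEquiv' (R := F) (n := ι)).toMonoidHom.comp (Units.coeHom (Matrix ι ι F))).comp L.subtype
    have hinj : Function.Injective ρ := fun a b h =>
      Subtype.ext (Units.ext ((Matrix.toLinAlgEquiv' (R := F) (n := ι)).injective h))
    have hρ : (ρ ⟨y, hyL⟩ - 1) ^ 3 = 0 := by
      show (Matrix.toLinAlgEquiv' (R := F) (n := ι) (y : Matrix ι ι F) - 1) ^ 3 = 0
      rw [← map_one (Matrix.toLinAlgEquiv' (R := F) (n := ι)), ← map_sub, ← map_pow, hy3, map_zero]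
    have hord' : orderOf (⟨y, hyL⟩ : L) = p ^ 1 := by rw [pow_one, ← hord, ← Subgroup.orderOf_coe]
    rcases HallHigmanB.bound_linear hsol hP ρ hinj le_rfl hord' hρ with h | ⟨a, m, q, b, ham, hm, -, -, -, hle, -⟩
    · rw [pow_one] at h; omega
    · obtain ⟨rfl, rfl⟩ : a = 0 ∧ m = 1 := by omega
      rw [pow_zero, pow_one, one_mul] at hle; omega
  · obtain ⟨x, hxP, hx1⟩ := (Subgroup.ne_bot_iff_exists_ne_one).1 hP |>.elim fun a ha =>
      (⟨a.1, a.2, fun h => ha (Subtype.ext h)⟩ : ∃ x ∈ Cfsg.pCore p L, x ≠ 1)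
    have : (Cfsg.pCore p L).Normal := @Subgroup.normal_of_characteristic _ _ _ PSolvable.pCore_characteristic
    have hdis : Disjoint (Cfsg.pCore p L) K' := by
      rw [disjoint_iff]
      refine PSolvable.inf_eq_bot_of_isPGroup_of_coprime PSolvable.pCore_isPGroup hK'c
    have hxc : ∀ k (hk : k ∈ K), Commute (x : GL ι F) k := fun k hk => by
      have e := Subgroup.commute_of_normal_of_disjoint _ K' inferInstance inferInstance hdis x ⟨k, hKL hk⟩ hxP hk
      exact congrArg Subtype.val e.eq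
    obtain ⟨k, hk, i, hxi⟩ := hdec x x.2
    have hky : Commute k (y ^ i) := by
      have e := (hxc k hk).eq
      rw [hxi, mul_assoc] at e
      exact (mul_left_cancel e).symm
    obtain ⟨N, hN⟩ := PSolvable.pCore_isPGroup (p := p) (G := L) ⟨x, hxP⟩
    have hk1 : k = 1 := by
      have e : (x : GL ι F) ^ p ^ N = 1 := congrArg (fun a : L => (a : GL ι F)) (congrArg Subtype.val hN)
      rw [hxi, hky.mul_pow] at e
      rcases N.eq_zero_or_pos with rfl | hN0
      · exfalso
        rw [pow_zero, pow_one] at hN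
        exact hx1 (congrArg Subtype.val hN)
      have e' : (y ^ i) ^ p ^ N = 1 := by
        obtain ⟨N', rfl⟩ : ∃ N', N = N' + 1 := ⟨N - 1, by omega⟩
        rw [← _root_.zpow_natCast, ← _root_.zpow_mul, mul_comm, _root_.zpow_mul, _root_.zpow_natCast, pow_succ', pow_mul, hyp, one_pow,
          _root_.one_zpow]
      rw [e', mul_one] at e
      have h1 : orderOf k ∣ p ^ N := orderOf_dvd_of_pow_eq_one e
      have h2 : orderOf k ∣ Nat.card K := Subgroup.orderOf_dvd_natCard K hk
      rw [← orderOf_eq_one_iff]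
      exact Nat.eq_one_of_dvd_coprimes ((hcop.pow_right N)) h2 h1
    rw [hk1, one_mul] at hxi
    have hxy : y ∈ Subgroup.zpowers (y ^ i) := by
      have hcop' : Nat.Coprime i.natAbs p := by
        refine Nat.Coprime.symm (hp.coprime_iff_not_dvd.2 fun hd => hx1 (Subtype.ext ?_))
        rw [hxi]
        obtain ⟨j, rfl⟩ := Int.natCast_dvd.2 hd
        rw [_root_.zpow_mul, _root_.zpow_natCast, hyp, _root_.one_zpow]; rfl
      obtain ⟨u, v, huv⟩ := (Int.isCoprime_iff_nat_coprime (a := i) (b := (p : ℤ))).2 (by simpa using hcop')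
      refine Subgroup.mem_zpowers_iff.2 ⟨u, ?_⟩
      rw [← _root_.zpow_mul, show i * u = 1 - v * p by linarith, _root_.zpow_sub, zpow_one, _root_.zpow_mul', _root_.zpow_natCast, hyp,
        _root_.one_zpow, inv_one, mul_one]
    obtain ⟨j, hj⟩ := Subgroup.mem_zpowers_iff.1 hxy
    have h := (hxc k₀ hk₀).zpow_left j
    rwa [hxi, hj] at h
end Cfsg.Agent.Lib.TensorThreeThree
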