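import Cfsg.Agent.Lib.TensorThreeThree.Radical

/-!
A central radical element in the overgroup gives all Eichler elements.
-/

set_option autoImplicit false
set_option linter.unusedSectionVars false

namespace Cfsg.Agent.Lib.TensorThreeThree

open Module QuadraticMap Matrix Cfsg.Agent.Lib Cfsg.Agent.Lib.TensorThreeFour
open Cfsg.Agent.Lib.FormMax.OrthSL (eichlerGL eichlerGL_mulVec Q_eichlerGL)

namespace Ctx

variable {ι : Type} [Fintype ι] [DecidableEq ι] {F : Type*} [Field F] {Q : QuadraticForm F (ι → F)}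
  {H : Subgroup (GL ι F)} (C : Ctx Q H)
include C

/-- The Eichler element lies in the overgroup. -/
def EIn (_C : Ctx Q H) (x v : ι → F) : Prop :=
  ∀ (he : Q x = 0) (ha : polar ⇑Q x v = 0), eichlerGL Q x v he ha ∈ H

theorem eIn_zero (x : ι → F) : C.EIn x 0 := fun he ha => by
  convert H.one_mem
  refine SingMax.gl_ext' fun y => ?_
  rw [eichlerGL_mulVec]; simp

theorem eIn_add {x v w : ι → F} (hv : C.EIn x v) (hw : C.EIn x w) (h1 : polar ⇑Q x v = 0) :
    C.EIn x (v + w) := fun he ha => by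
  have h2 : polar ⇑Q x w = 0 := by simpa [polar_add_right, h1] using ha
  have h := H.mul_mem (hv he h1) (hw he h2)
  rwa [SingMax.E_add] at h

theorem eIn_map {m : GL ι F} (hm : m ∈ H) {x v : ι → F} (h : C.EIn x v) : C.EIn (act m x) (act m v) := by
  intro he ha
  have hi := C.isom_of_mem hm
  have he' : Q x = 0 := by rw [← hi x]; exact he
  have ha' : polar ⇑Q x v = 0 := by rw [← polar_isom hi]; exact ha
  have h' := H.mul_mem (H.mul_mem hm (h he' ha')) (H.inv_mem hm)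
  rwa [SingMax.conj_E hi] at h'

theorem eIn_smul {x v : ι → F} {t : F} (ht : t ≠ 0) (h : C.EIn x v) : C.EIn (t⁻¹ • x) (t • v) := by
  intro he ha
  have he' : Q x = 0 := by
    rw [QuadraticMap.map_smul, smul_eq_mul] at he
    exact (mul_eq_zero.1 he).resolve_left (mul_ne_zero (inv_ne_zero ht) (inv_ne_zero ht))
  have ha' : polar ⇑Q x v = 0 := by
    rw [polar_smul_left, polar_smul_right, smul_smul, inv_mul_cancel₀ ht, one_smul] at ha
    exact ha
  convert h he' ha' using 1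
  refine SingMax.gl_ext' fun y => ?_
  rw [eichlerGL_mulVec, eichlerGL_mulVec]
  simp only [polar_smul_left, QuadraticMap.map_smul, smul_eq_mul]
  match_scalars <;> field_simp

/-- Exchanging centre and vector when both are singular. -/
theorem eIn_symm {x v : ι → F} (h : C.EIn x v) (hx : Q x = 0) : C.EIn v (-x) := by
  intro he ha
  have ha' : polar ⇑Q x v = 0 := by
    rw [polar_neg_right, neg_eq_zero, polar_comm] at ha; exact ha
  convert h hx ha' using 1
  refine SingMax.gl_ext' fun y => ?_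
  rw [eichlerGL_mulVec, eichlerGL_mulVec, QuadraticMap.map_neg, polar_neg_left, he, hx]
  simp only [zero_mul, add_zero]
  module

theorem Q_ten_eq {u : V3 F} {w : V3 F} (h : C.fU u u = 0 ∨ C.fW w w = 0) : Q (C.ten u w) = 0 := by
  rw [Q_pure]
  rcases h with h | h <;> simp [h]

theorem eichler_isZ (u v : V3 F) (he : Q (C.ten u C.e) = 0)
    (ha : polar ⇑Q (C.ten u C.e) (C.ten v C.e) = 0) :
    C.IsZ (eichlerGL Q _ _ he ha) ∧ C.Zm (eichlerGL Q _ _ he ha) = wedgeL C.fU v u := by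
  have hQv : Q (C.ten v C.e) = 0 := C.Q_ten_eq (Or.inr C.frW.aa)
  have hact : ∀ y w, act (eichlerGL Q _ _ he ha) (C.ten y w) =
      C.ten y w + (C.fW C.e w) • (C.fU u y • C.ten v C.e - C.fU v y • C.ten u C.e) := by
    intro y w
    rw [act, eichlerGL_mulVec, C.polarQ, C.polarQ, hQv]
    module
  have hfix : ∀ y w, C.fW C.e w = 0 → act (eichlerGL Q _ _ he ha) (C.ten y w) = C.ten y w := fun y w hw => by
    rw [hact, hw, zero_smul, add_zero]
  have hL : C.Lm (eichlerGL Q _ _ he ha) = 0 := LinearMap.ext fun y => by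
    rw [Lm_apply, hfix y _ C.frW.az, co_ten, C.fW_wg, zero_smul]; rfl
  refine ⟨⟨⟨Q_eichlerGL he ha, fun y => hfix y _ C.frW.aa, fun y => ⟨0, by rw [hfix y _ C.frW.az]; simp⟩⟩,
    hL⟩, LinearMap.ext fun y => ?_⟩
  rw [Zm_apply, hact, C.frW.ab, one_smul, map_add, map_sub, map_smul, map_smul, co_g_ten_e, co_g_ten_e,
    co_ten, C.frW.bb, zero_smul, zero_add, wedgeL_apply]

/-- The skew operators of the central elements. -/
def Zset : Set ((V3 F) →ₗ[F] (V3 F)) := {Z | ∃ x ∈ H, C.IsZ x ∧ C.Zm x = Z}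

theorem zset_zero : (0 : (V3 F) →ₗ[F] (V3 F)) ∈ C.Zset :=
  ⟨1, H.one_mem, C.isZ_one, C.Zm_one⟩

theorem zset_add {Z Z' : (V3 F) →ₗ[F] (V3 F)} (h : Z ∈ C.Zset) (h' : Z' ∈ C.Zset) :
    Z + Z' ∈ C.Zset := by
  obtain ⟨x, hxH, hx, rfl⟩ := h
  obtain ⟨y, hyH, hy, rfl⟩ := h'
  exact ⟨x * y, H.mul_mem hxH hyH, C.isZ_mul hx hy, C.Zm_mulZ hx hy.1⟩

theorem zset_neg {Z : (V3 F) →ₗ[F] (V3 F)} (h : Z ∈ C.Zset) : -Z ∈ C.Zset := by
  obtain ⟨x, hxH, hx, rfl⟩ := h
  exact ⟨x⁻¹, H.inv_mem hxH, C.isZ_inv hx, C.Zm_inv hx⟩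

theorem zset_conj {Z : (V3 F) →ₗ[F] (V3 F)} (h : Z ∈ C.Zset) {A : (V3 F) ≃ₗ[F] (V3 F)}
    (hA : IsIso C.fU A.toLinearMap) (hAH : C.kr A 1 ∈ H) : A.conj Z ∈ C.Zset := by
  obtain ⟨x, hxH, hx, rfl⟩ := h
  exact ⟨_, H.mul_mem (H.mul_mem hAH hxH) (H.inv_mem hAH), C.isZ_conj hx hA, C.Zm_conj hx⟩

theorem conj_wedge {A : (V3 F) ≃ₗ[F] (V3 F)} (hA : IsIso C.fU A.toLinearMap) (u v : V3 F) :
    A.conj (wedgeL C.fU u v) = wedgeL C.fU (A u) (A v) := LinearMap.ext fun x => by
  rw [LinearEquiv.conj_apply_apply, wedgeL_conj hA, A.apply_symm_apply]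

variable [Finite F]

/-- The torus of the first factor with multiplier `c`, as a product of two reflections. -/
theorem torus_apply {f : LinearMap.BilinForm F (V3 F)} (hf : Sym f) {a z b : V3 F} {n : F} (fr : Frame3 f a z b n)
    {c : F} (hc : c ≠ 0) :
    ∃ (h1 : f (a - b) (a - b) ≠ 0) (h2 : f (a - c • b) (a - c • b) ≠ 0),
      f (a - b) (a - b) * f (a - c • b) (a - c • b) = c * (2 * 2) ∧
      (reflE f h1 * reflE f h2) a = c • a ∧ (reflE f h1 * reflE f h2) z = z ∧
      (reflE f h1 * reflE f h2) b = c⁻¹ • b := by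
  have hv : ∀ d : F, f (a - d • b) (a - d • b) = -2 * d := fun d => by
    simp [fr.aa, fr.bb, fr.ab, hf.symm b a]; ring
  have e1 : f (a - b) (a - b) = -2 := by
    have e := hv 1
    rwa [one_smul, mul_one] at e
  have n2 : (-2 : F) ≠ 0 := neg_ne_zero.2 hf.two
  refine ⟨e1 ▸ n2, hv c ▸ mul_ne_zero n2 hc, by rw [e1, hv]; ring, ?_, ?_, ?_⟩
  all_goals
    show reflL f (a - b) (reflL f (a - c • b) _) = _
    simp only [reflL_apply]
    rw [e1, hv]
    simp only [fr.aa, fr.bb, fr.ab, fr.az, fr.bz, hf.symm b a,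
      map_sub, map_smul, LinearMap.sub_apply, LinearMap.smul_apply, smul_eq_mul]
    have := hf.two
    simp only [neg_mul, div_neg, mul_one]
    match_scalars <;> field_simp <;> ring

/-- Products of two reflections in each factor. -/
theorem pair_mem_both {u v p q : V3 F} (hu : C.fU u u ≠ 0) (hv : C.fU v v ≠ 0) (hp : C.fW p p ≠ 0)
    (hq : C.fW q q ≠ 0) (h : IsSquare (C.fU u u * C.fU v v * (C.fW p p * C.fW q q))) :
    C.kr (reflE C.fU hu * reflE C.fU hv) (reflE C.fW hp * reflE C.fW hq) ∈ H := by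
  have := Fintype.ofFinite F
  have h2 := C.two
  refine C.kron _ ⟨C.reflIso hu * C.reflIso hv * (C.flip.reflIso hp * C.flip.reflIso hq), ?_, ?_⟩ (C.isKr_kr _ _)
  · refine (Orth.mem_omega_iff h2 C.nondegQ (by rw [C.card_eq]; norm_num) _).2 ⟨?_, ?_⟩
    · simp only [map_mul]
      rw [(C.signs_refl hu).1, (C.signs_refl hv).1, (C.flip.signs_refl hp).1, (C.flip.signs_refl hq).1]; rfl
    · simp only [map_mul]
      rw [(C.signs_refl hu).2, (C.signs_refl hv).2, (C.flip.signs_refl hp).2, (C.flip.signs_refl hq).2,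
        mul_mul_mul_comm (Similarity.sqSign _) _ (Similarity.sqSign _) _, Int.units_mul_self, mul_one,
        mul_mul_mul_comm (Similarity.sqSign _) _ (Similarity.sqSign _) _, Int.units_mul_self, mul_one]
      show Similarity.sqSign _ * Similarity.sqSign _ *
        (Similarity.sqSign (C.fW p p) * Similarity.sqSign (C.fW q q)) = 1
      rw [← Similarity.sqSign_mul h2 hu hv, ← Similarity.sqSign_mul h2 hp hq,
        ← Similarity.sqSign_mul h2 (mul_ne_zero hu hv) (mul_ne_zero hp hq)]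
      exact Similarity.sqSign_eq_one_iff.2 h
  · show C.kr _ 1 * C.kr _ 1 * (C.flip.kr (reflE C.fW hp) 1 * C.flip.kr (reflE C.fW hq) 1) = _
    rw [C.flip_kr, C.flip_kr, kr_mul, kr_mul, kr_mul, one_mul, one_mul, mul_one]

/-- Conjugation by a Kronecker element stabilising the flag of the centre scales the corner component. -/
theorem zset_scale {Z : V3 F →ₗ[F] V3 F} (h : Z ∈ C.Zset) {A B : V3 F ≃ₗ[F] V3 F} {r : F} (hr : r ≠ 0)
    (hA : IsIso C.fU A.toLinearMap) (hB : IsIso C.fW B.toLinearMap) (hAB : C.kr A B ∈ H) (hBe : B C.e = r • C.e)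
    (hBw : B C.w = C.w) (hBg : B C.g = r⁻¹ • C.g) : (r * r) • A.conj Z ∈ C.Zset := by
  obtain ⟨x, hxH, hx, rfl⟩ := h
  have hs : ∀ p, B.symm (B p) = p := B.symm_apply_apply
  have hse : B.symm C.e = r⁻¹ • C.e := by
    rw [LinearEquiv.symm_apply_eq, map_smul, hBe, smul_smul, inv_mul_cancel₀ hr, one_smul]
  have hsg : B.symm C.g = r • C.g := by
    rw [LinearEquiv.symm_apply_eq, map_smul, hBg, smul_smul, mul_inv_cancel₀ hr, one_smul]
  have hsw : B.symm C.w = C.w := by rw [LinearEquiv.symm_apply_eq, hBw]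
  have hsA : ∀ u, A (A⁻¹ u) = u := A.apply_symm_apply
  have hk : ∀ u v, act (C.kr A B)⁻¹ (C.ten u v) = C.ten (A⁻¹ u) (B.symm v) := fun u v => by
    rw [kr_inv, kr_ten]; rfl
  refine ⟨_, H.mul_mem (H.mul_mem hAB hxH) (H.inv_mem hAB), ?_, LinearMap.ext fun u => ?_⟩
  · have hw : ∀ u, act (C.kr A B * x * (C.kr A B)⁻¹) (C.ten u C.w) = C.ten u C.w := fun u => by
      rw [act_mul, act_mul, hk, hsw, C.mid_eq hx.1, hx.2]
      simp [kr_ten, hBw, hsA]
    refine ⟨⟨isom_mul (isom_mul (C.isom_kr hA hB) hx.1.1) (isom_inv (C.isom_kr hA hB)), fun u => ?_,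
      fun u => ⟨0, by rw [hw]; simp⟩⟩, LinearMap.ext fun u => ?_⟩
    · rw [act_mul, act_mul, hk, hse, map_smul, act_smul, hx.1.2.1, act_smul, kr_ten, hBe, map_smul, smul_smul,
        inv_mul_cancel₀ hr, one_smul, hsA]
    · rw [Lm_apply, hw, co_ten, C.fW_wg, zero_smul]; rfl
  · rw [Zm_apply, act_mul, act_mul, hk, hsg, map_smul, act_smul, C.isZ_top hx, act_smul, act_add, kr_ten, kr_ten,
      hsA, hBe, hBg, map_smul, map_smul, map_smul, map_add, map_smul, map_smul, co_g_ten_e, co_ten, C.frW.bb,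
      zero_smul, smul_zero, add_zero, LinearMap.smul_apply, LinearEquiv.conj_apply_apply, smul_smul]
    rfl

theorem zset_all (hN : ¬ C.NR) (u v : V3 F) : wedgeL C.fU u v ∈ C.Zset := by
  have fr := C.frU
  have haz : ∀ t : F, C.fU C.a (t • C.z) = 0 := fun t => by rw [map_smul, fr.az, smul_zero]
  have hbz : ∀ t : F, C.fU C.b (t • C.z) = 0 := fun t => by rw [map_smul, fr.bz, smul_zero]
  obtain ⟨x, hxH, hx, hx0⟩ := C.exists_isZ hN
  obtain ⟨c, hc0, hc⟩ := wedge_of_skew C.symU fr (S := C.Zset)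
    (fun Z hZ => by obtain ⟨y, -, hy, rfl⟩ := hZ; exact C.Zm_skew hy)
    (fun Z hZ => ⟨_, C.zset_add (C.zset_conj hZ (A := siegE C.symU fr.aa (haz 1)) (siegL_iso C.symU fr.aa (haz 1))
        (C.siegU_mem _ _)) (C.zset_neg hZ), fun y => by
      rw [LinearMap.add_apply, LinearMap.neg_apply, LinearEquiv.conj_apply_apply, ← sub_eq_add_neg]
      congr 1
      show siegL C.fU C.a ((1 : F) • C.z) (Z (siegL C.fU C.a (-((1 : F) • C.z)) y)) = _
      rw [neg_smul]⟩)
    ⟨x, hxH, hx, rfl⟩ hx0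
  have h1 : ∀ t : F, t • wedgeL C.fU C.a C.z ∈ C.Zset := by
    intro t
    rcases eq_or_ne t 0 with rfl | ht
    · rw [zero_smul]; exact C.zset_zero
    obtain ⟨r, hrdef⟩ : ∃ r, r = t / c := ⟨_, rfl⟩
    have hr : r ≠ 0 := hrdef ▸ div_ne_zero ht hc0
    obtain ⟨u1, u2, hval, hAa, hAz, -⟩ := C.torus_apply C.symU fr (inv_ne_zero hr)
    obtain ⟨p1, p2, hvalW, hBe, hBw, hBg⟩ := C.torus_apply C.symW C.frW hr
    have hA : IsIso C.fU (reflE C.fU u1 * reflE C.fU u2).toLinearMap :=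
      fun x y => (reflL_iso C.symU u1 _ _).trans (reflL_iso C.symU u2 x y)
    have hB : IsIso C.fW (reflE C.fW p1 * reflE C.fW p2).toLinearMap :=
      fun x y => (reflL_iso C.symW p1 _ _).trans (reflL_iso C.symW p2 x y)
    have hm := C.pair_mem_both u1 u2 p1 p2 ⟨2 * 2, by rw [hval, hvalW]; field_simp⟩
    have h := C.zset_scale hc hr hA hB hm hBe hBw hBg
    rw [C.conj_wedge hA, map_smul, hAa, hAz, smul_smul, wedgeL_smul_left, smul_smul] at h
    convert h using 2
    rw [hrdef]; field_simp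
  obtain ⟨A, hA, hAH, l, hl, hAa, hAb, hAz⟩ := C.exists_flipU
  have h2 : ∀ t : F, t • wedgeL C.fU C.z C.b ∈ C.Zset := by
    intro t
    have h := C.zset_conj (h1 (t / l)) hA hAH
    rw [map_smul, C.conj_wedge hA, hAa, hAz] at h
    convert h using 1
    refine LinearMap.ext fun y => ?_
    simp only [LinearMap.smul_apply, wedgeL_apply, map_neg, map_smul, LinearMap.neg_apply, smul_eq_mul]
    match_scalars <;> field_simp
  have h3 : ∀ t : F, t • wedgeL C.fU C.a C.b ∈ C.Zset := by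
    intro t
    have hn := fr.n0
    have h := C.zset_conj (h1 (-(t / C.n))) (A := siegE C.symU fr.bb (hbz 1)) (siegL_iso C.symU fr.bb (hbz 1))
      (C.siegU_mem _ _)
    rw [map_smul, C.conj_wedge (A := siegE C.symU fr.bb (hbz 1)) (siegL_iso C.symU fr.bb (hbz 1)), siegE_apply,
      siegE_apply] at h
    have key := C.zset_add (C.zset_add h (C.zset_neg (h1 (-(t / C.n))))) (C.zset_neg (h2 (t / 2)))
    convert key using 1
    have h2' := C.two
    refine LinearMap.ext fun y => ?_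
    simp only [siegL_apply, LinearMap.add_apply, LinearMap.neg_apply, LinearMap.smul_apply, wedgeL_apply, map_add,
      map_sub, map_smul, one_smul, C.symU.symm C.b C.a, fr.ab, fr.bz, fr.zz, C.symU.symm C.z C.a, fr.az,
      LinearMap.add_apply, LinearMap.sub_apply, LinearMap.smul_apply, smul_eq_mul]
    match_scalars <;> field_simp <;> ring
  have hu := fr.expand u
  have hv := fr.expand v
  generalize C.fU C.b u = u₁, C.fU C.z u / C.n = u₂, C.fU C.a u = u₃ at hu
  generalize C.fU C.b v = v₁, C.fU C.z v / C.n = v₂, C.fU C.a v = v₃ at hv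
  have e : wedgeL C.fU u v = (u₁ * v₂ - u₂ * v₁) • wedgeL C.fU C.a C.z +
      (u₁ * v₃ - u₃ * v₁) • wedgeL C.fU C.a C.b + (u₂ * v₃ - u₃ * v₂) • wedgeL C.fU C.z C.b := by
    refine LinearMap.ext fun y => ?_
    rw [hu, hv]
    simp only [LinearMap.add_apply, LinearMap.smul_apply, wedgeL_apply, map_add, map_smul, smul_eq_mul]
    module
  rw [e]
  exact C.zset_add (C.zset_add (h1 _) (h3 _)) (h2 _)

theorem eIn_e (hN : ¬ C.NR) (u v : V3 F) : C.EIn (C.ten u C.e) (C.ten v C.e) := by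
  intro he ha
  obtain ⟨x, hxH, hx, hxe⟩ := C.zset_all hN v u
  obtain ⟨h1, h2⟩ := C.eichler_isZ u v he ha
  rwa [← C.isZ_ext hx h1 (hxe.trans h2.symm)]

/-- Orthogonal singular vectors of the second factor are proportional. -/
theorem sing_span {x y : V3 F} (hx : C.fW x x = 0) (hy : C.fW y y = 0) (hxy : C.fW x y = 0) (hx0 : x ≠ 0) :
    y ∈ Submodule.span F {x} := by
  obtain ⟨w, g, m, fr⟩ := exists_frame3 C.symW (Module.finrank_fin_fun F) hx0 hx
  have e := fr.expand y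
  rw [hxy, zero_smul, add_zero] at e
  have h0 : C.fW w y = 0 := by
    have e' := hy
    nth_rewrite 2 [e] at e'
    rw [map_add, map_smul, map_smul, C.symW.symm y x, hxy, smul_zero, zero_add, C.symW.symm y w, smul_eq_mul,
      div_mul_eq_mul_div, div_eq_zero_iff] at e'
    exact mul_self_eq_zero.1 (e'.resolve_right fr.n0)
  refine Submodule.mem_span_singleton.2 ⟨C.fW g y, ?_⟩
  conv_rhs => rw [e, h0, zero_div, zero_smul, add_zero]

/-- Transitivity of `Ω(W)` on singular lines. -/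
theorem exists_moveW {x y : V3 F} (hx : C.fW x x = 0) (hx0 : x ≠ 0) (hy : C.fW y y = 0) (hy0 : y ≠ 0) :
    ∃ B : V3 F ≃ₗ[F] V3 F, IsIso C.fW B.toLinearMap ∧ C.kr 1 B ∈ H ∧
      ∃ t : F, t ≠ 0 ∧ B x = t • y := by
  by_cases hxy : C.fW x y = 0
  · obtain ⟨t, ht⟩ := Submodule.mem_span_singleton.1 (C.sing_span hy hx (by rw [C.symW.symm, hxy]) hy0)
    refine ⟨1, fun _ _ => rfl, by rw [C.kr_one]; exact H.one_mem, t, fun h => hx0 ?_, ht.symm⟩
    rw [← ht, h, zero_smul]
  obtain ⟨y', hy'⟩ : ∃ y', y' = (C.fW x y)⁻¹ • y := ⟨_, rfl⟩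
  have hy'0 : C.fW y' y' = 0 := by simp [hy', hy]
  have hxy' : C.fW x y' = 1 := by simp [hy', inv_mul_cancel₀ hxy]
  obtain ⟨w, hw0, hw⟩ := exists_perp C.symW ![x, y'] (by rw [Module.finrank_fin_fun]; norm_num)
  have hxw : C.fW x w = 0 := hw 0
  have hyw : C.fW y' w = 0 := hw 1
  have hww : C.fW w w ≠ 0 := fun h => by
    obtain ⟨t, ht⟩ := Submodule.mem_span_singleton.1 (C.sing_span hx h hxw hx0)
    have e := hyw
    rw [← ht, map_smul, C.symW.symm, hxy', smul_eq_mul, mul_one] at e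
    exact hw0 (by rw [← ht, e, zero_smul])
  obtain ⟨h, hh⟩ : ∃ h, h = C.fW w w / 2 := ⟨_, rfl⟩
  have hh0 : h ≠ 0 := hh ▸ div_ne_zero hww C.two
  have hv : C.fW x (h⁻¹ • w) = 0 := by rw [map_smul, hxw, smul_zero]
  refine ⟨siegE C.symW hx hv * siegE C.symW hy'0 hyw,
    fun p q => (siegL_iso C.symW hx hv _ _).trans (siegL_iso C.symW hy'0 hyw p q), ?_, -h * (C.fW x y)⁻¹,
    mul_ne_zero (neg_ne_zero.2 hh0) (inv_ne_zero hxy), ?_⟩
  · have hm := H.mul_mem (C.siegW_mem hx hv) (C.siegW_mem hy'0 hyw)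
    rwa [kr_mul, one_mul] at hm
  rw [LinearEquiv.mul_apply, siegE_apply, siegE_apply, mul_smul, ← hy']
  have h2 := C.two
  simp only [siegL_apply, map_add, map_sub, map_smul, smul_eq_mul, C.symW.symm y' x, hxy', C.symW.symm w x, hxw,
    hyw, C.symW.symm w y', hx, hy'0, LinearMap.smul_apply]
  simp only [hh]
  match_scalars <;> field_simp <;> ring

theorem eIn_sing (hN : ¬ C.NR) {f : V3 F} (hf : C.fW f f = 0) (u v : V3 F) :
    C.EIn (C.ten u f) (C.ten v f) := by
  rcases eq_or_ne f 0 with rfl | hf0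
  · rw [map_zero, map_zero]; exact C.eIn_zero _
  obtain ⟨B, -, hBH, t, ht, hBe⟩ := C.exists_moveW C.frW.aa C.e_ne hf hf0
  have h := C.eIn_map hBH (C.eIn_e hN (t⁻¹ • u) (t⁻¹ • v))
  rw [kr_ten, kr_ten, hBe] at h
  simpa [smul_smul, inv_mul_cancel₀ ht, mul_inv_cancel₀ ht] using h

/-- `a ⊗ W` and `z ⊗ W` are vectors of the centre `a ⊗ e`, for any frame. -/
theorem eIn_half (hN : ¬ C.NR) {a z b : V3 F} {n : F} (fr : Frame3 C.fU a z b n) (w : V3 F) :
    C.EIn (C.ten a C.e) (C.ten a w) ∧ C.EIn (C.ten a C.e) (C.ten z w) := by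
  have fW := C.frW
  have hpa : ∀ (s t : F) w, polar ⇑Q (C.ten a C.e) (C.ten (s • a + t • z) w) = 0 := fun s t w => by
    rw [C.polarQ, map_add, map_smul, map_smul, fr.aa, fr.az, smul_zero, smul_zero, add_zero, zero_mul]
  have hpa1 : ∀ w, polar ⇑Q (C.ten a C.e) (C.ten a w) = 0 := fun w => by rw [C.polarQ, fr.aa, zero_mul]
  have hpz : ∀ w, polar ⇑Q (C.ten a C.e) (C.ten z w) = 0 := fun w => by rw [C.polarQ, fr.az, zero_mul]
  have hsing : ∀ f, C.fW f f = 0 →
      C.EIn (C.ten a C.e) (C.ten a f) ∧ C.EIn (C.ten a C.e) (C.ten z f) := by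
    intro f hf
    rcases eq_or_ne (C.fW f C.e) 0 with hfe | hfe
    · obtain ⟨t, rfl⟩ := Submodule.mem_span_singleton.1
        (C.sing_span fW.aa hf (by rw [C.symW.symm, hfe]) C.e_ne)
      rw [show C.ten a (t • C.e) = C.ten (t • a) C.e by simp, show C.ten z (t • C.e) = C.ten (t • z) C.e by simp]
      exact ⟨C.eIn_e hN _ _, C.eIn_e hN _ _⟩
    have hm := C.eIn_sing hN hf a z (C.Q_ten_eq (Or.inr hf))
      (by rw [C.polarQ, fr.az, zero_mul])
    have hQz : Q (C.ten z f) = 0 := C.Q_ten_eq (Or.inr hf)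
    have key : ∀ v, C.EIn (C.ten a C.e)
        (C.ten v C.e + C.fW f C.e • C.ten (C.fU a v • z - C.fU z v • a) f) := by
      intro v
      have h := C.eIn_map hm (C.eIn_e hN a v)
      simp only [act, eichlerGL_mulVec, C.polarQ, hQz, fr.aa, C.symU.symm z a, fr.az, zero_mul,
        zero_smul, add_zero, sub_zero] at h
      convert h using 1
      simp only [map_sub, map_smul, LinearMap.sub_apply, LinearMap.smul_apply, LinearMap.add_apply]
      module
    have sub : ∀ v, C.EIn (C.ten a C.e) (C.fW f C.e • C.ten (C.fU a v • z - C.fU z v • a) f) := by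
      intro v
      have h := C.eIn_add (key v) (C.eIn_e hN a (-v))
        (by simp [C.polarQ, fr.aa, fr.az, fW.aa, map_sub, map_smul, LinearMap.sub_apply])
      rwa [map_neg, LinearMap.neg_apply, add_neg_cancel_comm] at h
    have hn := fr.n0
    constructor
    · convert sub ((-(C.fW f C.e * n)⁻¹) • z) using 1
      simp only [map_smul, fr.az, fr.zz, smul_zero, smul_eq_mul, map_sub, LinearMap.sub_apply, LinearMap.smul_apply,
        zero_smul, zero_sub, mul_zero, map_neg, LinearMap.neg_apply]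
      match_scalars <;> field_simp
    · convert sub ((C.fW f C.e)⁻¹ • b) using 1
      simp only [map_smul, fr.ab, C.symU.symm z b, fr.bz, smul_eq_mul, map_sub, LinearMap.sub_apply,
        LinearMap.smul_apply, zero_smul, sub_zero, mul_zero, mul_one]
      rw [smul_smul, mul_inv_cancel₀ hfe, one_smul]
  have add : ∀ {v : V3 F}, (∀ w, polar ⇑Q (C.ten a C.e) (C.ten v w) = 0) → ∀ {p q : V3 F},
      C.EIn (C.ten a C.e) (C.ten v p) → C.EIn (C.ten a C.e) (C.ten v q) →
      C.EIn (C.ten a C.e) (C.ten v (p + q)) := fun hv p q hp hq => by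
    rw [map_add]; exact C.eIn_add hp hq (hv _)
  have he : ∀ t : F, C.fW (t • C.e) (t • C.e) = 0 := fun t => by simp [fW.aa]
  have hg : ∀ t : F, C.fW (t • C.g) (t • C.g) = 0 := fun t => by simp [fW.bb]
  have e2 := C.two
  have hb₁ : ∀ t : F, C.fW (t • (C.w + C.e - (C.m / 2) • C.g)) (t • (C.w + C.e - (C.m / 2) • C.g)) = 0 := by
    intro t
    simp [fW.zz, fW.aa, fW.bb, fW.ab, C.symW.symm C.g C.e, fW.az, C.symW.symm C.w C.e, fW.bz,
      C.symW.symm C.w C.g]
    ring_nf; field_simp; ring_nf; simp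
  obtain ⟨p₁, hp₁⟩ : ∃ p, p = C.fW C.w w / C.m := ⟨_, rfl⟩
  have hw : w = p₁ • (C.w + C.e - (C.m / 2) • C.g) +
      (C.fW C.g w - p₁) • C.e + (C.fW C.e w + p₁ * (C.m / 2)) • C.g := by
    conv_lhs => rw [fW.expand w, ← hp₁]
    module
  rw [hw]
  exact ⟨add hpa1 (add hpa1 (hsing _ (hb₁ _)).1 (hsing _ (he _)).1) (hsing _ (hg _)).1,
    add hpz (add hpz (hsing _ (hb₁ _)).2 (hsing _ (he _)).2) (hsing _ (hg _)).2⟩


theorem full_a (hN : ¬ C.NR) {a z b : V3 F} {n : F} (fr : Frame3 C.fU a z b n) :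
    SingMax.Full Q H (C.ten a C.e) := by
  intro v he ha
  suffices C.EIn (C.ten a C.e) v from this he ha
  have fW := C.frW
  have hpa : ∀ x w, C.fW C.e w = 0 → polar ⇑Q (C.ten a C.e) (C.ten x w) = 0 := fun x w hw => by
    rw [C.polarQ, hw, mul_zero]
  have hbc : ∀ c, C.fW C.e c = 0 → C.fW C.g c = 0 → C.EIn (C.ten a C.e) (C.ten b c) := by
    intro c hec hgc
    have hQbc : Q (C.ten b c) = 0 := C.Q_ten_eq (Or.inl fr.bb)
    have hm := C.eIn_symm (C.eIn_half hN (fr.swap C.symU) (-c)).1 (C.Q_ten_eq (Or.inl fr.bb))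
    rw [map_neg] at hm
    obtain ⟨m, hmdef⟩ : ∃ m, m = eichlerGL Q (-C.ten b c) (-C.ten b C.e) (by rw [QuadraticMap.map_neg, hQbc])
        (by rw [polar_neg_left, polar_neg_right, C.polarQ, fr.bb, zero_mul, neg_zero, neg_zero]) := ⟨_, rfl⟩
    have hmH : m ∈ H := hmdef ▸ hm _ _
    have hQbe : Q (C.ten b C.e) = 0 := C.Q_ten_eq (Or.inl fr.bb)
    have h1 : act m (C.ten a C.e) = C.ten a C.e := by
      rw [hmdef, act, eichlerGL_mulVec]
      simp [C.polarQ, polar_neg_left, C.symW.symm c C.e, hec, fW.aa, QuadraticMap.map_neg, hQbe]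
    have h2 : act m (C.ten a C.g) = C.ten a C.g + -C.ten b c := by
      rw [hmdef, act, eichlerGL_mulVec]
      simp [C.polarQ, polar_neg_left, C.symW.symm c C.g, hgc, fW.ab, fr.ab, C.symU.symm b a,
        QuadraticMap.map_neg, hQbe, sub_eq_add_neg]
    have h3 := C.eIn_map hmH (C.eIn_half hN fr C.g).1
    rw [h1, h2] at h3
    have hag : ∀ x, polar ⇑Q (C.ten a C.e) (C.ten a x) = 0 := fun x => by rw [C.polarQ, fr.aa, zero_mul]
    have h4 := C.eIn_add h3 (C.eIn_half hN fr (-C.g)).1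
      (by rw [polar_add_right, hag, polar_neg_right, hpa b c hec, neg_zero, add_zero])
    rw [map_neg, add_assoc, add_comm (-C.ten b c), ← add_assoc, add_neg_cancel, zero_add] at h4
    have h5 := C.eIn_smul (t := (-1 : F)) (neg_ne_zero.2 one_ne_zero) h4
    rw [inv_neg, inv_one, neg_one_smul, neg_one_smul, neg_neg] at h5
    intro he' ha'
    have := h5 (by rw [QuadraticMap.map_neg, he']) (by rw [polar_neg_left, ha', neg_zero])
    convert H.inv_mem this using 1
    rw [eq_inv_iff_mul_eq_one]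
    refine SingMax.gl_ext' fun y => ?_
    rw [Units.val_mul, ← mulVec_mulVec, eichlerGL_mulVec, eichlerGL_mulVec, Units.val_one, one_mulVec]
    simp only [polar_sub_right, polar_add_right, polar_smul_right, polar_neg_left, polar_neg_right, polar_self,
      he', ha', polar_comm _ (C.ten b c) (C.ten a C.e), smul_eq_mul, smul_zero]
    rw [two_nsmul]
    module
  -- decompose
  have hexp : ∀ c, C.fW C.e c = 0 → C.fW C.g c = 0 → ∀ x, C.EIn (C.ten a C.e) (C.ten x c) := by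
    intro c hec hgc x
    rw [fr.expand x]
    simp only [map_add, map_smul, LinearMap.add_apply, LinearMap.smul_apply]
    rw [← map_smul, ← map_smul, ← map_smul]
    have k : ∀ t : F, C.fW C.e (t • c) = 0 := fun t => by rw [map_smul, hec, smul_zero]
    exact C.eIn_add (C.eIn_add (C.eIn_half hN fr _).1 (C.eIn_half hN fr _).2 (hpa _ _ (k _)))
      (hbc _ (k _) (by rw [map_smul, hgc, smul_zero]))
      (by rw [polar_add_right, hpa _ _ (k _), hpa _ _ (k _), add_zero])
  have hco : C.fU a (C.co C.e v) = 0 := by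
    rw [C.symU.symm, fU_co, polar_comm]; exact ha
  have htop : C.EIn (C.ten a C.e) (C.ten (C.co C.e v) C.g) := by
    rw [fr.expand (C.co C.e v), hco, zero_smul, add_zero]
    simp only [map_add, map_smul, LinearMap.add_apply, LinearMap.smul_apply]
    rw [← map_smul, ← map_smul]
    exact C.eIn_add (C.eIn_half hN fr _).1 (C.eIn_half hN fr _).2 (by rw [C.polarQ, fr.aa, zero_mul])
  rw [C.decompW v, ← map_smul]
  exact C.eIn_add (C.eIn_add (C.eIn_e hN _ _)
      (hexp _ (by rw [map_smul, fW.az, smul_zero]) (by rw [map_smul, fW.bz, smul_zero]) _) (hpa _ _ fW.aa))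
    htop (by rw [polar_add_right, hpa _ _ fW.aa, hpa _ _ (by rw [map_smul, fW.az, smul_zero]), add_zero])

/-- Without the rigid radical the overgroup is the whole of `Ω`. -/
theorem omega_le_of_not_NR (hN : ¬ C.NR) : Cfsg.Geo.omegaGL ⇑Q ≤ H := by
  have hn : 7 ≤ Fintype.card ι := by rw [C.card_eq]; norm_num
  have h1 := C.full_a hN C.frU
  obtain ⟨A, hA, hAH, l, hl, hAa, -, -⟩ := C.exists_flipU
  obtain ⟨B, hB, hBH, t, ht, hBe⟩ := C.exists_moveW C.frW.aa C.e_ne C.frW.bb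
    (fun h => one_ne_zero (α := F) (by rw [← C.frW.ab, h, map_zero]))
  have hk : C.kr A B ∈ H := by
    have := H.mul_mem hAH hBH
    rwa [kr_mul, mul_one, one_mul] at this
  have h2 := SingMax.Full.map hk (C.isom_kr hA hB) h1
  have hm : (C.kr A B : Matrix ι ι F) *ᵥ C.ten C.a C.e = C.ten (l • C.b) (t • C.g) := by
    rw [← hAa, ← hBe]; exact C.kr_ten A B _ _
  rw [hm] at h2
  refine SingMax.omega_le_of_eichler C.nondegQ hn fun x v he ha => ?_
  by_cases hx0 : x = 0
  · subst hx0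
    convert H.one_mem
    refine SingMax.gl_ext' fun y => ?_
    rw [eichlerGL_mulVec]; simp
  refine SingMax.full_all C.nondegQ h1 h2 (C.Q_ten_eq (Or.inr C.frW.aa))
    (C.Q_ten_eq (Or.inl (by simp [C.frU.bb]))) ?_ he hx0 v he ha
  rw [C.polarQ, map_smul, map_smul, C.frU.ab, C.frW.ab]
  simp [hl, ht]

end Ctx

end Cfsg.Agent.Lib.TensorThreeThree
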