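import Cfsg.Agent.Lib.TensorThreeThree.Stab
import Cfsg.Agent.Lib.TensorThreeThree.Cubic
import Cfsg.Agent.Lib.Coprime.Generation

/-!
With rigid radicals: centralisers of half turns `kr (rot, 1)` consist of Kronecker elements, and such elements
are conjugate only by product maps.
-/

set_option autoImplicit false
set_option linter.unusedSectionVars false

namespace Cfsg.Agent.Lib.TensorThreeThree

open Module QuadraticMap Matrix Cfsg.Agent.Lib Cfsg.Agent.Lib.TensorThreeFour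

namespace Ctx

variable {ι : Type} [Fintype ι] [DecidableEq ι] {F : Type*} [Field F] {Q : QuadraticForm F (ι → F)}
  {H : Subgroup (GL ι F)} (C : Ctx Q H)
include C

omit C in
theorem coe_pow_lin {V : Type*} [AddCommGroup V] [Module F V] (A : V ≃ₗ[F] V) (k : ℕ) :
    (A ^ k).toLinearMap = A.toLinearMap ^ k := by
  induction k with
  | zero => rfl
  | succ k ih => rw [pow_succ', pow_succ', ← ih]; rfl

theorem not_good_one : ¬ C.Good 1 := by
  rintro ⟨z, hz, h, -⟩
  rw [← C.kr_one] at h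
  exact rot_ne_one C.symU hz (C.kr_one_inj h).symm

/-- The fixed space of a half turn. -/
theorem fixed_good {z : V3 F} (hz : C.fU z z ≠ 0) {v : ι → F} (h : act (C.kr (rotE C.fU hz) 1) v = v) :
    v = C.ten z ((C.fU z z)⁻¹ • C.ro z v) := by
  have h2 := C.two
  have e := LinearMap.congr_fun (C.ext_ten
    (L := LinearMap.id + actL (C.kr (rotE C.fU hz) 1))
    (L' := (2 : F) • (C.ten z).comp ((C.fU z z)⁻¹ • C.ro z)) fun u w => ?_) v
  · simp only [LinearMap.add_apply, LinearMap.id_apply, LinearMap.smul_apply, LinearMap.comp_apply] at e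
    rw [show actL (C.kr (rotE C.fU hz) 1) v = v from h, ← two_smul F v] at e
    exact smul_right_injective _ h2 e
  · show C.ten u w + act (C.kr _ 1) (C.ten u w) = _
    rw [kr_ten, rotE_apply, reflL_apply, LinearEquiv.coe_one, id_eq]
    simp only [LinearMap.smul_apply, LinearMap.comp_apply, ro_ten, map_neg, map_sub, map_smul, LinearMap.neg_apply,
      LinearMap.sub_apply, C.symU.symm u z]
    match_scalars <;> field_simp <;> ring

/-- A Kronecker element fixing `z ⊗ W` pointwise acts on the first factor only. -/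
theorem fix_z {g : GL ι F} (hi : Isom Q g) (hg : IsKr C.ten g) {z : V3 F} (hz : C.fU z z ≠ 0)
    (hf : ∀ w, act g (C.ten z w) = C.ten z w) :
    ∃ A : V3 F ≃ₗ[F] V3 F, IsIso C.fU A.toLinearMap ∧ g = C.kr A 1 ∧ A z = z := by
  obtain ⟨A, B, hA, hB, -, rfl⟩ := C.exists_kr hg hi
  have hz0 : z ≠ 0 := fun h => hz (by simp [h])
  have hroz : ∀ w, C.fU (A z) z • B w = C.fU z z • w := fun w => by
    have e := congrArg (C.ro z) (hf w)
    rwa [kr_ten, ro_ten, ro_ten] at e
  have hl : C.fU (A z) z ≠ 0 := fun h => C.w_ne <| by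
    have e := hroz C.w
    rw [h, zero_smul, eq_comm] at e
    exact (smul_eq_zero.1 e).resolve_left hz
  obtain ⟨l, hl'⟩ : ∃ l : Fˣ, (l : F) = C.fU z z / C.fU (A z) z := ⟨Units.mk0 _ (div_ne_zero hz hl), rfl⟩
  have hB' : ∀ w, B w = (l : F) • w := fun w => by
    rw [hl', div_eq_inv_mul, mul_smul, ← hroz w, inv_smul_smul₀ hl]
  have hk : C.kr A B = C.kr (A.trans (LinearEquiv.smulOfUnit l)) 1 := C.gl_ext fun u w => by
    rw [kr_ten, kr_ten, hB']
    show _ = C.ten ((l : F) • A u) w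
    rw [map_smul, map_smul, LinearMap.smul_apply]
  refine ⟨_, C.iso_of_kr_one (hk ▸ hi), hk, C.ten_left_inj C.w_ne (v := C.w) ?_⟩
  have e := hf C.w
  rw [hk, kr_ten] at e
  exact e

theorem eq_one_of_fix {p : ℕ} [Fact p.Prime] [CharP F p] {f : LinearMap.BilinForm F (V3 F)} (hf : Sym f)
    {A : V3 F ≃ₗ[F] V3 F} (hA : IsIso f A.toLinearMap) (hp : A ^ p = 1) {z : V3 F} (hz : f z z ≠ 0)
    (hAz : A z = z) : A = 1 := by
  refine LinearEquiv.toLinearMap_injective ?_
  exact eq_id_of_pow hf (Module.finrank_fin_fun F) hA (by rw [← coe_pow_lin, hp]; rfl) hz hAz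

/-- An isometry commuting with a half turn and of order the characteristic is trivial. -/
theorem eq_one_of_comm_rot {p : ℕ} [Fact p.Prime] [CharP F p] {f : LinearMap.BilinForm F (V3 F)} (hf : Sym f)
    {A : V3 F ≃ₗ[F] V3 F} (hA : IsIso f A.toLinearMap) (hp : A ^ p = 1) {z : V3 F} (hz : f z z ≠ 0)
    (hc : A * rotE f hz = rotE f hz * A) : A = 1 := by
  have hfix : rotE f hz (A z) = A z := by
    rw [← LinearEquiv.mul_apply, ← hc, LinearEquiv.mul_apply, rotE_self hz]
  obtain ⟨l, hl⟩ : ∃ l, A z = l • z := ⟨_, rot_fix_line hf hz hfix⟩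
  have hlk : ∀ k : ℕ, (A ^ k) z = l ^ k • z := by
    intro k
    induction k with
    | zero => simp
    | succ k ih => rw [pow_succ', LinearEquiv.mul_apply, ih, map_smul, hl, smul_smul, pow_succ]
  have hz0 : z ≠ 0 := fun h => hz (by simp [h])
  have hlp : l ^ p = 1 := by
    have e := hlk p
    rw [hp, LinearEquiv.coe_one, id_eq] at e
    exact smul_left_injective F hz0 (show l ^ p • z = (1 : F) • z by rw [one_smul]; exact e.symm)
  have hl1 : l = 1 := frobenius_inj F p (by simp [frobenius_def, hlp])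
  rw [hl1, one_smul] at hl
  exact C.eq_one_of_fix hf hA hp hz hl

/-- The first factors of commuting Kronecker elements commute. -/
theorem comm_of_kr_comm {A A' B B' : V3 F ≃ₗ[F] V3 F} (hA : IsIso C.fU A.toLinearMap)
    (hA' : IsIso C.fU A'.toLinearMap) (hd : LinearMap.det A.toLinearMap = 1)
    (hd' : LinearMap.det A'.toLinearMap = 1) (h : C.kr A B * C.kr A' B' = C.kr A' B' * C.kr A B) :
    A * A' = A' * A ∧ B * B' = B' * B := by
  rw [kr_mul, kr_mul] at h
  refine C.kr_inj (fun u v => (hA _ _).trans (hA' u v)) (fun u v => (hA' _ _).trans (hA u v)) ?_ ?_ h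
  · show LinearMap.det (A.toLinearMap ∘ₗ A'.toLinearMap) = 1
    rw [LinearMap.det_comp, hd, hd', one_mul]
  · show LinearMap.det (A'.toLinearMap ∘ₗ A.toLinearMap) = 1
    rw [LinearMap.det_comp, hd, hd', one_mul]

variable [Finite F]

theorem yt_add (s t : F) : C.yt s * C.yt t = C.yt (s + t) := by
  rw [yt, yt, yt, kr_mul, one_mul]
  congr 1
  refine LinearEquiv.ext fun v => ?_
  show siegL C.fW C.e (s • C.w) (siegL C.fW C.e (t • C.w) v) = siegL C.fW C.e ((s + t) • C.w) v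
  rw [siegL_add C.symW C.frW.aa (by rw [map_smul, C.frW.az, smul_zero]) (by rw [map_smul, C.frW.az, smul_zero]),
    add_smul]

theorem yt_zero : C.yt 0 = 1 := by
  rw [yt, ← C.kr_one]
  congr 1
  refine LinearEquiv.ext fun v => ?_
  show siegL C.fW C.e ((0 : F) • C.w) v = v
  rw [zero_smul, siegL_zero]; rfl

theorem yt_pow_char (t : F) (p : ℕ) [CharP F p] : C.yt t ^ p = 1 := by
  rw [yt, kr_pow, one_pow, siegE_pow_char C.symW _ _ p, kr_one]

/-- The group of the Siegel elements with centre `e`. -/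
noncomputable def ytGroup : Subgroup (GL ι F) where
  carrier := {x | ∃ t, x = C.yt t}
  mul_mem' := by rintro _ _ ⟨s, rfl⟩ ⟨t, rfl⟩; exact ⟨_, C.yt_add s t⟩
  one_mem' := ⟨0, C.yt_zero.symm⟩
  inv_mem' := by
    rintro _ ⟨t, rfl⟩
    refine ⟨-t, inv_eq_of_mul_eq_one_right ?_⟩
    rw [yt_add, add_neg_cancel, yt_zero]

theorem yt_cubic (t : F) : ((C.yt t : Matrix ι ι F) - 1) ^ 3 = 0 := by
  obtain ⟨y, hy⟩ : ∃ y, y = actL (C.yt t) - LinearMap.id := ⟨_, rfl⟩
  have he : C.fW C.e (t • C.w) = 0 := by rw [map_smul, C.frW.az, smul_zero]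
  have h : (y.comp y).comp y = 0 := C.ext_ten fun u v => by
    have e : ∀ v, y (C.ten u v) = C.ten u (siegL C.fW C.e (t • C.w) v - v) := fun v => by
      rw [hy, LinearMap.sub_apply, LinearMap.id_apply, map_sub]
      exact congrArg (· - _) (C.yt_ten t u v)
    simp only [LinearMap.comp_apply, LinearMap.zero_apply, e]
    convert map_zero (C.ten u) using 2
    simp only [siegL_apply, map_add, map_sub, map_smul, C.frW.aa, C.frW.az, C.frW.zz, C.fW_we,
      LinearMap.smul_apply, smul_eq_mul]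
    match_scalars <;> ring
  refine Matrix.ext_of_mulVec_single fun i => ?_
  rw [zero_mulVec]
  have hM : ∀ v, ((C.yt t : Matrix ι ι F) - 1) *ᵥ v = y v := fun v => by
    rw [sub_mulVec, one_mulVec, hy]; rfl
  rw [pow_succ, pow_two, ← mulVec_mulVec, ← mulVec_mulVec, hM, hM, hM]
  exact LinearMap.congr_fun h _

/-- The pointwise stabiliser of `z ⊗ W`. -/
def fixGroup (z : V3 F) : Subgroup (GL ι F) where
  carrier := {x | x ∈ H ∧ ∀ w, act x (C.ten z w) = C.ten z w}
  mul_mem' := fun {x y} hx hy => ⟨H.mul_mem hx.1 hy.1, fun w => by rw [act_mul, hy.2, hx.2]⟩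
  one_mem' := ⟨H.one_mem, fun w => act_one _⟩
  inv_mem' := fun {x} hx => ⟨H.inv_mem hx.1, fun w => by
    conv_lhs => rw [← hx.2 w]
    exact act_inv_act _ _⟩

theorem yt_conj_fix {z : V3 F} {y k : GL ι F} (hy : y ∈ C.ytGroup) (hk : k ∈ C.fixGroup z) :
    y * k * y⁻¹ ∈ C.fixGroup z := by
  obtain ⟨t, rfl⟩ := hy
  refine ⟨H.mul_mem (H.mul_mem (C.yt_mem t) hk.1) (H.inv_mem (C.yt_mem t)), fun w => ?_⟩
  rw [act_mul, act_mul, yt, kr_inv, kr_ten, inv_one, LinearEquiv.coe_one, id_eq, hk.2, kr_ten,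
    LinearEquiv.coe_one, id_eq]
  congr 1
  exact LinearEquiv.apply_symm_apply _ _

/-- The pointwise stabiliser acts on the first factor only. -/
theorem fixGroup_le (hN : C.NR) {z : V3 F} (hz : C.fU z z ≠ 0) {k : GL ι F} (hk : k ∈ C.fixGroup z) :
    ∃ A : V3 F ≃ₗ[F] V3 F, IsIso C.fU A.toLinearMap ∧ k = C.kr A 1 ∧ A z = z := by
  suffices IsKr C.ten k from C.fix_z (C.isom_of_mem hk.1) this hz hk.2
  obtain ⟨p, hp, hpo, hchar⟩ := C.exists_char
  haveI := Fact.mk hp
  classical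
  letI ytAction : MulAction ↥C.ytGroup ↥(C.fixGroup z) :=
    { smul := fun y k => ⟨y.1 * k.1 * y.1⁻¹, C.yt_conj_fix y.2 k.2⟩
      one_smul := fun k => Subtype.ext (by show (1 : GL ι F) * k.1 * 1⁻¹ = k.1; group)
      mul_smul := fun y y' k => Subtype.ext (by
        show y.1 * y'.1 * k.1 * (y.1 * y'.1)⁻¹ = y.1 * (y'.1 * k.1 * y'.1⁻¹) * y.1⁻¹; group) }
  have hA : IsPGroup p C.ytGroup := fun ⟨y, t, e⟩ => ⟨1, Subtype.ext (by
    simp only [SubmonoidClass.coe_pow, pow_one, e, C.yt_pow_char t p]; rfl)⟩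
  have hcop : ¬ p ∣ Nat.card (C.fixGroup z) := by
    intro hdvd
    have hmod := hA.card_modEq_card_fixedPoints ↥(C.fixGroup z)
    let D : Subgroup ↥(C.fixGroup z) := (Subgroup.centralizer (C.ytGroup : Set (GL ι F))).subgroupOf (C.fixGroup z)
    have hD : Nat.card D = Nat.card (MulAction.fixedPoints ↥C.ytGroup ↥(C.fixGroup z)) :=
      Nat.card_congr (Equiv.subtypeEquivRight fun x => by
        simp only [D, Subgroup.mem_subgroupOf, Subgroup.mem_centralizer_iff, MulAction.mem_fixedPoints]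
        constructor
        · intro h y; refine Subtype.ext ?_; show y.1 * x.1 * y.1⁻¹ = x.1
          rw [h _ y.2, mul_inv_cancel_right]
        · intro h y hy
          have e : y * x.1 * y⁻¹ = x.1 := congrArg Subtype.val (h ⟨y, hy⟩)
          rwa [mul_inv_eq_iff_eq_mul] at e)
    have hdvd' : p ∣ Nat.card D := by
      rw [hD]; exact (Nat.modEq_zero_iff_dvd.1 ((hmod.symm.trans (Nat.modEq_zero_iff_dvd.2 hdvd))))
    obtain ⟨⟨⟨x, hxK⟩, hxD⟩, hx⟩ := exists_prime_orderOf_dvd_card' (G := D) p hdvd'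
    have hcom : x * C.yt 1 * x⁻¹ = C.yt 1 := by
      rw [Subgroup.mem_subgroupOf, Subgroup.mem_centralizer_iff] at hxD
      rw [show x * C.yt 1 = C.yt 1 * x from (hxD _ ⟨1, rfl⟩).symm, mul_inv_cancel_right]
    have hKr : IsKr C.ten x := C.isHom_of_conj C hN hN hxK.1 one_ne_zero hcom
    obtain ⟨A, hA, hxA, hAz⟩ := C.fix_z (C.isom_of_mem hxK.1) hKr hz hxK.2
    have hxp : x ^ p = 1 := by
      have e := pow_orderOf_eq_one (⟨⟨x, hxK⟩, hxD⟩ : D)
      rw [hx] at e
      exact congrArg (fun d : D => d.1.1) e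
    rw [hxA, kr_pow, one_pow, ← C.kr_one] at hxp
    have hA1 := C.eq_one_of_fix C.symU hA (C.kr_one_inj hxp) hz hAz
    have hx1 : (⟨⟨x, hxK⟩, hxD⟩ : D) = 1 :=
      Subtype.ext (Subtype.ext (by show x = 1; rw [hxA, hA1, C.kr_one]))
    rw [hx1, orderOf_one] at hx
    exact hp.one_lt.ne hx
  have hnorm : C.ytGroup ≤ Subgroup.normalizer (C.fixGroup z : Set (GL ι F)) := by
    intro y hy
    rw [Subgroup.mem_normalizer_iff]
    refine fun x => ⟨fun hx => C.yt_conj_fix hy hx, fun hx => ?_⟩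
    have e := C.yt_conj_fix (C.ytGroup.inv_mem hy) hx
    simpa [mul_assoc] using e
  have hcopr : (Nat.card (C.fixGroup z)).Coprime p := (Nat.Coprime.symm ((hp.coprime_iff_not_dvd).2 hcop))
  rcases Nat.lt_or_ge p 5 with hp5 | hp5
  · -- characteristic three
    have hp3 : p = 3 := by
      have := hp.two_le
      obtain ⟨i, rfl⟩ := hpo
      omega
    have hAc : IsMulCommutative C.ytGroup := ⟨⟨fun ⟨a, s, ha⟩ ⟨b, t, hb⟩ => Subtype.ext (by
      show a * b = b * a
      rw [ha, hb, C.yt_add, C.yt_add, add_comm])⟩⟩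
    let L : Subgroup (GL ι F) :=
      { carrier := {x | IsKr C.ten x}
        mul_mem' := C.isKr_mul
        one_mem' := C.kr_one ▸ C.isKr_kr _ _
        inv_mem' := C.isKr_inv }
    have hnc : ¬ IsCyclic C.ytGroup := by
      intro hcyc
      obtain ⟨⟨_, t, rfl⟩, hgen⟩ := hcyc.exists_generator
      have hcard : Nat.card C.ytGroup = Nat.card F := (Nat.card_eq_of_bijective
        (fun t : F => (⟨C.yt t, t, rfl⟩ : C.ytGroup))
        ⟨fun s t e => by
          have h := LinearMap.congr_fun (congrArg C.Lm (congrArg Subtype.val e)) C.a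
          rw [C.Lm_yt, C.Lm_yt, LinearMap.smul_apply, LinearMap.smul_apply, LinearMap.id_apply] at h
          exact mul_right_cancel₀ C.frW.n0 (neg_inj.1 (smul_left_injective F C.a_ne h)),
        fun ⟨x, t, hx⟩ => ⟨t, Subtype.ext hx.symm⟩⟩).symm
      have hd := orderOf_eq_card_of_forall_mem_zpowers hgen
      have hle : orderOf (⟨C.yt t, t, rfl⟩ : C.ytGroup) ≤ p := by
        refine Nat.le_of_dvd hp.pos (orderOf_dvd_of_pow_eq_one (Subtype.ext ?_))
        rw [SubmonoidClass.coe_pow]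
        exact C.yt_pow_char t p
      have := C.five
      omega
    refine (Coprime.le_of_noncyclic (K := C.fixGroup z) (L := L) hnc hnorm ?_ ?_ : _ ≤ L) hk
    · obtain ⟨m, hm⟩ := IsPGroup.iff_card.1 hA
      rw [hm]
      exact Nat.Coprime.pow_left m ((hp.coprime_iff_not_dvd).2 hcop)
    · rintro y ⟨t, rfl⟩ hy1 x ⟨hxK, hxc⟩
      have ht : t ≠ 0 := fun h => hy1 (h ▸ C.yt_zero)
      refine C.isHom_of_conj C hN hN hxK.1 ht (σ := siegE C.symW C.frW.aa (b := t • C.w)
        (by rw [map_smul, C.frW.az, smul_zero])) ?_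
      have hxc' := (Subgroup.mem_centralizer_iff.1 hxc) _ (Set.mem_singleton _)
      show x * C.yt t * x⁻¹ = C.yt t
      rw [← hxc', mul_inv_cancel_right]
  · -- characteristic at least five
    have hc := comm_of_cubic hp5 (hnorm ⟨1, rfl⟩) hcopr (C.yt_pow_char 1 p) (C.yt_cubic 1) k hk
    refine C.isHom_of_conj C hN hN hk.1 one_ne_zero (σ := siegE C.symW C.frW.aa (b := (1 : F) • C.w)
      (by rw [map_smul, C.frW.az, smul_zero])) ?_
    show k * C.yt 1 * k⁻¹ = C.yt 1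
    rw [← hc.eq, mul_inv_cancel_right]

/-- The centraliser of a half turn consists of Kronecker elements. -/
theorem isKr_of_comm_good (hN : C.NR) {x g : GL ι F} (hx : C.Good x) (hg : g ∈ H) (hc : g * x = x * g) :
    IsKr C.ten g := by
  obtain ⟨z, hz, rfl, -⟩ := hx
  have hz0 : z ≠ 0 := fun h => hz (by simp [h])
  obtain ⟨p, hp, -, hchar⟩ := C.exists_char
  haveI := Fact.mk hp
  have hi := C.isom_of_mem hg
  have hfw : ∀ w, act (C.kr (rotE C.fU hz) 1) (C.ten z w) = C.ten z w := fun w => by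
    rw [kr_ten, rotE_self hz]; rfl
  obtain ⟨τ, hτ⟩ : ∃ τ : V3 F →ₗ[F] V3 F,
      τ = ((C.fU z z)⁻¹ • C.ro z).comp ((actL g).comp (C.ten z)) := ⟨_, rfl⟩
  have hgz : ∀ w, act g (C.ten z w) = C.ten z (τ w) := fun w => by
    have e := C.fixed_good hz (v := act g (C.ten z w)) (by rw [← act_mul, ← hc, act_mul, hfw])
    rw [e, hτ]; rfl
  have hτi : IsIso C.fW τ := fun p q => by
    have e := polar_isom hi (C.ten z p) (C.ten z q)
    rw [hgz, hgz, C.polarQ, C.polarQ] at e
    exact mul_left_cancel₀ hz e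
  obtain ⟨T, hT⟩ : ∃ T : V3 F ≃ₗ[F] V3 F, ∀ w, T w = τ w :=
    ⟨LinearEquiv.ofInjectiveEndo τ (C.symW.injective_of_iso hτi), fun _ => rfl⟩
  have hTi : IsIso C.fW T.toLinearMap := fun p q => by
    show C.fW (T p) (T q) = _; rw [hT, hT]; exact hτi p q
  have hTe : C.fW (T C.e) (T C.e) = 0 := (hTi _ _).trans C.frW.aa
  have hTb : C.fW (T C.e) (T ((1 : F) • C.w)) = 0 := (hTi _ _).trans (by rw [one_smul]; exact C.frW.az)
  have hyH := C.yt_mem 1
  have hmH := C.siegW_mem hTe hTb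
  obtain ⟨k, hk⟩ : ∃ k, k = (C.kr 1 (siegE C.symW hTe hTb))⁻¹ * (g * C.yt 1 * g⁻¹) := ⟨_, rfl⟩
  have hkfix : k ∈ C.fixGroup z := by
    refine ⟨hk ▸ H.mul_mem (H.inv_mem hmH) (H.mul_mem (H.mul_mem hg hyH) (H.inv_mem hg)), fun w => ?_⟩
    obtain ⟨w', rfl⟩ := T.surjective w
    rw [hk, act_mul, act_mul, act_mul, show C.ten z (T w') = C.ten z (τ w') from congrArg _ (hT w'), ← hgz,
      act_inv_act, yt_ten, hgz, hgz, ← hT, ← hT w',
      siegL_conj (β := T) hTi]
    conv_lhs => rw [← siegE_apply C.symW hTe hTb, show C.ten z (siegE C.symW hTe hTb (T w')) =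
      act (C.kr 1 (siegE C.symW hTe hTb)) (C.ten z (T w')) from
      (C.kr_ten 1 (siegE C.symW hTe hTb) z (T w')).symm]
    rw [act_inv_act]
  obtain ⟨A, hA, hkA, hAz⟩ := C.fixGroup_le hN hz hkfix
  have hgy : g * C.yt 1 * g⁻¹ = C.kr A (siegE C.symW hTe hTb) := by
    rw [← mul_inv_cancel_left (C.kr 1 (siegE C.symW hTe hTb)) (g * C.yt 1 * g⁻¹), ← hk, hkA, kr_mul,
      one_mul, mul_one]
  have hp1 : C.kr A (siegE C.symW hTe hTb) ^ p = 1 := by
    rw [← hgy, conj_pow, C.yt_pow_char _ p, mul_one, mul_inv_cancel]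
  rw [kr_pow, siegE_pow_char C.symW hTe hTb p, ← C.kr_one] at hp1
  rw [C.eq_one_of_fix C.symU hA (C.kr_one_inj hp1) hz hAz] at hgy
  exact C.isHom_of_conj C hN hN hg one_ne_zero hgy

/-- An element of order the characteristic commuting with a half turn acts on the second factor only. -/
theorem kr_one_of_comm_good (hN : C.NR) {p : ℕ} [Fact p.Prime] [CharP F p] {x g : GL ι F} (hx : C.Good x)
    (hg : g ∈ H) (hc : g * x = x * g) (hgp : g ^ p = 1) :
    ∃ β : V3 F ≃ₗ[F] V3 F, IsIso C.fW β.toLinearMap ∧ β ^ p = 1 ∧ g = C.kr 1 β := by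
  have hk := C.isKr_of_comm_good hN hx hg hc
  obtain ⟨A, B, hA, hB, hAd, -, rfl⟩ := C.exists_kr_mem hk hg
  obtain ⟨z, hz, rfl, -⟩ := hx
  have hAp := C.pow_of_kr hA hAd hgp
  have hcA := C.comm_of_kr_comm hA (rotE_iso C.symU hz) hAd
    (det_rotE C.symU (Module.finrank_fin_fun F) hz) hc
  rw [C.eq_one_of_comm_rot C.symU hA hAp.1 hz hcA.1]
  exact ⟨B, hB, hAp.2, rfl⟩

/-- Half turns are conjugate only by product maps. -/
theorem isHom_of_fusion (D : Ctx Q H) (hC : C.NR) (hD : D.NR) {x h : GL ι F} (hx : C.Good x) (hh : h ∈ H)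
    (hc : D.Good (h * x * h⁻¹)) : C.IsHom D h := by
  obtain ⟨p, hp, -, hchar⟩ := C.exists_char
  haveI := Fact.mk hp
  obtain ⟨z, hz, rfl, -⟩ := hx
  have hcom : C.yt 1 * C.kr (rotE C.fU hz) 1 = C.kr (rotE C.fU hz) 1 * C.yt 1 := by
    rw [yt, kr_mul, kr_mul, one_mul, mul_one, one_mul, mul_one]
  have hcom' : h * C.yt 1 * h⁻¹ * (h * C.kr (rotE C.fU hz) 1 * h⁻¹) =
      h * C.kr (rotE C.fU hz) 1 * h⁻¹ * (h * C.yt 1 * h⁻¹) := by
    rw [show h * C.yt 1 * h⁻¹ * (h * C.kr (rotE C.fU hz) 1 * h⁻¹) =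
      h * (C.yt 1 * C.kr (rotE C.fU hz) 1) * h⁻¹ by group, hcom]
    group
  obtain ⟨β, -, -, hβ⟩ := D.kr_one_of_comm_good hD hc (H.mul_mem (H.mul_mem hh (C.yt_mem 1)) (H.inv_mem hh))
    hcom' (p := p) (by rw [conj_pow, C.yt_pow_char _ p, mul_one, mul_inv_cancel])
  exact C.isHom_of_conj D hC hD hh one_ne_zero hβ

end Ctx

end Cfsg.Agent.Lib.TensorThreeThree
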