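import Cfsg.Agent.Lib.TensorThreeThree.Setup

/-!
Kronecker isometries: normal form, determinant and trace, and membership in `Ω`.
-/

set_option autoImplicit false
set_option linter.unusedSectionVars false

namespace Cfsg.Agent.Lib.TensorThreeThree

open Module QuadraticMap Matrix Cfsg.Agent.Lib Cfsg.Agent.Lib.TensorThreeFour
open scoped Kronecker

theorem det_iso_sq {F : Type*} [Field F] {f : LinearMap.BilinForm F (V3 F)} (hf : Sym f) {A : V3 F →ₗ[F] V3 F}
    {m : F} (h : ∀ u v, f (A u) (A v) = m * f u v) : LinearMap.det A ^ 2 = m ^ 3 := by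
  have hG : (LinearMap.toMatrix₂' F f).det ≠ 0 :=
    LinearMap.separatingLeft_iff_det_ne_zero (Pi.basisFun F (Fin 3)) |>.1 (fun x hx => hf.nd x hx)
  have e : f.compl₁₂ A A = m • f := LinearMap.ext fun u => LinearMap.ext fun v => h u v
  have e' := congrArg (fun M => (LinearMap.toMatrix₂' F M).det) e
  rw [LinearMap.toMatrix₂'_compl₁₂, map_smul, Matrix.det_mul, Matrix.det_mul, Matrix.det_transpose,
    Matrix.det_smul, Fintype.card_fin, LinearMap.det_toMatrix'] at e'
  refine mul_right_cancel₀ hG ?_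
  linear_combination e'

namespace Ctx

variable {ι : Type} [Fintype ι] [DecidableEq ι] {F : Type*} [Field F] {Q : QuadraticForm F (ι → F)}
  {H : Subgroup (GL ι F)} (C : Ctx Q H)
include C

theorem toMatrix_homL (A B : V3 F →ₗ[F] V3 F) :
    LinearMap.toMatrix C.bV C.bV (C.homL C A B) = LinearMap.toMatrix' A ⊗ₖ LinearMap.toMatrix' B := by
  ext ⟨k, l⟩ ⟨i, j⟩
  rw [LinearMap.toMatrix_apply, C.bV_eq, homL_ten, repr_ten]
  simp [Matrix.kroneckerMap_apply, LinearMap.toMatrix'_apply]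

theorem kr_det (A B : V3 F ≃ₗ[F] V3 F) :
    (C.kr A B : Matrix ι ι F).det = LinearMap.det A.toLinearMap ^ 3 * LinearMap.det B.toLinearMap ^ 3 := by
  show (LinearMap.toMatrix' _).det = _
  rw [LinearMap.det_toMatrix', ← LinearMap.det_toMatrix C.bV, toMatrix_homL, Matrix.det_kronecker,
    LinearMap.det_toMatrix', LinearMap.det_toMatrix', Fintype.card_fin]

theorem kr_trace (A B : V3 F ≃ₗ[F] V3 F) :
    (C.kr A B : Matrix ι ι F).trace =
      LinearMap.trace F _ A.toLinearMap * LinearMap.trace F _ B.toLinearMap := by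
  show (LinearMap.toMatrix' _).trace = _
  have e : ∀ {κ : Type} [Fintype κ] [DecidableEq κ] (f : (κ → F) →ₗ[F] (κ → F)),
      (LinearMap.toMatrix' f).trace = LinearMap.trace F _ f := fun f => by
    rw [LinearMap.trace_eq_matrix_trace F (Pi.basisFun F _) f, LinearMap.toMatrix_eq_toMatrix']
  rw [e, LinearMap.trace_eq_matrix_trace F C.bV, toMatrix_homL, Matrix.trace_kronecker, e, e]

theorem det_eq_one {x : GL ι F} (hx : x ∈ H) : (x : Matrix ι ι F).det = 1 := by
  obtain ⟨k, hk, rfl⟩ := C.le_omega hx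
  have h := Abelianization.commutator_subset_ker
    ((Matrix.GeneralLinearGroup.det : GL ι F →* Fˣ).comp (Cfsg.isometryGroup F ⇑Q).subtype) hk
  exact congrArg Units.val (MonoidHom.mem_ker.1 h)

theorem similitude {D : Ctx Q H} {x : GL ι F} {A B : V3 F ≃ₗ[F] V3 F} (hI : Isom Q x)
    (h : ∀ u v, act x (C.ten u v) = D.ten (A u) (B v)) :
    ∃ m : F, m ≠ 0 ∧ (∀ u u', D.fU (A u) (A u') = m * C.fU u u') ∧
      ∀ v v', D.fW (B v) (B v') = m⁻¹ * C.fW v v' := by
  have hAB : ∀ u u' v v', D.fU (A u) (A u') * D.fW (B v) (B v') = C.fU u u' * C.fW v v' := fun u u' v v' => by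
    rw [← D.polarQ, ← h, ← h, polar_isom hI, C.polarQ]
  have h0 := hAB C.z C.z C.w C.w
  rw [C.frU.zz, C.frW.zz] at h0
  have hne := mul_ne_zero C.frU.n0 C.frW.n0
  rw [← h0] at hne
  obtain ⟨m, hm⟩ : ∃ m, m = C.m / D.fW (B C.w) (B C.w) := ⟨_, rfl⟩
  have hm0 : m ≠ 0 := hm ▸ div_ne_zero C.frW.n0 (right_ne_zero_of_mul hne)
  have hA : ∀ u u', D.fU (A u) (A u') = m * C.fU u u' := fun u u' => by
    have h1 := hAB u u' C.w C.w
    rw [C.frW.zz] at h1
    rw [hm, div_mul_eq_mul_div, eq_div_iff (right_ne_zero_of_mul hne), h1, mul_comm]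
  refine ⟨m, hm0, hA, fun v v' => ?_⟩
  have h1 := hAB C.z C.z v v'
  rw [hA, C.frU.zz] at h1
  rw [eq_comm, inv_mul_eq_iff_eq_mul₀ hm0]
  exact mul_left_cancel₀ C.frU.n0 (by linear_combination -h1)

/-- Normal form of a Kronecker isometry. -/
theorem exists_kr {x : GL ι F} (hx : IsKr C.ten x) (hI : Isom Q x) :
    ∃ (A B : V3 F ≃ₗ[F] V3 F), IsIso C.fU A.toLinearMap ∧ IsIso C.fW B.toLinearMap ∧
      LinearMap.det A.toLinearMap = 1 ∧ x = C.kr A B := by
  obtain ⟨A, B, h⟩ := hx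
  obtain ⟨m, hm0, hA, hB⟩ := C.similitude hI h
  have hdet := det_iso_sq C.symU (A := A.toLinearMap) hA
  obtain ⟨d, hd⟩ : ∃ d, d = LinearMap.det A.toLinearMap := ⟨_, rfl⟩
  rw [← hd] at hdet
  have hd0 : d ≠ 0 := fun h => pow_ne_zero 3 hm0 (by rw [← hdet, h]; ring)
  obtain ⟨l, hl⟩ : ∃ l : Fˣ, (l : F) = m / d := ⟨Units.mk0 _ (div_ne_zero hm0 hd0), rfl⟩
  refine ⟨A.trans (LinearEquiv.smulOfUnit l), B.trans (LinearEquiv.smulOfUnit l⁻¹), fun u u' => ?_,
    fun v v' => ?_, ?_, C.eq_kr fun u v => ?_⟩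
  · show C.fU ((l : F) • A u) ((l : F) • A u') = _
    simp only [map_smul, LinearMap.smul_apply, smul_eq_mul, hA, hl]
    field_simp
    linear_combination -(C.fU u u') * hdet
  · show C.fW (((l⁻¹ : Fˣ) : F) • B v) (((l⁻¹ : Fˣ) : F) • B v') = _
    simp only [map_smul, LinearMap.smul_apply, smul_eq_mul, hB, Units.val_inv_eq_inv_val, hl]
    field_simp
    linear_combination (C.fW v v') * hdet
  · show LinearMap.det ((l : F) • A.toLinearMap) = 1
    rw [LinearMap.det_smul, Module.finrank_fin_fun, ← hd, hl]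
    field_simp
    linear_combination -hdet
  · show _ = C.ten ((l : F) • A u) (((l⁻¹ : Fˣ) : F) • B v)
    rw [map_smul, map_smul, LinearMap.smul_apply, smul_smul, Units.inv_mul, one_smul, h]

/-- Normal form in the overgroup. -/
theorem exists_kr_mem {x : GL ι F} (hx : IsKr C.ten x) (hH : x ∈ H) :
    ∃ (A B : V3 F ≃ₗ[F] V3 F), IsIso C.fU A.toLinearMap ∧ IsIso C.fW B.toLinearMap ∧
      LinearMap.det A.toLinearMap = 1 ∧ LinearMap.det B.toLinearMap = 1 ∧ x = C.kr A B := by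
  obtain ⟨A, B, hA, hB, hd, rfl⟩ := C.exists_kr hx (C.isom_of_mem hH)
  refine ⟨A, B, hA, hB, hd, ?_, rfl⟩
  have e := C.det_eq_one hH
  rw [kr_det, hd, one_pow, one_mul] at e
  have e2 := det_iso_sq C.symW (A := B.toLinearMap) (m := 1) fun u v => by rw [one_mul]; exact hB u v
  rw [one_pow] at e2
  calc LinearMap.det B.toLinearMap = LinearMap.det B.toLinearMap * LinearMap.det B.toLinearMap ^ 2 := by
        rw [e2, mul_one]
    _ = 1 := by rw [← e]; ring

theorem kr_inj {A A' B B' : V3 F ≃ₗ[F] V3 F}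
    (hA : IsIso C.fU A.toLinearMap) (hA' : IsIso C.fU A'.toLinearMap) (hd : LinearMap.det A.toLinearMap = 1)
    (hd' : LinearMap.det A'.toLinearMap = 1) (h : C.kr A B = C.kr A' B') : A = A' ∧ B = B' := by
  obtain ⟨c, hc⟩ := exists_ne C.symW (fun e => C.w_ne (B.injective (e.trans (map_zero B).symm)))
  obtain ⟨l, hl⟩ : ∃ l : F, ∀ u, A u = l • A' u := by
    refine ⟨C.fW (B' C.w) c / C.fW (B C.w) c, fun u => ?_⟩
    have h' := congrArg (fun x => C.co c (act x (C.ten u C.w))) h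
    simp only [kr_ten, co_ten] at h'
    rw [div_eq_inv_mul, ← smul_smul, ← h', smul_smul, inv_mul_cancel₀ hc, one_smul]
  have hAl : A.toLinearMap = l • A'.toLinearMap := LinearMap.ext hl
  have hsq : l * l = 1 := by
    have e := hA C.z C.z
    rw [hAl] at e
    have e' : C.fU (A' C.z) (A' C.z) = C.n := (hA' C.z C.z).trans C.frU.zz
    simp only [LinearMap.smul_apply, LinearEquiv.coe_coe, map_smul, smul_eq_mul, e', C.frU.zz] at e
    exact mul_right_cancel₀ C.frU.n0 (by linear_combination e)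
  have hcu : l ^ 3 = 1 := by
    rw [hAl, LinearMap.det_smul, hd', mul_one, Module.finrank_fin_fun] at hd
    exact hd
  have hl1 : l = 1 := by linear_combination hcu - l * hsq
  have hAA : A = A' := LinearEquiv.ext fun u => by rw [hl, hl1, one_smul]
  refine ⟨hAA, LinearEquiv.ext fun v => ?_⟩
  have h' := congrArg (fun x => act x (C.ten C.z v)) h
  simp only [kr_ten, hAA] at h'
  exact C.ten_right_inj (fun e => C.z_ne (A'.injective (e.trans (map_zero A').symm))) h'

theorem kr_one_inj {A A' : V3 F ≃ₗ[F] V3 F} (h : C.kr A 1 = C.kr A' 1) : A = A' :=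
  LinearEquiv.ext fun u => C.ten_left_inj C.w_ne (v := C.w) <| by
    have e := congrArg (fun x => act x (C.ten u C.w)) h
    simp only [kr_ten] at e
    exact e

theorem iso_of_kr_one {A : V3 F ≃ₗ[F] V3 F} (h : Isom Q (C.kr A 1)) : IsIso C.fU A.toLinearMap :=
  fun u v => by
    have e := polar_isom h (C.ten u C.w) (C.ten v C.w)
    rw [kr_ten, kr_ten, C.polarQ, C.polarQ] at e
    exact mul_right_cancel₀ (b := C.fW C.w C.w) (by rw [C.frW.zz]; exact C.frW.n0) e

theorem pow_of_kr {A B : V3 F ≃ₗ[F] V3 F}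
    (hA : IsIso C.fU A.toLinearMap) (hd : LinearMap.det A.toLinearMap = 1) {k : ℕ} (h : C.kr A B ^ k = 1) :
    A ^ k = 1 ∧ B ^ k = 1 := by
  rw [kr_pow, ← C.kr_one] at h
  refine C.kr_inj ?_ (fun _ _ => rfl) ?_ LinearMap.det_id h
  · clear h
    induction k with
    | zero => exact fun _ _ => rfl
    | succ k ih =>
      intro u v
      rw [pow_succ']
      exact (hA _ _).trans (ih u v)
  · have e : ∀ k : ℕ, (A ^ k).toLinearMap = A.toLinearMap ^ k := by
      intro k
      induction k with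
      | zero => rfl
      | succ k ih => rw [pow_succ', pow_succ', ← ih]; rfl
    rw [e, map_pow, hd, one_pow]

variable [Finite F]

theorem mem_omega_of_pow_odd {x : GL ι F} (hx : Isom Q x) {k : ℕ} (hk : Odd k) (h1 : x ^ k = 1) :
    x ∈ Cfsg.Geo.omegaGL ⇑Q := by
  refine ⟨⟨x, Orth.mem_isometryGroup_iff.2 hx⟩, ?_, rfl⟩
  have hk1 : (⟨x, Orth.mem_isometryGroup_iff.2 hx⟩ : ↥(Cfsg.isometryGroup F ⇑Q)) ^ k = 1 :=
    Subtype.ext (by simpa using h1)
  have hu : ∀ (χ : ↥(Cfsg.isometryGroup F ⇑Q) →* ℤˣ), χ ⟨x, Orth.mem_isometryGroup_iff.2 hx⟩ = 1 := by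
    intro χ
    have h := congrArg χ hk1
    rw [map_pow, map_one] at h
    obtain ⟨m, rfl⟩ := hk
    rwa [pow_succ, pow_mul, Int.units_sq, one_pow, one_mul] at h
  exact (Orth.mem_omega_iff C.two C.nondegQ (by rw [C.card_eq]; norm_num) _).2 ⟨hu _, hu _⟩

theorem kr_mem_of_pow_odd {A B : V3 F ≃ₗ[F] V3 F}
    (hA : IsIso C.fU A.toLinearMap) (hB : IsIso C.fW B.toLinearMap) {k : ℕ} (hk : Odd k) (hAk : A ^ k = 1)
    (hBk : B ^ k = 1) : C.kr A B ∈ H :=
  C.kron _ (C.mem_omega_of_pow_odd (C.isom_kr hA hB) hk (by rw [kr_pow, hAk, hBk, kr_one])) (C.isKr_kr _ _)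

theorem exists_char : ∃ p : ℕ, p.Prime ∧ Odd p ∧ CharP F p := by
  obtain ⟨p, hp⟩ := CharP.exists F
  have hpr := CharP.char_is_prime F p
  refine ⟨p, hpr, hpr.odd_of_ne_two fun h => C.two ?_, hp⟩
  subst h
  exact CharTwo.two_eq_zero

omit C in
theorem siegE_pow_char {V : Type*} [AddCommGroup V] [Module F V] {f : LinearMap.BilinForm F V} (hf : Sym f)
    {e b : V} (he : f e e = 0) (hb : f e b = 0) (p : ℕ) [CharP F p] : siegE hf he hb ^ p = 1 :=
  LinearEquiv.ext fun x => by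
    rw [siegE_pow hf he hb, CharP.cast_eq_zero, zero_smul, siegL_zero]; rfl

theorem siegU_mem {x c : V3 F} (hx : C.fU x x = 0) (hc : C.fU x c = 0) :
    C.kr (siegE C.symU hx hc) 1 ∈ H := by
  obtain ⟨p, -, hpo, hch⟩ := C.exists_char
  exact C.kr_mem_of_pow_odd (siegL_iso C.symU hx hc) (fun _ _ => rfl) hpo (siegE_pow_char C.symU hx hc p)
    (one_pow _)

theorem siegW_mem {x c : V3 F} (hx : C.fW x x = 0) (hc : C.fW x c = 0) :
    C.kr 1 (siegE C.symW hx hc) ∈ H := by
  obtain ⟨p, -, hpo, hch⟩ := C.exists_char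
  exact C.kr_mem_of_pow_odd (fun _ _ => rfl) (siegL_iso C.symW hx hc) hpo (one_pow _)
    (siegE_pow_char C.symW hx hc p)

/-- A reflection of the first factor, as an isometry of the product. -/
noncomputable def reflIso {u : V3 F} (hu : C.fU u u ≠ 0) : ↥(Cfsg.isometryGroup F ⇑Q) :=
  ⟨C.kr (reflE C.fU hu) 1, Orth.mem_isometryGroup_iff.2 (C.isom_kr (reflL_iso C.symU hu) fun _ _ => rfl)⟩

theorem signs_refl {u : V3 F} (hu : C.fU u u ≠ 0) :
    Orth.detSign Q C.two C.nondegQ (C.reflIso hu) = -1 ∧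
      Orth.spinor Q (C.reflIso hu) = Similarity.sqSign (C.fU u u) * -Similarity.sqSign (-C.m / 2) := by
  classical
  have := Fintype.ofFinite F
  have h2 := C.two
  have fr := C.frW
  have hm := fr.n0
  obtain ⟨w, hw⟩ : ∃ w : Fin 3 → V3 F, w = ![C.w, C.e + C.g, C.e - C.g] := ⟨_, rfl⟩
  have horth : ∀ i j, i ≠ j → C.fW (w i) (w j) = 0 := by
    intro i j hij
    fin_cases i <;> fin_cases j <;> first | exact absurd rfl hij | simp [hw, fr.az, fr.bz, C.symW.symm C.w C.e,
      C.symW.symm C.w C.g, fr.aa, fr.bb, fr.ab, C.symW.symm C.g C.e]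
  have hval : ∀ i, C.fW (w i) (w i) = ![C.m, 2, -2] i := by
    intro i
    fin_cases i <;> simp [hw, fr.zz, fr.aa, fr.bb, fr.ab, C.symW.symm C.g C.e] <;> ring
  have hne : ∀ i, C.fW (w i) (w i) ≠ 0 := by
    intro i; rw [hval]; fin_cases i <;> simp [hm, h2]
  have hQ : ∀ i, Q (C.ten u (w i)) ≠ 0 := fun i => by
    rw [Q_pure]; exact div_ne_zero (mul_ne_zero hu (hne i)) h2
  have heq : C.reflIso hu = Orth.refl Q _ (hQ 0) * Orth.refl Q _ (hQ 1) * Orth.refl Q _ (hQ 2) := by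
    have hfix : ∀ i j, i ≠ j → ∀ x, Orth.app (Orth.refl Q _ (hQ i)) (C.ten x (w j)) = C.ten x (w j) :=
      fun i j hij x => Orth.app_refl_of_polar_eq_zero _ (by rw [C.polarQ, horth i j hij, mul_zero])
    have hact : ∀ i x, Orth.app (Orth.refl Q _ (hQ i)) (C.ten x (w i)) = C.ten (reflL C.fU u x) (w i) := by
      intro i x
      rw [Orth.app_refl, C.polarQ, Q_pure, reflL_apply, map_sub, map_smul, LinearMap.sub_apply, LinearMap.smul_apply]
      congr 2
      have := hne i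
      field_simp
    refine Orth.isometry_ext fun v => ?_
    refine LinearMap.congr_fun (f := actL (C.reflIso hu : GL ι F))
      (g := actL ((Orth.refl Q _ (hQ 0) * Orth.refl Q _ (hQ 1) * Orth.refl Q _ (hQ 2) :
        ↥(Cfsg.isometryGroup F ⇑Q)) : GL ι F)) ?_ v
    refine C.ext_ten fun x y => ?_
    have hy : y = (C.fW (w 0) y / C.m) • w 0 + (C.fW (w 1) y / 2) • w 1 + (C.fW (w 2) y / -2) • w 2 := by
      conv_lhs => rw [fr.expand y]
      simp only [hw, Matrix.cons_val, map_add, map_sub, LinearMap.add_apply, LinearMap.sub_apply]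
      match_scalars <;> field_simp <;> ring
    rw [hy]
    simp only [map_add, map_smul]
    have hR : ∀ j, actL (C.reflIso hu : GL ι F) (C.ten x (w j)) = C.ten (reflL C.fU u x) (w j) :=
      fun j => C.kr_ten (reflE C.fU hu) 1 x (w j)
    have hL : ∀ j, actL ((Orth.refl Q _ (hQ 0) * Orth.refl Q _ (hQ 1) * Orth.refl Q _ (hQ 2) :
        ↥(Cfsg.isometryGroup F ⇑Q)) : GL ι F) (C.ten x (w j)) = C.ten (reflL C.fU u x) (w j) := fun j => by
      show Orth.app (Orth.refl Q _ (hQ 0) * Orth.refl Q _ (hQ 1) * Orth.refl Q _ (hQ 2)) _ = _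
      fin_cases j <;>
        simp only [Orth.app_mul, Fin.zero_eta, Fin.mk_one, Fin.reduceFinMk, hfix 2 0 (by decide), hfix 2 1 (by decide),
          hfix 1 0 (by decide), hfix 1 2 (by decide), hfix 0 1 (by decide), hfix 0 2 (by decide), hact]
    simp only [hR, hL]
  refine ⟨by rw [heq]; simp only [map_mul, Orth.detSign_refl h2 C.nondegQ]; decide, ?_⟩
  rw [heq]
  simp only [map_mul, Similarity.spinor_refl_eq h2, Q_pure, hval, Matrix.cons_val]
  have hm2 : (-C.m / 2 : F) ≠ 0 := div_ne_zero (neg_ne_zero.2 hm) h2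
  have k1 : C.fU u u * C.m / 2 ≠ 0 := div_ne_zero (mul_ne_zero hu hm) h2
  have k2 : C.fU u u * 2 / 2 ≠ 0 := div_ne_zero (mul_ne_zero hu h2) h2
  have k3 : C.fU u u * -2 / 2 ≠ 0 := div_ne_zero (mul_ne_zero hu (neg_ne_zero.2 h2)) h2
  rw [show ∀ a b c : ℤˣ, -a * -b * -c = -(a * b * c) from fun a b c => by simp [neg_mul, mul_neg],
    mul_neg (Similarity.sqSign (C.fU u u)),
    ← Similarity.sqSign_mul h2 k1 k2, ← Similarity.sqSign_mul h2 (mul_ne_zero k1 k2) k3,
    ← Similarity.sqSign_mul h2 hu hm2]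
  congr 1
  have key : C.fU u u * C.m / 2 * (C.fU u u * 2 / 2) * (C.fU u u * -2 / 2) =
      (C.fU u u * (-C.m / 2)) * (C.fU u u * C.fU u u) := by
    field_simp
  rw [key, Similarity.sqSign_mul h2 (mul_ne_zero hu hm2) (mul_ne_zero hu hu),
    Similarity.sqSign_eq_one_iff.2 ⟨C.fU u u, rfl⟩, mul_one]

/-- Products of two reflections of the first factor. -/
theorem pair_iff {u v : V3 F} (hu : C.fU u u ≠ 0) (hv : C.fU v v ≠ 0) :
    C.kr (reflE C.fU hu * reflE C.fU hv) 1 ∈ H ↔ IsSquare (C.fU u u * C.fU v v) := by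
  have := Fintype.ofFinite F
  have h2 := C.two
  have hval : ((C.reflIso hu * C.reflIso hv : ↥(Cfsg.isometryGroup F ⇑Q)) : GL ι F) =
      C.kr (reflE C.fU hu * reflE C.fU hv) 1 := by
    show C.kr _ 1 * C.kr _ 1 = _
    rw [kr_mul, one_mul]
  have hsp : Orth.spinor Q (C.reflIso hu * C.reflIso hv) = Similarity.sqSign (C.fU u u * C.fU v v) := by
    rw [map_mul, (C.signs_refl hu).2, (C.signs_refl hv).2, Similarity.sqSign_mul h2 hu hv,
      mul_mul_mul_comm, Int.units_mul_self, mul_one]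
  constructor
  · intro h
    obtain ⟨k, hk, hkv⟩ := C.le_omega h
    have e : k = C.reflIso hu * C.reflIso hv := Subtype.ext (hkv.trans hval.symm)
    have h' := ((Orth.mem_omega_iff h2 C.nondegQ (by rw [C.card_eq]; norm_num) k).1 hk).2
    rw [e, hsp] at h'
    exact Similarity.sqSign_eq_one_iff.1 h'
  · intro h
    refine C.kron _ ⟨C.reflIso hu * C.reflIso hv, ?_, hval⟩ (C.isKr_kr _ _)
    refine (Orth.mem_omega_iff h2 C.nondegQ (by rw [C.card_eq]; norm_num) _).2 ⟨?_, ?_⟩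
    · rw [map_mul, (C.signs_refl hu).1, (C.signs_refl hv).1]; rfl
    · rw [hsp]; exact Similarity.sqSign_eq_one_iff.2 h

end Ctx

end Cfsg.Agent.Lib.TensorThreeThree
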