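import Cfsg.Agent.Lib.TensorThreeThree.Cent
import Cfsg.Agent.Lib.MaxClass.NotTopOrth

/-!
The stabiliser of a tensor decomposition `O₃ ⊗ O₃` with equal factors is maximal in `Ω₉`, for at least five
elements.
-/

set_option autoImplicit false
set_option linter.unusedSectionVars false

namespace Cfsg.Agent.Lib.TensorThreeThree

open Module QuadraticMap Matrix Cfsg.Agent.Lib Cfsg.Agent.Lib.TensorThreeFour

/-- Pairs and functions on two points. -/
abbrev pairEquiv : (Fin 2 → Fin 3) ≃ Fin 3 × Fin 3 := piFinTwoEquiv fun _ => Fin 3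

variable {ι : Type} [Fintype ι] [DecidableEq ι] {F : Type*} [Field F]

/-- The product of vectors in the coordinates of a decomposition. -/
def powMap (e : ι ≃ (Fin 2 → Fin 3)) (P : GL ι F) : V3 F →ₗ[F] V3 F →ₗ[F] (ι → F) :=
  LinearMap.mk₂ F (fun u w => act P ((fun x : Fin 2 → Fin 3 => u (x 0) * w (x 1)) ∘ e))
    (fun u u' w => by
      show act P _ = act P _ + act P _
      rw [← act_add]; congr 1; funext i; simp [add_mul])
    (fun c u w => by
      show act P _ = c • act P _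
      rw [← act_smul]; congr 1; funext i; simp [mul_assoc])
    (fun u w w' => by
      show act P _ = act P _ + act P _
      rw [← act_add]; congr 1; funext i; simp [mul_add])
    (fun c u w => by
      show act P _ = c • act P _
      rw [← act_smul]; congr 1; funext i; simp [mul_left_comm])

theorem powMap_apply (e : ι ≃ (Fin 2 → Fin 3)) (P : GL ι F) (u w : V3 F) :
    powMap e P u w = act P ((fun x : Fin 2 → Fin 3 => u (x 0) * w (x 1)) ∘ e) := rfl

/-- The basis of pure tensors. -/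
noncomputable def powBasis (e : ι ≃ (Fin 2 → Fin 3)) (P : GL ι F) : Basis (Fin 3 × Fin 3) F (ι → F) :=
  (Pi.basisFun F (Fin 3 × Fin 3)).map
    ((LinearEquiv.funCongrLeft F F (e.trans pairEquiv)).trans (Forms.glEquiv ι F P))

theorem powBasis_eq (e : ι ≃ (Fin 2 → Fin 3)) (P : GL ι F) (i j : Fin 3) :
    powBasis e P (i, j) = powMap e P (Pi.single i 1) (Pi.single j 1) := by
  rw [powBasis, Basis.map_apply, Pi.basisFun_apply, powMap_apply, LinearEquiv.trans_apply, Forms.glEquiv_apply]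
  show act P _ = act P _
  congr 1
  funext x
  simp only [LinearEquiv.funCongrLeft_apply, LinearMap.funLeft_apply, Function.comp_apply, Equiv.trans_apply,
    piFinTwoEquiv_apply]
  by_cases h1 : e x 0 = i <;> by_cases h2 : e x 1 = j <;>
    simp [Pi.single_apply, Prod.ext_iff, h1, h2]

theorem act_conj_reindex (e : ι ≃ (Fin 2 → Fin 3)) (P : GL ι F) (R : GL (Fin 2 → Fin 3) F)
    (v : (Fin 2 → Fin 3) → F) :
    act (P * Cfsg.Geo.glReindex e.symm R * P⁻¹) (act P (v ∘ e)) =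
      act P (((R : Matrix (Fin 2 → Fin 3) (Fin 2 → Fin 3) F) *ᵥ v) ∘ e) := by
  rw [act_mul, act_inv_act, act_mul]
  congr 1
  show (Matrix.reindexAlgEquiv F F e.symm (R : Matrix (Fin 2 → Fin 3) (Fin 2 → Fin 3) F)) *ᵥ _ = _
  rw [Matrix.coe_reindexAlgEquiv, Matrix.reindex_apply, Equiv.symm_symm, Matrix.submatrix_mulVec_equiv]
  congr 2
  funext x
  simp

/-- Pure tensors act factorwise. -/
theorem mulVec_pure {R : Matrix (Fin 2 → Fin 3) (Fin 2 → Fin 3) F} {a b : Matrix (Fin 3) (Fin 3) F}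
    (hR : ∀ x y, R x y = a (x 0) (y 0) * b (x 1) (y 1)) (u w : V3 F) :
    R *ᵥ (fun x : Fin 2 → Fin 3 => u (x 0) * w (x 1)) = fun x => (a *ᵥ u) (x 0) * (b *ᵥ w) (x 1) := by
  funext x
  simp only [mulVec, dotProduct, hR]
  refine (Fintype.sum_equiv pairEquiv _ (fun p => a (x 0) p.1 * b (x 1) p.2 * (u p.1 * w p.2))
    (fun y => rfl)).trans ?_
  rw [Fintype.sum_prod_type, Finset.sum_mul_sum]
  exact Finset.sum_congr rfl fun k _ => Finset.sum_congr rfl fun l _ => by ring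

/-- The exchange of the two factors. -/
theorem mulVec_swap {R : Matrix (Fin 2 → Fin 3) (Fin 2 → Fin 3) F} {σ : Equiv.Perm (Fin 2)}
    (hR : ∀ x y, R x y = if y = x ∘ σ then 1 else 0) (v : (Fin 2 → Fin 3) → F) :
    R *ᵥ v = fun x => v (x ∘ σ) := by
  funext x
  simp [mulVec, dotProduct, hR]

variable {Q : QuadraticForm F (ι → F)} {H : Subgroup (GL ι F)}

/-- Kronecker elements lie in the stabiliser of the decomposition. -/
theorem mem_of_isKr {e : ι ≃ (Fin 2 → Fin 3)} {P g : GL ι F} (hg : IsKr (powMap e P) g) :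
    g ∈ Cfsg.Geo.tensorWreathSubgroup 3 2 e P := by
  obtain ⟨A, B, hA⟩ := hg
  obtain ⟨a, ha⟩ : ∃ a : GL (Fin 3) F, a = (Forms.glEquiv (Fin 3) F).symm A := ⟨_, rfl⟩
  obtain ⟨b, hb⟩ : ∃ b : GL (Fin 3) F, b = (Forms.glEquiv (Fin 3) F).symm B := ⟨_, rfl⟩
  obtain ⟨R₀, hR₀⟩ : ∃ R : GL (Fin 3 × Fin 3) F, (R : Matrix (Fin 3 × Fin 3) (Fin 3 × Fin 3) F) =
      Matrix.kroneckerMap (· * ·) (a : Matrix (Fin 3) (Fin 3) F) (b : Matrix (Fin 3) (Fin 3) F) := by
    refine ⟨GeneralLinearGroup.mkOfDetNeZero _ ?_, rfl⟩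
    erw [det_kronecker]
    exact mul_ne_zero (pow_ne_zero _ ((Matrix.isUnit_iff_isUnit_det _).mp (Units.isUnit _)).ne_zero)
      (pow_ne_zero _ ((Matrix.isUnit_iff_isUnit_det _).mp (Units.isUnit _)).ne_zero)
  obtain ⟨R, hR⟩ : ∃ R : GL (Fin 2 → Fin 3) F, ∀ x y, (R : Matrix (Fin 2 → Fin 3) (Fin 2 → Fin 3) F) x y =
      (a : Matrix (Fin 3) (Fin 3) F) (x 0) (y 0) * (b : Matrix (Fin 3) (Fin 3) F) (x 1) (y 1) := by
    refine ⟨Cfsg.Geo.glReindex pairEquiv.symm R₀, fun x y => ?_⟩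
    show Matrix.reindexAlgEquiv F F pairEquiv.symm (R₀ : Matrix (Fin 3 × Fin 3) (Fin 3 × Fin 3) F) x y = _
    rw [Matrix.coe_reindexAlgEquiv, Matrix.reindex_apply, hR₀]
    rfl
  refine ⟨_, ⟨R, Subgroup.subset_closure (Or.inl ⟨![a, b], fun x y => by rw [hR, Fin.prod_univ_two]; rfl⟩), rfl⟩,
    SingMax.gl_ext' fun v => ?_⟩
  refine LinearMap.congr_fun ((powBasis e P).ext (f₁ := actL _) (f₂ := actL g) fun ⟨i, j⟩ => ?_) v
  rw [powBasis_eq]
  show act _ _ = act g _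
  simp only [MulEquiv.coe_toMonoidHom, MulAut.conj_apply, hA]
  rw [powMap_apply, act_conj_reindex, mulVec_pure hR, powMap_apply, ha, hb, Forms.glEquiv_symm_mulVec,
    Forms.glEquiv_symm_mulVec]

theorem inM_of_mem (C : Ctx Q H) {e : ι ≃ (Fin 2 → Fin 3)} {P : GL ι F} (hC : C.ten = powMap e P) {g : GL ι F}
    (hg : g ∈ Cfsg.Geo.tensorWreathSubgroup 3 2 e P) : C.InM g := by
  obtain ⟨_, ⟨R, hR, rfl⟩, rfl⟩ := hg
  simp only [MulEquiv.coe_toMonoidHom, MulAut.conj_apply]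
  have hf : ∀ u w, act (P * Cfsg.Geo.glReindex e.symm R * P⁻¹) (powMap e P u w) =
      act P (((R : Matrix (Fin 2 → Fin 3) (Fin 2 → Fin 3) F) *ᵥ fun x : Fin 2 → Fin 3 => u (x 0) * w (x 1)) ∘ e) :=
    fun u w => act_conj_reindex e P R _
  induction hR using Subgroup.closure_induction with
  | mem R hR =>
    rcases hR with ⟨gs, hgs⟩ | ⟨σ, hσ⟩
    · refine Or.inl ⟨Forms.glEquiv (Fin 3) F (gs 0), Forms.glEquiv (Fin 3) F (gs 1), fun u w => ?_⟩
      rw [hC, hf, mulVec_pure (fun x y => by rw [hgs, Fin.prod_univ_two]) u w]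
      rfl
    · obtain rfl | rfl := (by decide : ∀ τ : Equiv.Perm (Fin 2), τ = 1 ∨ τ = Equiv.swap 0 1) σ
      · refine Or.inl ⟨LinearEquiv.refl F _, LinearEquiv.refl F _, fun u w => ?_⟩
        rw [hC, hf, mulVec_swap hσ]
        rfl
      · refine Or.inr ⟨LinearEquiv.refl F _, LinearEquiv.refl F _, fun u w => ?_⟩
        show _ = C.ten w u
        rw [hC, hf, mulVec_swap hσ, powMap_apply]
        congr 1
        funext i
        simp [mul_comm]
  | one => simpa using C.inM_one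
  | mul a b _ _ ha hb =>
    rw [map_mul, show P * (Cfsg.Geo.glReindex e.symm a * Cfsg.Geo.glReindex e.symm b) * P⁻¹ =
      P * Cfsg.Geo.glReindex e.symm a * P⁻¹ * (P * Cfsg.Geo.glReindex e.symm b * P⁻¹) by group]
    exact C.inM_mul (ha fun u w => act_conj_reindex e P a _) (hb fun u w => act_conj_reindex e P b _)
  | inv a _ ha =>
    rw [map_inv, show P * (Cfsg.Geo.glReindex e.symm a)⁻¹ * P⁻¹ =
      (P * Cfsg.Geo.glReindex e.symm a * P⁻¹)⁻¹ by group]
    exact C.inM_inv (ha fun u w => act_conj_reindex e P a _)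

theorem mem_of_inM (C : Ctx Q H) {e : ι ≃ (Fin 2 → Fin 3)} {P : GL ι F} (hC : C.ten = powMap e P) {g : GL ι F}
    (hg : C.InM g) : g ∈ Cfsg.Geo.tensorWreathSubgroup 3 2 e P := by
  have hkr : ∀ g : GL ι F, IsKr C.ten g → g ∈ Cfsg.Geo.tensorWreathSubgroup 3 2 e P :=
    fun g hg => mem_of_isKr (hC ▸ hg)
  rcases hg with h | ⟨A, B, h⟩
  · exact hkr g h
  obtain ⟨S, hS⟩ : ∃ S : GL (Fin 2 → Fin 3) F, ∀ x y, (S : Matrix (Fin 2 → Fin 3) (Fin 2 → Fin 3) F) x y =
      if y = x ∘ (Equiv.swap 0 1 : Equiv.Perm (Fin 2)) then 1 else 0 := by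
    refine ⟨GeneralLinearGroup.mkOfDetNeZero (Matrix.of fun x y =>
      if y = x ∘ (Equiv.swap 0 1 : Equiv.Perm (Fin 2)) then (1 : F) else 0) ?_, fun x y => rfl⟩
    refine (Matrix.isUnit_iff_isUnit_det _).1 (IsUnit.of_mul_eq_one (Matrix.of fun x y =>
      if y = x ∘ (Equiv.swap 0 1 : Equiv.Perm (Fin 2)) then (1 : F) else 0) ?_) |>.ne_zero
    ext x y
    have hss : ∀ f : Fin 2 → Fin 3, (f ∘ Equiv.swap 0 1) ∘ Equiv.swap 0 1 = f := fun f => funext fun i =>
      congrArg f (Equiv.swap_apply_self 0 1 i)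
    rw [Matrix.mul_apply, Finset.sum_eq_single (x ∘ (Equiv.swap 0 1 : Equiv.Perm (Fin 2)))
      (fun j _ hj => by simp [hj]) (by simp)]
    simp [Matrix.one_apply, hss, eq_comm]
  have hSmem : P * Cfsg.Geo.glReindex e.symm S * P⁻¹ ∈ Cfsg.Geo.tensorWreathSubgroup 3 2 e P :=
    ⟨_, ⟨S, Subgroup.subset_closure (Or.inr ⟨_, hS⟩), rfl⟩, rfl⟩
  have h1 := hkr (g * (P * Cfsg.Geo.glReindex e.symm S * P⁻¹)) ⟨B, A, fun u w => by
    have e1 : act (P * Cfsg.Geo.glReindex e.symm S * P⁻¹) (C.ten u w) = C.ten w u := by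
      rw [hC, powMap_apply, act_conj_reindex, mulVec_swap hS, powMap_apply]
      congr 1
      funext i
      simp [mul_comm]
    rw [act_mul, e1, h]
    rfl⟩
  have h2 := Subgroup.mul_mem _ h1 (Subgroup.inv_mem _ hSmem)
  rwa [mul_inv_cancel_right] at h2

variable [Finite F]

theorem exists_ctx {f₁ : V3 F → V3 F → F} (h2 : (2 : F) ≠ 0) (h5 : 5 ≤ Nat.card F) {e : ι ≃ (Fin 2 → Fin 3)}
    {P : GL ι F} (hf₁ : Cfsg.Geo.IsSymmetricForm f₁)
    (hT : Cfsg.Geo.IsTensorPowerFormStructure id (QuadraticMap.polar ⇑Q) f₁ e P)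
    {M : Subgroup (GL ι F)} (hPM : Cfsg.Geo.tensorWreathSubgroup 3 2 e P ⊓ Cfsg.Geo.omegaGL ⇑Q ≤ M)
    (hMK : M ≤ Cfsg.Geo.omegaGL ⇑Q) : ∃ C : Ctx Q M, C.ten = powMap e P := by
  obtain ⟨c, hc, hT⟩ := hT
  obtain ⟨hb₁, hs₁, hn₁⟩ := hf₁
  obtain ⟨β₁, hβ₁⟩ : ∃ β : LinearMap.BilinForm F (V3 F), ∀ u v, β u v = f₁ u v :=
    ⟨LinearMap.mk₂ F f₁ hb₁.add_left hb₁.smul_left (fun v x y => hb₁.add_right v x y)
      (fun a v x => hb₁.smul_right a v x), fun _ _ => rfl⟩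
  obtain ⟨fU, hfU⟩ : ∃ fU : LinearMap.BilinForm F (V3 F), fU = c • β₁ := ⟨_, rfl⟩
  have hU : ∀ u v, fU u v = c * f₁ u v := fun u v => by rw [hfU]; simp [hβ₁]
  have symU : Sym fU := ⟨fun x y => by rw [hU, hU, hs₁], fun x hx => by
    by_contra h0
    obtain ⟨y, hy⟩ := (hn₁ x h0).2
    exact mul_ne_zero hc hy (by rw [← hU]; exact hx y), h2⟩
  have symW : Sym β₁ := ⟨fun x y => by rw [hβ₁, hβ₁, hs₁], fun x hx => by
    by_contra h0
    obtain ⟨y, hy⟩ := (hn₁ x h0).2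
    exact hy (by rw [← hβ₁]; exact hx y), h2⟩
  have hpol : ∀ u w u' w', polar ⇑Q (powMap e P u w) (powMap e P u' w') = fU u u' * β₁ w w' := by
    intro u w u' w'
    have hexp : ∀ x y : V3 F, β₁ x y = ∑ i, ∑ j, x i * β₁ (Pi.single i 1) (Pi.single j 1) * y j := fun x y => by
      conv_lhs => rw [← Matrix.toBilin'_toMatrix' β₁, Matrix.toBilin'_apply]
      simp [LinearMap.BilinForm.toMatrix'_apply]
    rw [powMap_apply, powMap_apply, hT, hU, mul_assoc, ← hβ₁, hexp u u', hexp w w']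
    congr 1
    simp only [id, Cfsg.Geo.gramMatrix, Fin.prod_univ_two]
    refine (Fintype.sum_equiv pairEquiv _ (fun p => ∑ q : Fin 3 × Fin 3, u p.1 * w p.2 *
      (f₁ (Pi.single p.1 1) (Pi.single q.1 1) * f₁ (Pi.single p.2 1) (Pi.single q.2 1)) * (u' q.1 * w' q.2))
      (fun a => Fintype.sum_equiv pairEquiv _ _ fun b => rfl)).trans ?_
    simp only [Fintype.sum_prod_type, Finset.sum_mul_sum]
    refine Finset.sum_congr rfl fun i _ => Finset.sum_congr rfl fun j _ => Finset.sum_congr rfl fun k _ =>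
      Finset.sum_congr rfl fun l _ => ?_
    rw [hβ₁, hβ₁]
    ring
  obtain ⟨a, ha0, ha, -⟩ := FormMax.OrthSL.exists_singular_conds (Q := LinearMap.BilinMap.toQuadraticMap β₁) h2
    (![] : Fin 0 → V3 F) (by simp)
  obtain ⟨w, g, m, frW⟩ := exists_frame3 symW (Module.finrank_fin_fun F) ha0 ha
  have ha' : fU a a = 0 := by rw [hfU]; simp [show β₁ a a = 0 from ha]
  obtain ⟨z, b, n, frU⟩ := exists_frame3 symU (Module.finrank_fin_fun F) ha0 ha'
  exact ⟨{
    fU := fU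
    fW := β₁
    ten := powMap e P
    a := a
    z := z
    b := b
    n := n
    e := a
    w := w
    g := g
    m := m
    bV := powBasis e P
    bV_eq := powBasis_eq e P
    symU := symU
    symW := symW
    frU := frU
    frW := frW
    polarQ := hpol
    five := h5
    le_omega := hMK
    kron := fun h hh hk => hPM ⟨mem_of_isKr hk, hh⟩ }, rfl⟩

/-- The stabiliser of a tensor decomposition `O₃ ⊗ O₃` with equal factors is maximal. -/
theorem isMaximalIn_tensorPower {F : Type*} [Field F] [Fintype F] {Q : QuadraticForm F (ι → F)}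
    (hQ : (QuadraticMap.polarBilin Q).Nondegenerate) (h2 : (2 : F) ≠ 0) (h5 : 5 ≤ Fintype.card F)
    {f₁ : V3 F → V3 F → F} {e : ι ≃ (Fin 2 → Fin 3)} {P : GL ι F} (hf₁ : Cfsg.Geo.IsSymmetricForm f₁)
    (hT : Cfsg.Geo.IsTensorPowerFormStructure id (QuadraticMap.polar ⇑Q) f₁ e P) :
    Cfsg.Geo.IsMaximalIn (Cfsg.Geo.omegaGL ⇑Q)
      (Cfsg.Geo.tensorWreathSubgroup 3 2 e P ⊓ Cfsg.Geo.omegaGL ⇑Q) := by
  have h5' : 5 ≤ Nat.card F := by rwa [Nat.card_eq_fintype_card]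
  have hn : Fintype.card ι = 9 := by rw [Fintype.card_congr e]; simp
  refine ⟨lt_of_le_of_ne inf_le_right fun heq =>
    MaxClass.OmegaNotTop.not_le_tensorWreathSubgroup_two h2 hQ (by omega) le_rfl e P (heq.ge.trans inf_le_left),
    fun M hPM hMK => ?_⟩
  obtain ⟨C, hC⟩ := exists_ctx h2 h5' hf₁ hT hPM hMK
  by_cases hN : C.NR
  · by_cases hN' : C.flip.NR
    · left
      exact le_antisymm (fun g hg => ⟨mem_of_inM C hC (C.inM_all hN hN' hg), hMK hg⟩) hPM
    · exact Or.inr (le_antisymm hMK (C.flip.omega_le_of_not_NR hN'))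
  · exact Or.inr (le_antisymm hMK (C.omega_le_of_not_NR hN))

end Cfsg.Agent.Lib.TensorThreeThree
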