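import Cfsg.Agent.Lib.TensorThreeThree.Rot

/-!
The radical of the stabiliser of `S = U ⊗ e` met with the overgroup: either it consists of Kronecker Siegel
elements, or it has a central element.
-/

set_option autoImplicit false
set_option linter.unusedSectionVars false

namespace Cfsg.Agent.Lib.TensorThreeThree

open Module QuadraticMap Matrix Cfsg.Agent.Lib Cfsg.Agent.Lib.TensorThreeFour

namespace Ctx

variable {ι : Type} [Fintype ι] [DecidableEq ι] {F : Type*} [Field F] {Q : QuadraticForm F (ι → F)}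
  {H : Subgroup (GL ι F)} (C : Ctx Q H)
include C

/-- Acting trivially on the factors of `0 < U ⊗ e < U ⊗ e^⊥ < V`. -/
def RD (x : GL ι F) : Prop :=
  Isom Q x ∧ (∀ u, act x (C.ten u C.e) = C.ten u C.e) ∧
    ∀ u, ∃ r, act x (C.ten u C.w) = C.ten u C.w + C.ten r C.e

/-- The middle component. -/
noncomputable def Lm (x : GL ι F) : V3 F →ₗ[F] V3 F := (C.co C.g).comp ((actL x).comp (C.ten.flip C.w))

theorem Lm_apply (x : GL ι F) (u : V3 F) : C.Lm x u = C.co C.g (act x (C.ten u C.w)) := rfl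

/-- The dual component. -/
noncomputable def Tm (x : GL ι F) : V3 F →ₗ[F] V3 F := (C.co C.w).comp ((actL x).comp (C.ten.flip C.g))

/-- The corner component. -/
noncomputable def Zm (x : GL ι F) : V3 F →ₗ[F] V3 F := (C.co C.g).comp ((actL x).comp (C.ten.flip C.g))

theorem Zm_apply (x : GL ι F) (u : V3 F) : C.Zm x u = C.co C.g (act x (C.ten u C.g)) := rfl

theorem fW_wg : C.fW C.w C.g = 0 := by rw [C.symW.symm, C.frW.bz]

theorem fW_we : C.fW C.w C.e = 0 := by rw [C.symW.symm, C.frW.az]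

theorem fW_ge : C.fW C.g C.e = 1 := by rw [C.symW.symm, C.frW.ab]

theorem co_g_ten_e (r : V3 F) : C.co C.g (C.ten r C.e) = r := by
  rw [co_ten, C.frW.ab, one_smul]

theorem mid_eq {x : GL ι F} (hx : C.RD x) (u : V3 F) :
    act x (C.ten u C.w) = C.ten u C.w + C.ten (C.Lm x u) C.e := by
  obtain ⟨r, hr⟩ := hx.2.2 u
  rw [Lm_apply, hr, map_add, co_ten, C.fW_wg, zero_smul, zero_add, co_g_ten_e]

theorem rd_one : C.RD 1 :=
  ⟨fun v => by rw [act_one], fun u => act_one _, fun u => ⟨0, by rw [act_one]; simp⟩⟩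

theorem rd_mul {x y : GL ι F} (hx : C.RD x) (hy : C.RD y) : C.RD (x * y) := by
  refine ⟨isom_mul hx.1 hy.1, fun u => by rw [act_mul, hy.2.1, hx.2.1], fun u => ?_⟩
  refine ⟨C.Lm x u + C.Lm y u, ?_⟩
  rw [act_mul, C.mid_eq hy, act_add, C.mid_eq hx, hx.2.1, map_add, LinearMap.add_apply, add_assoc]

theorem rd_inv {x : GL ι F} (hx : C.RD x) : C.RD x⁻¹ := by
  have hf : ∀ u, act x⁻¹ (C.ten u C.e) = C.ten u C.e := fun u => by
    conv_lhs => rw [← hx.2.1 u]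
    exact act_inv_act _ _
  refine ⟨isom_inv hx.1, hf, fun u => ⟨-C.Lm x u, ?_⟩⟩
  have h := congrArg (act x⁻¹) (C.mid_eq hx u)
  rw [act_inv_act, eq_comm, act_add, hf] at h
  rw [map_neg, LinearMap.neg_apply, eq_add_neg_iff_add_eq, h]

theorem Lm_mul {x y : GL ι F} (hx : C.RD x) (hy : C.RD y) : C.Lm (x * y) = C.Lm x + C.Lm y :=
  LinearMap.ext fun u => by
    rw [Lm_apply, act_mul, C.mid_eq hy, act_add, C.mid_eq hx, hx.2.1, map_add, map_add, co_g_ten_e, co_g_ten_e,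
      co_ten, C.fW_wg, zero_smul, zero_add, LinearMap.add_apply]

theorem Lm_one : C.Lm 1 = 0 := LinearMap.ext fun u => by
  rw [Lm_apply, act_one, co_ten, C.fW_wg, zero_smul]; rfl

theorem Lm_inv {x : GL ι F} (hx : C.RD x) : C.Lm x⁻¹ = -C.Lm x := by
  rw [eq_neg_iff_add_eq_zero, ← C.Lm_mul (C.rd_inv hx) hx, inv_mul_cancel, Lm_one]

theorem top_eq {x : GL ι F} (hx : C.RD x) (u : V3 F) :
    act x (C.ten u C.g) = C.ten (C.Zm x u) C.e + C.m⁻¹ • C.ten (C.Tm x u) C.w + C.ten u C.g := by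
  have he : C.co C.e (act x (C.ten u C.g)) = u := C.symU.ext fun v => by
    rw [fU_co, ← hx.2.1 v, polar_isom hx.1, C.polarQ, C.fW_ge, mul_one]
  conv_lhs => rw [C.decompW (act x (C.ten u C.g)), he]
  rfl

theorem Tm_adj {x : GL ι F} (hx : C.RD x) (u v : V3 F) : C.fU (C.Tm x u) v = -C.fU u (C.Lm x v) := by
  rw [show C.Tm x u = C.co C.w (act x (C.ten u C.g)) from rfl, fU_co]
  have h := polar_isom hx.1 (C.ten u C.g) (C.ten v C.w)
  rw [C.mid_eq hx, polar_add_right, C.polarQ, C.frW.bz, mul_zero] at h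
  rw [eq_neg_iff_add_eq_zero, ← h]
  congr 1
  conv_rhs => rw [← hx.2.1 (C.Lm x v), polar_isom hx.1, C.polarQ, C.fW_ge, mul_one]

theorem Zm_mul {x y : GL ι F} (hx : C.RD x) (hy : C.RD y) :
    C.Zm (x * y) = C.Zm x + C.Zm y + C.m⁻¹ • (C.Lm x).comp (C.Tm y) := LinearMap.ext fun u => by
  rw [Zm_apply, act_mul, C.top_eq hy]
  simp only [act_add, act_smul]
  rw [hx.2.1, C.mid_eq hx]
  simp only [map_add, map_smul, co_g_ten_e, co_ten, C.fW_wg, C.frW.ab, one_smul, zero_smul, zero_add,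
    LinearMap.add_apply, LinearMap.smul_apply, LinearMap.comp_apply]
  show _ + _ + C.Zm x u = _
  abel

/-- Central elements. -/
def IsZ (x : GL ι F) : Prop := C.RD x ∧ C.Lm x = 0

theorem isZ_top {x : GL ι F} (hx : C.IsZ x) (u : V3 F) :
    act x (C.ten u C.g) = C.ten (C.Zm x u) C.e + C.ten u C.g := by
  have hT : C.Tm x = 0 := LinearMap.ext fun u => C.symU.ext fun v => by
    rw [C.Tm_adj hx.1, hx.2]; simp
  rw [C.top_eq hx.1, hT]
  simp

theorem isZ_ext {x y : GL ι F} (hx : C.IsZ x) (hy : C.IsZ y) (h : C.Zm x = C.Zm y) : x = y := by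
  refine C.gl_ext fun u v => ?_
  rw [C.frW.expand v]
  simp only [map_add, map_smul, act_add, act_smul]
  rw [hx.1.2.1, hy.1.2.1, C.mid_eq hx.1, C.mid_eq hy.1, hx.2, hy.2, C.isZ_top hx, C.isZ_top hy, h]

theorem isZ_one : C.IsZ 1 := ⟨C.rd_one, C.Lm_one⟩

theorem Zm_one : C.Zm 1 = 0 := LinearMap.ext fun u => by
  rw [Zm_apply, act_one, co_ten, C.frW.bb, zero_smul]; rfl

theorem isZ_mul {x y : GL ι F} (hx : C.IsZ x) (hy : C.IsZ y) : C.IsZ (x * y) :=
  ⟨C.rd_mul hx.1 hy.1, by rw [C.Lm_mul hx.1 hy.1, hx.2, hy.2, add_zero]⟩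

theorem isZ_inv {x : GL ι F} (hx : C.IsZ x) : C.IsZ x⁻¹ :=
  ⟨C.rd_inv hx.1, by rw [C.Lm_inv hx.1, hx.2, neg_zero]⟩

theorem Zm_mulZ {x y : GL ι F} (hx : C.IsZ x) (hy : C.RD y) : C.Zm (x * y) = C.Zm x + C.Zm y := by
  rw [C.Zm_mul hx.1 hy, hx.2]
  simp

theorem Zm_inv {x : GL ι F} (hx : C.IsZ x) : C.Zm x⁻¹ = -C.Zm x := by
  rw [eq_neg_iff_add_eq_zero, ← C.Zm_mulZ (C.isZ_inv hx) hx.1, inv_mul_cancel, Zm_one]

theorem Zm_skew {x : GL ι F} (hx : C.IsZ x) (u v : V3 F) :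
    C.fU (C.Zm x u) v = -C.fU u (C.Zm x v) := by
  have h := polar_isom hx.1.1 (C.ten u C.g) (C.ten v C.g)
  rw [C.isZ_top hx, C.isZ_top hx] at h
  simp only [polar_add_left, polar_add_right, C.polarQ, C.frW.aa, C.frW.ab, C.frW.bb, C.fW_ge,
    mul_zero, mul_one, zero_add, add_zero] at h
  linear_combination h

theorem comm_isZ {x y : GL ι F} (hx : C.RD x) (hy : C.RD y) : C.IsZ (x * y * (y * x)⁻¹) := by
  refine ⟨C.rd_mul (C.rd_mul hx hy) (C.rd_inv (C.rd_mul hy hx)), ?_⟩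
  rw [C.Lm_mul (C.rd_mul hx hy) (C.rd_inv (C.rd_mul hy hx)), C.Lm_inv (C.rd_mul hy hx), C.Lm_mul hx hy,
    C.Lm_mul hy hx]
  abel

theorem comm_Zm {x y : GL ι F} (hx : C.RD x) (hy : C.RD y) :
    C.Zm (x * y * (y * x)⁻¹) = C.m⁻¹ • ((C.Lm x).comp (C.Tm y) - (C.Lm y).comp (C.Tm x)) := by
  have h := C.Zm_mulZ (C.comm_isZ hx hy) (C.rd_mul hy hx)
  rw [inv_mul_cancel_right, C.Zm_mul hx hy, C.Zm_mul hy hx] at h
  rw [eq_sub_of_add_eq h.symm]
  module

/-- Conjugation by a Kronecker element of the first factor. -/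
theorem rd_conj {x : GL ι F} (hx : C.RD x) {A : V3 F ≃ₗ[F] V3 F} (hA : IsIso C.fU A.toLinearMap) :
    C.RD (C.kr A 1 * x * (C.kr A 1)⁻¹) := by
  refine ⟨isom_mul (isom_mul (C.isom_kr hA fun _ _ => rfl) hx.1) (isom_inv (C.isom_kr hA fun _ _ => rfl)),
    fun u => ?_, fun u => ⟨A (C.Lm x (A⁻¹ u)), ?_⟩⟩
  · rw [act_mul, act_mul, kr_inv, kr_ten, inv_one, LinearEquiv.coe_one, id_eq, hx.2.1, kr_ten]
    exact congrArg (fun v => C.ten v C.e) (A.apply_symm_apply u)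
  · rw [act_mul, act_mul, kr_inv, kr_ten, inv_one, LinearEquiv.coe_one, id_eq, C.mid_eq hx, act_add, kr_ten,
      kr_ten, LinearEquiv.coe_one, id_eq, id_eq, show A (A⁻¹ u) = u from A.apply_symm_apply u]

theorem Lm_conj {x : GL ι F} (hx : C.RD x) {A : V3 F ≃ₗ[F] V3 F} :
    C.Lm (C.kr A 1 * x * (C.kr A 1)⁻¹) = A.conj (C.Lm x) := LinearMap.ext fun u => by
  rw [Lm_apply, act_mul, act_mul, kr_inv, kr_ten, inv_one, LinearEquiv.coe_one, id_eq, C.mid_eq hx, act_add,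
    kr_ten, kr_ten, LinearEquiv.coe_one, id_eq, id_eq, map_add, co_g_ten_e, co_ten, C.fW_wg, zero_smul, zero_add]
  rfl

theorem isZ_conj {x : GL ι F} (hx : C.IsZ x) {A : V3 F ≃ₗ[F] V3 F} (hA : IsIso C.fU A.toLinearMap) :
    C.IsZ (C.kr A 1 * x * (C.kr A 1)⁻¹) := ⟨C.rd_conj hx.1 hA, by rw [C.Lm_conj hx.1, hx.2, map_zero]⟩

theorem Zm_conj {x : GL ι F} (hx : C.IsZ x) {A : V3 F ≃ₗ[F] V3 F} :
    C.Zm (C.kr A 1 * x * (C.kr A 1)⁻¹) = A.conj (C.Zm x) := LinearMap.ext fun u => by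
  rw [Zm_apply, act_mul, act_mul, kr_inv, kr_ten, inv_one, LinearEquiv.coe_one, id_eq, C.isZ_top hx, act_add,
    kr_ten, kr_ten, LinearEquiv.coe_one, id_eq, id_eq, map_add, co_g_ten_e, co_ten, C.frW.bb, zero_smul,
    add_zero]
  rfl

/-- The Siegel element of the second factor with centre `e`. -/
noncomputable def yt (t : F) : GL ι F :=
  C.kr 1 (siegE C.symW C.frW.aa (b := t • C.w) (by rw [map_smul, C.frW.az, smul_zero]))

theorem yt_ten (t : F) (u v : V3 F) :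
    act (C.yt t) (C.ten u v) = C.ten u (siegL C.fW C.e (t • C.w) v) := C.kr_ten _ _ u v

theorem yt_e (t : F) (u : V3 F) : act (C.yt t) (C.ten u C.e) = C.ten u C.e := by
  rw [yt_ten, siegL_apply]
  simp [C.frW.aa, C.fW_we]

theorem yt_w (t : F) (u : V3 F) :
    act (C.yt t) (C.ten u C.w) = C.ten u C.w + C.ten (-(t * C.m) • u) C.e := by
  rw [yt_ten, siegL_apply]
  simp [C.frW.az, C.frW.zz, sub_eq_add_neg]

theorem isom_yt (t : F) : Isom Q (C.yt t) :=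
  C.isom_kr (fun _ _ => rfl) (siegL_iso C.symW C.frW.aa (by rw [map_smul, C.frW.az, smul_zero]))

theorem rd_yt (t : F) : C.RD (C.yt t) := ⟨C.isom_yt t, C.yt_e t, fun u => ⟨_, C.yt_w t u⟩⟩

theorem Lm_yt (t : F) : C.Lm (C.yt t) = -(t * C.m) • LinearMap.id := LinearMap.ext fun u => by
  rw [Lm_apply, yt_w, map_add, co_g_ten_e, co_ten, C.fW_wg, zero_smul, zero_add]; rfl

theorem Tm_yt (t : F) : C.Tm (C.yt t) = (t * C.m) • LinearMap.id := LinearMap.ext fun u => C.symU.ext fun v => by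
  rw [C.Tm_adj (C.rd_yt t), C.Lm_yt]
  simp

theorem comm_yt {x : GL ι F} (hx : C.RD x) (h : x * C.yt 1 * (C.yt 1 * x)⁻¹ = 1) : C.Tm x = -C.Lm x := by
  have hm := C.frW.n0
  have e := C.comm_Zm hx (C.rd_yt 1)
  rw [h, Zm_one, C.Tm_yt, C.Lm_yt, one_mul] at e
  refine eq_neg_of_add_eq_zero_left (e.trans ?_).symm
  simp only [LinearMap.comp_smul, LinearMap.smul_comp, LinearMap.comp_id, LinearMap.id_comp]
  match_scalars <;> field_simp

theorem rd_of_scalar {x : GL ι F} (hx : C.RD x) {l : F} (h : C.Lm x = l • LinearMap.id) :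
    ∃ t, C.IsZ (x * (C.yt t)⁻¹) := by
  have hm := C.frW.n0
  refine ⟨-(l / C.m), C.rd_mul hx (C.rd_inv (C.rd_yt _)), ?_⟩
  rw [C.Lm_mul hx (C.rd_inv (C.rd_yt _)), C.Lm_inv (C.rd_yt _), C.Lm_yt, h, neg_mul, neg_neg,
    div_mul_cancel₀ _ hm, add_neg_cancel]

variable [Finite F]

theorem yt_mem (t : F) : C.yt t ∈ H := C.siegW_mem _ _

/-- Every radical element of the overgroup is a Kronecker Siegel element. -/
def NR : Prop := ∀ x ∈ H, C.RD x → ∃ t, x = C.yt t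

theorem isZ_eq_one_of_NR (hN : C.NR) {x : GL ι F} (hxH : x ∈ H) (hx : C.IsZ x) : x = 1 := by
  obtain ⟨t, rfl⟩ := hN x hxH hx.1
  refine C.isZ_ext hx C.isZ_one ?_
  have h := LinearMap.congr_fun hx.2 C.a
  rw [C.Lm_yt, LinearMap.smul_apply, LinearMap.id_apply, LinearMap.zero_apply] at h
  have h0 := (smul_eq_zero.1 h).resolve_right C.a_ne
  have ht : t = 0 := (mul_eq_zero.1 (neg_eq_zero.1 h0)).resolve_right C.frW.n0
  refine LinearMap.ext fun u => ?_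
  rw [Zm_one, Zm_apply, yt_ten, ht, zero_smul, siegL_zero, LinearMap.id_apply, co_ten, C.frW.bb, zero_smul]
  rfl

/-- Descent until the difference with the conjugate is scalar. -/
theorem descend {A : V3 F ≃ₗ[F] V3 F} (hA : IsIso C.fU A.toLinearMap) (hAH : C.kr A 1 ∈ H)
    {p : ℕ} [Fact p.Prime] [CharP F p] (hAp : A ^ p = 1)
    {P : (V3 F →ₗ[F] V3 F) → Prop} (hP : ∀ L, P L → P (A.conj L - L)) {x : GL ι F} (hxH : x ∈ H)
    (hx : C.RD x) (hP₁ : P (C.Lm x)) (hns : ¬ ∃ l : F, C.Lm x = l • LinearMap.id) :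
    ∃ y ∈ H, C.RD y ∧ P (C.Lm y) ∧ (¬ ∃ l : F, C.Lm y = l • LinearMap.id) ∧
      ∃ l : F, A.conj (C.Lm y) - C.Lm y = l • LinearMap.id := by
  obtain ⟨Φ, hΦ⟩ : ∃ Φ : Module.End F (Module.End F (V3 F)), Φ = A.conj.toLinearMap := ⟨_, rfl⟩
  obtain ⟨D, hD⟩ : ∃ D : Module.End F (Module.End F (V3 F)), D = Φ - 1 := ⟨_, rfl⟩
  have hDa : ∀ L, D L = A.conj L - L := fun L => by rw [hD, hΦ]; rfl
  have hDp : D ^ p = 0 := by
    have : Nontrivial (Module.End F (V3 F)) :=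
      ⟨LinearMap.id, 0, fun h => C.a_ne (LinearMap.congr_fun h C.a)⟩
    have : CharP (Module.End F (Module.End F (V3 F))) p :=
      charP_of_injective_algebraMap (algebraMap F (Module.End F (Module.End F (V3 F)))).injective p
    rw [hD, sub_pow_char_of_commute (R := Module.End F (Module.End F (V3 F))) (p := p) (Commute.one_right Φ),
      one_pow, sub_eq_zero, hΦ]
    refine LinearMap.ext fun L => ?_
    have : ∀ k : ℕ, (A.conj.toLinearMap ^ k : Module.End F (Module.End F (V3 F))) L = (A ^ k).conj L := by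
      intro k
      induction k with
      | zero => rfl
      | succ k ih => rw [pow_succ', Module.End.mul_apply, ih, pow_succ']; rfl
    rw [this, hAp]; rfl
  suffices ∀ (k : ℕ) (x : GL ι F), x ∈ H → C.RD x → P (C.Lm x) → (¬ ∃ l : F, C.Lm x = l • LinearMap.id) →
      (D ^ k) (C.Lm x) = 0 →
      ∃ y ∈ H, C.RD y ∧ P (C.Lm y) ∧ (¬ ∃ l : F, C.Lm y = l • LinearMap.id) ∧
      ∃ l : F, A.conj (C.Lm y) - C.Lm y = l • LinearMap.id from
    this p x hxH hx hP₁ hns (by rw [hDp]; rfl)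
  intro k
  induction k with
  | zero => intro x _ _ _ hns h; exact absurd ⟨0, by simpa using h⟩ hns
  | succ k ih =>
    intro x hxH hx hP₁ hns h
    by_cases hs : ∃ l : F, A.conj (C.Lm x) - C.Lm x = l • LinearMap.id
    · exact ⟨x, hxH, hx, hP₁, hns, hs⟩
    have h' := C.rd_conj hx hA
    have hL : C.Lm (C.kr A 1 * x * (C.kr A 1)⁻¹ * x⁻¹) = A.conj (C.Lm x) - C.Lm x := by
      rw [C.Lm_mul h' (C.rd_inv hx), C.Lm_inv hx, C.Lm_conj hx, sub_eq_add_neg]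
    rw [pow_succ, Module.End.mul_apply, hDa, ← hL] at h
    exact ih _ (H.mul_mem (H.mul_mem (H.mul_mem hAH hxH) (H.inv_mem hAH)) (H.inv_mem hxH))
      (C.rd_mul h' (C.rd_inv hx)) (hL ▸ hP _ hP₁) (by rwa [hL]) h

/-- A flip of the first factor in the overgroup. -/
theorem exists_flipU : ∃ A : V3 F ≃ₗ[F] V3 F, IsIso C.fU A.toLinearMap ∧ C.kr A 1 ∈ H ∧
    ∃ l : F, l ≠ 0 ∧ A C.a = l • C.b ∧ A C.b = l⁻¹ • C.a ∧ A C.z = -C.z := by
  have fr := C.frU
  have hn := fr.n0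
  have h1 : C.fU C.z C.z ≠ 0 := fr.zz ▸ hn
  obtain ⟨l, hl⟩ : ∃ l : F, l = -2 * C.n := ⟨_, rfl⟩
  have hl0 : l ≠ 0 := hl ▸ mul_ne_zero (neg_ne_zero.2 C.two) hn
  have e : C.fU (C.a - l • C.b) (C.a - l • C.b) = -2 * l := by
    simp [fr.aa, fr.bb, fr.ab, C.symU.symm C.b C.a]; ring
  have h2 : C.fU (C.a - l • C.b) (C.a - l • C.b) ≠ 0 := e ▸ mul_ne_zero (neg_ne_zero.2 C.two) hl0
  refine ⟨reflE C.fU h1 * reflE C.fU h2, fun x y => ?_, (C.pair_iff h1 h2).2 ⟨2 * C.n, ?_⟩, l, hl0, ?_, ?_, ?_⟩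
  · exact (reflL_iso C.symU h1 _ _).trans (reflL_iso C.symU h2 x y)
  · rw [fr.zz, e, hl]; ring
  all_goals
    show reflL C.fU C.z (reflL C.fU (C.a - l • C.b) _) = _
    simp only [reflL_apply, e, fr.zz, fr.aa, fr.bb, fr.ab, fr.az, fr.bz, C.symU.symm C.b C.a, C.symU.symm C.z C.a,
      C.symU.symm C.z C.b, map_sub, map_smul, LinearMap.sub_apply, LinearMap.smul_apply, smul_eq_mul]
    have := C.two
    have : (-2 : F) ≠ 0 := neg_ne_zero.2 C.two
    match_scalars <;> field_simp <;> ring_nf <;> field_simp <;> ring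

/-- A radical element outside the Kronecker elements gives a central one. -/
theorem exists_isZ (hN : ¬ C.NR) : ∃ x ∈ H, C.IsZ x ∧ C.Zm x ≠ 0 := by
  by_contra hno
  push Not at hno
  have hone : ∀ x ∈ H, C.IsZ x → x = 1 := fun x hxH hx =>
    C.isZ_ext hx C.isZ_one (by rw [hno x hxH hx, Zm_one])
  have hsym : ∀ x ∈ H, C.RD x → C.Tm x = -C.Lm x := fun x hxH hx => C.comm_yt hx
    (hone _ (H.mul_mem (H.mul_mem hxH (C.yt_mem 1)) (H.inv_mem (H.mul_mem (C.yt_mem 1) hxH)))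
      (C.comm_isZ hx (C.rd_yt 1)))
  refine hN fun x hxH hx => ?_
  by_cases hsc : ∃ l : F, C.Lm x = l • LinearMap.id
  · obtain ⟨l, h1⟩ := hsc
    obtain ⟨t, hz⟩ := C.rd_of_scalar hx h1
    exact ⟨t, mul_inv_eq_one.1 (hone _ (H.mul_mem hxH (H.inv_mem (C.yt_mem t))) hz)⟩
  exfalso
  obtain ⟨p, hp, -, hchar⟩ := C.exists_char
  haveI := Fact.mk hp
  have fr := C.frU
  obtain ⟨s, hs0, hs1⟩ := exists_not_pm_one (F := F) C.five
  have haz : ∀ t : F, C.fU C.a (t • C.z) = 0 := fun t => by rw [map_smul, fr.az, smul_zero]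
  obtain ⟨σ, hσdef⟩ : ∃ σ : F → (V3 F ≃ₗ[F] V3 F),
      σ = fun t => siegE C.symU fr.aa (haz t) := ⟨_, rfl⟩
  have hσ : ∀ t u, σ t u = siegL C.fU C.a (t • C.z) u := fun t u => by rw [hσdef]; rfl
  have hσi : ∀ t, IsIso C.fU (σ t).toLinearMap := fun t => by
    rw [hσdef]; exact siegL_iso C.symU fr.aa (haz t)
  have hσH : ∀ t, C.kr (σ t) 1 ∈ H := fun t => by rw [hσdef]; exact C.siegU_mem _ _
  have hσp : ∀ t, σ t ^ p = 1 := fun t => by rw [hσdef]; exact siegE_pow_char C.symU _ _ p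
  have hcomm : σ 1 * σ s = σ s * σ 1 := LinearEquiv.ext fun u => by
    rw [LinearEquiv.mul_apply, LinearEquiv.mul_apply, hσ, hσ, hσ, hσ, siegL_add C.symU fr.aa (haz _) (haz _),
      siegL_add C.symU fr.aa (haz _) (haz _), add_comm]
  obtain ⟨y, hyH, hy, -, hyns, hy1⟩ :=
    C.descend (hσi 1) (hσH 1) (hσp 1) (P := fun _ => True) (fun _ _ => trivial) hxH hx trivial hsc
  obtain ⟨w, hwH, hw, hw1, hwns, hw1'⟩ :=
    C.descend (hσi s) (hσH s) (hσp s) (P := fun L => ∃ l : F, (σ 1).conj L - L = l • LinearMap.id)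
      (fun L ⟨l, hl⟩ => ⟨0, by
        have e : (σ 1).conj ((σ s).conj L) = (σ s).conj ((σ 1).conj L) := by
          show (σ 1 * σ s).conj L = (σ s * σ 1).conj L
          rw [hcomm]
        rw [sub_eq_iff_eq_add] at hl
        rw [map_sub, e, hl, map_add, map_smul, LinearEquiv.conj_id, zero_smul]
        abel⟩) hyH hy hy1 hyns
  have hTw := hsym w hwH hw
  have hsy : ∀ u v, C.fU (C.Lm w u) v = C.fU u (C.Lm w v) := fun u v => by
    have e := C.Tm_adj hw u v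
    rw [hTw, LinearMap.neg_apply, map_neg, LinearMap.neg_apply] at e
    exact neg_inj.1 e
  have hh : ∀ t : F, (∃ l : F, (σ t).conj (C.Lm w) - C.Lm w = l • LinearMap.id) →
      ∃ c : F, ∀ x, siegL C.fU C.a (t • C.z) (C.Lm w x) =
        C.Lm w (siegL C.fU C.a (t • C.z) x) + c • siegL C.fU C.a (t • C.z) x := by
    rintro t ⟨l, hl⟩
    refine ⟨l, fun v => ?_⟩
    have e := LinearMap.congr_fun hl (σ t v)
    rw [LinearMap.sub_apply, LinearEquiv.conj_apply_apply, LinearEquiv.symm_apply_apply, LinearMap.smul_apply,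
      LinearMap.id_apply, sub_eq_iff_eq_add] at e
    rw [← hσ, ← hσ, e, add_comm]
  obtain ⟨α, u, e1⟩ := form_of_symm C.symU fr hsy hs0 hs1 (hh 1 hw1) (hh s hw1')
  obtain ⟨A, hAi, hAH, l, hl0, hAa, hAb, -⟩ := C.exists_flipU
  have hw' := C.rd_conj hw hAi
  have hw'H := H.mul_mem (H.mul_mem hAH hwH) (H.inv_mem hAH)
  have hz := hone _ (H.mul_mem (H.mul_mem hwH hw'H) (H.inv_mem (H.mul_mem hw'H hwH))) (C.comm_isZ hw hw')
  have hk := C.comm_Zm hw hw'
  rw [hz, Zm_one, hTw, hsym _ hw'H hw', C.Lm_conj hw] at hk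
  have ha' : A.symm C.a = l • C.b := by
    rw [LinearEquiv.symm_apply_eq, map_smul, hAb, smul_smul, mul_inv_cancel₀ hl0, one_smul]
  have hkb := congrArg (fun t => C.fU C.b t) (LinearMap.congr_fun hk C.a)
  simp only [LinearMap.smul_apply, LinearMap.sub_apply, LinearMap.comp_apply,
    LinearMap.neg_apply, LinearMap.zero_apply, map_zero, LinearEquiv.conj_apply_apply, map_neg, e1, ha',
    map_add, map_smul, hAa, hAb, fr.aa, fr.ab, mul_zero, zero_smul, add_zero, mul_one, map_sub,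
    C.symU.symm C.b C.a, smul_eq_mul, fr.bb] at hkb
  have hm := C.frW.n0
  have hu : u * u * (l * l) = 0 := by
    linear_combination (norm := (field_simp; ring)) C.m * hkb
  have hu0 : u = 0 := by
    rcases mul_eq_zero.1 hu with h | h
    · exact mul_self_eq_zero.1 h
    · exact absurd h (mul_ne_zero hl0 hl0)
  exact hwns ⟨α, LinearMap.ext fun v => by simp [e1, hu0]⟩

end Ctx

end Cfsg.Agent.Lib.TensorThreeThree
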