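import Cfsg.Agent.Lib.TensorThreeThree.Kr

/-!
Half turns of the factors and which of them give elements of the overgroup.
-/

set_option autoImplicit false
set_option linter.unusedSectionVars false

namespace Cfsg.Agent.Lib.TensorThreeThree

open Module QuadraticMap Matrix Cfsg.Agent.Lib Cfsg.Agent.Lib.TensorThreeFour

section Small

variable {F : Type*} [Field F] {f : LinearMap.BilinForm F (V3 F)} (hf : Sym f)
include hf

theorem rot_mul_comm {z w : V3 F} (hz : f z z ≠ 0) (hw : f w w ≠ 0) (h : f z w = 0) :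
    rotE f hz * rotE f hw = rotE f hw * rotE f hz :=
  LinearEquiv.ext fun x => by
    simp only [LinearEquiv.mul_apply, rotE_apply, reflL_apply, map_neg, map_sub, map_smul, smul_eq_mul, h,
      hf.symm w z, mul_zero, sub_zero]
    match_scalars <;> ring

theorem rot_fix_line {z u : V3 F} (hz : f z z ≠ 0) (h : rotE f hz u = u) : u = (f z u / f z z) • z := by
  rw [rotE_apply, reflL_apply] at h
  refine smul_right_injective (V3 F) hf.two ?_
  have h2 := hf.two
  calc (2 : F) • u = u + u := two_smul F u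
    _ = -(u - (2 / f z z * f z u) • z) + u := by rw [h]
    _ = _ := by match_scalars <;> field_simp <;> ring

omit hf in
theorem rot_sq {z : V3 F} (hz : f z z ≠ 0) : rotE f hz * rotE f hz = 1 :=
  LinearEquiv.ext fun u => rotE_rotE hz u

theorem rot_ne_one {z : V3 F} (hz : f z z ≠ 0) : rotE f hz ≠ 1 := fun h => by
  obtain ⟨u, hu0, hu⟩ := exists_perp hf ![z] (by rw [Module.finrank_fin_fun]; norm_num)
  have e := rotE_perp hz (hu 0)
  rw [h, LinearEquiv.coe_one, id_eq] at e
  exact hu0 ((smul_eq_zero.1 (show (2 : F) • u = 0 by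
    rw [two_smul]; nth_rewrite 1 [e]; exact neg_add_cancel u)).resolve_left hf.two)

theorem trace_rotE {z : V3 F} (hz : f z z ≠ 0) : LinearMap.trace F _ (rotE f hz).toLinearMap = -1 := by
  have e : (rotE f hz).toLinearMap = -(LinearMap.id - ((2 / f z z) • f z).smulRight z) :=
    LinearMap.ext fun x => rotE_apply _ _ x
  rw [e, map_neg, map_sub, LinearMap.trace_id, LinearMap.trace_smulRight, Module.finrank_fin_fun,
    LinearMap.smul_apply, smul_eq_mul, div_mul_cancel₀ _ hz]
  push_cast; ring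

theorem eq_rot {A : V3 F ≃ₗ[F] V3 F} (hA : IsIso f A.toLinearMap) (hd : LinearMap.det A.toLinearMap = 1)
    (h2 : A * A = 1) : A = 1 ∨ ∃ z, ∃ hz : f z z ≠ 0, A = rotE f hz := by
  by_cases h1 : A.toLinearMap = LinearMap.id
  · exact Or.inl (LinearEquiv.toLinearMap_injective h1)
  obtain ⟨u, hu, hAu, hAp⟩ := exists_axis hf (Module.finrank_fin_fun F) hA
    (fun v => LinearEquiv.congr_fun h2 v) hd h1
  refine Or.inr ⟨u, hu, LinearEquiv.ext fun v => ?_⟩
  have e : v = (f u v / f u u) • u + (v - (f u v / f u u) • u) := by abel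
  have hp' : f u (v - (f u v / f u u) • u) = 0 := by
    rw [map_sub, map_smul, smul_eq_mul, div_mul_cancel₀ _ hu, sub_self]
  rw [e, map_add, map_add, map_smul, map_smul, rotE_self hu, rotE_perp hu hp']
  congr 1
  · rw [show A u = u from hAu]
  · exact hAp _ hp'

/-- Two half turns with the same operator have the same axis. -/
theorem rot_axis {z u : V3 F} (hz : f z z ≠ 0) (hu : f u u ≠ 0) (h : rotE f hz = rotE f hu) :
    ∃ l : F, u = l • z := ⟨_, rot_fix_line hf hz (by rw [h]; exact rotE_self hu)⟩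

/-- Commuting distinct half turns have orthogonal axes. -/
theorem perp_of_comm {z u : V3 F} (hz : f z z ≠ 0) (hu : f u u ≠ 0)
    (h : rotE f hz * rotE f hu = rotE f hu * rotE f hz) (hne : rotE f hz ≠ rotE f hu) : f z u = 0 := by
  have e := LinearEquiv.congr_fun h z
  rw [LinearEquiv.mul_apply, LinearEquiv.mul_apply, rotE_self hz, rotE_apply f hu, reflL_apply, map_neg, map_sub,
    map_smul, rotE_self hz, neg_inj, sub_right_inj] at e
  by_contra hzu
  have hc : 2 / f u u * f u z ≠ 0 := mul_ne_zero (div_ne_zero hf.two hu) (by rwa [hf.symm])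
  have hru := smul_right_injective (V3 F) hc e
  obtain ⟨l, hl⟩ : ∃ l : F, u = l • z := ⟨_, rot_fix_line hf hz hru⟩
  have hl0 : l ≠ 0 := fun h0 => hu (by rw [hl, h0, zero_smul]; simp)
  refine hne (LinearEquiv.ext fun x => ?_)
  rw [rotE_apply, rotE_apply, reflL_apply, reflL_apply, hl]
  simp only [map_smul, LinearMap.smul_apply, smul_eq_mul]
  match_scalars <;> field_simp

/-- An anisotropic vector orthogonal to an anisotropic vector. -/
theorem exists_perp_aniso {z : V3 F} (hz : f z z ≠ 0) : ∃ w, f w w ≠ 0 ∧ f z w = 0 := by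
  obtain ⟨u, hu0, hu⟩ := exists_perp hf ![z] (by rw [Module.finrank_fin_fun]; norm_num)
  have hzu : f z u = 0 := hu 0
  by_cases huu : f u u = 0
  · obtain ⟨y, hy⟩ := exists_ne hf hu0
    obtain ⟨y', hy'⟩ : ∃ y', y' = y - (f z y / f z z) • z := ⟨_, rfl⟩
    have hzy' : f z y' = 0 := by rw [hy', map_sub, map_smul, smul_eq_mul, div_mul_cancel₀ _ hz, sub_self]
    have huy' : f u y' ≠ 0 := by
      rw [hy', map_sub, map_smul, hf.symm u z, hzu, smul_zero, sub_zero]; exact hy
    by_cases hyy : f y' y' = 0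
    · refine ⟨u + y', ?_, by rw [map_add, hzu, hzy', add_zero]⟩
      simp only [map_add, LinearMap.add_apply, huu, hyy, hf.symm y' u, zero_add, add_zero]
      rw [← two_mul]; exact mul_ne_zero hf.two huy'
    · exact ⟨y', hyy, hzy'⟩
  · exact ⟨u, huu, hzu⟩

/-- The third axis. -/
theorem exists_third {z w : V3 F} (hz : f z z ≠ 0) (hw : f w w ≠ 0) (hzw : f z w = 0) :
    ∃ v, f v v ≠ 0 ∧ f z v = 0 ∧ f w v = 0 ∧
      ∀ x, x = (f z x / f z z) • z + (f w x / f w w) • w + (f v x / f v v) • v := by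
  obtain ⟨v, hv0, hv⟩ := exists_perp hf ![z, w] (by rw [Module.finrank_fin_fun]; norm_num)
  have hzv : f z v = 0 := hv 0
  have hwv : f w v = 0 := hv 1
  have hli : LinearIndependent F ![z, w, v] := by
    rw [Fintype.linearIndependent_iff]
    intro g hg
    rw [Fin.sum_univ_three] at hg
    simp only [Matrix.cons_val] at hg
    have e1 := congrArg (f z) hg
    have e2 := congrArg (f w) hg
    simp [hzw, hzv, hz] at e1
    simp [hw, hwv, hf.symm w z, hzw] at e2
    rw [e1, e2] at hg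
    simp [hv0] at hg
    intro i
    fin_cases i <;> assumption
  have hsp := hli.span_eq_top_of_card_eq_finrank (by simp)
  have hexp : ∀ x, ∃ r s t : F, x = r • z + s • w + t • v := fun x => by
    have hx : x ∈ Submodule.span F (Set.range ![z, w, v]) := by rw [hsp]; trivial
    obtain ⟨c, hc⟩ := (Submodule.mem_span_range_iff_exists_fun F).1 hx
    exact ⟨c 0, c 1, c 2, by rw [← hc, Fin.sum_univ_three]; simp⟩
  have hvv : f v v ≠ 0 := fun h0 => hv0 (hf.nd v fun x => by
    obtain ⟨r, s, t, rfl⟩ := hexp x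
    simp [hf.symm v z, hzv, hf.symm v w, hwv, h0])
  refine ⟨v, hvv, hzv, hwv, fun x => ?_⟩
  obtain ⟨r, s, t, rfl⟩ := hexp x
  simp [hzv, hwv, hf.symm v z, hf.symm v w, hzw, hf.symm w z, hz, hw, hvv]

/-- The product of two orthogonal half turns. -/
theorem rot_prod {z w v : V3 F} (hz : f z z ≠ 0) (hw : f w w ≠ 0) (hv : f v v ≠ 0) (hzw : f z w = 0)
    (hzv : f z v = 0) (hwv : f w v = 0) (hexp : ∀ x, x = (f z x / f z z) • z + (f w x / f w w) • w + (f v x / f v v) • v) :
    rotE f hz * rotE f hw = rotE f hv ∧ rotE f hz = reflE f hw * reflE f hv := by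
  have hwz : f w z = 0 := by rw [hf.symm, hzw]
  have hvz : f v z = 0 := by rw [hf.symm, hzv]
  have hvw : f v w = 0 := by rw [hf.symm, hwv]
  constructor
  all_goals
    refine LinearEquiv.toLinearMap_injective (LinearMap.ext fun x => ?_)
    rw [hexp x]
    simp only [LinearEquiv.coe_coe, LinearEquiv.mul_apply, map_add, map_smul, rotE_self, rotE_perp, map_neg,
      hzw, hzv, hwv, hwz, hvz, hvw, reflE_apply, reflL_fix, reflL_self, neg_neg, hz, hw, hv, ne_eq, not_false_eq_true]

/-- A vector orthogonal to `z` with prescribed value. -/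
theorem exists_perp_value [Finite F] {z : V3 F} (hz : f z z ≠ 0) {t : F} (ht : t ≠ 0) :
    ∃ w, f z w = 0 ∧ f w w = t := by
  have := Fintype.ofFinite F
  obtain ⟨p, hp, hzp⟩ := exists_perp_aniso hf hz
  obtain ⟨q, hq, hzq, hpq, -⟩ := exists_third hf hz hp hzp
  obtain ⟨a, b, hab⟩ := FiniteField.exists_root_sum_quadratic (R := F)
    (f := Polynomial.C (f p p) * Polynomial.X ^ 2) (g := Polynomial.C (f q q) * Polynomial.X ^ 2 - Polynomial.C t)
    (Polynomial.degree_C_mul_X_pow 2 hp)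
    (by rw [Polynomial.degree_sub_C (by rw [Polynomial.degree_C_mul_X_pow 2 hq]; decide),
      Polynomial.degree_C_mul_X_pow 2 hq]; rfl)
    (FiniteField.odd_card_of_char_ne_two fun h => hf.two (by haveI := ringChar.of_eq h; exact CharTwo.two_eq_zero))
  simp only [Polynomial.eval_mul, Polynomial.eval_C, Polynomial.eval_pow, Polynomial.eval_X,
    Polynomial.eval_sub] at hab
  refine ⟨a • p + b • q, by simp [hzp, hzq], ?_⟩
  simp [hpq, hf.symm q p]
  linear_combination hab

end Small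

namespace Ctx

variable {ι : Type} [Fintype ι] [DecidableEq ι] {F : Type*} [Field F] {Q : QuadraticForm F (ι → F)}
  {H : Subgroup (GL ι F)} (C : Ctx Q H)
include C

/-- An axis whose half turn gives an element of the overgroup. -/
def GoodAxis (z : V3 F) : Prop := ∃ hz : C.fU z z ≠ 0, C.kr (rotE C.fU hz) 1 ∈ H

/-- The half turns of the first factor in the overgroup. -/
def Good (x : GL ι F) : Prop :=
  ∃ (z : V3 F) (hz : C.fU z z ≠ 0), x = C.kr (rotE C.fU hz) 1 ∧ x ∈ H

theorem good_of_mem {z : V3 F} (hz : C.fU z z ≠ 0) (h : C.kr (rotE C.fU hz) 1 ∈ H) :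
    C.Good (C.kr (rotE C.fU hz) 1) := ⟨z, hz, rfl, h⟩

theorem good_sq {x : GL ι F} (h : C.Good x) : x * x = 1 := by
  obtain ⟨z, hz, rfl, -⟩ := h
  rw [kr_mul, rot_sq hz, one_mul, kr_one]

theorem good_mem {x : GL ι F} (h : C.Good x) : x ∈ H ∧ IsKr C.ten x := by
  obtain ⟨z, hz, rfl, h⟩ := h
  exact ⟨h, C.isKr_kr _ _⟩

variable [Finite F]

/-- Two bad orthogonal axes have a good third one. -/
theorem good_third {z w v : V3 F} (hz : C.fU z z ≠ 0) (hw : C.fU w w ≠ 0) (hv : C.fU v v ≠ 0)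
    (hzw : C.fU z w = 0) (hzv : C.fU z v = 0) (hwv : C.fU w v = 0)
    (hexp : ∀ x, x = (C.fU z x / C.fU z z) • z + (C.fU w x / C.fU w w) • w + (C.fU v x / C.fU v v) • v)
    (h1 : C.kr (rotE C.fU hz) 1 ∉ H) (h2 : C.kr (rotE C.fU hw) 1 ∉ H) : C.kr (rotE C.fU hv) 1 ∈ H := by
  have h2' := C.two
  have := Fintype.ofFinite F
  have hwz : C.fU w z = 0 := by rw [C.symU.symm, hzw]
  have hexp' : ∀ x, x = (C.fU w x / C.fU w w) • w + (C.fU z x / C.fU z z) • z + (C.fU v x / C.fU v v) • v :=
    fun x => by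
      conv_lhs => rw [hexp x]
      abel
  rw [(rot_prod C.symU hz hw hv hzw hzv hwv hexp).2, C.pair_iff] at h1
  rw [(rot_prod C.symU hw hz hv hwz hwv hzv hexp').2, C.pair_iff] at h2
  rw [← (rot_prod C.symU hz hw hv hzw hzv hwv hexp).1, (rot_prod C.symU hz hw hv hzw hzv hwv hexp).2,
    (rot_prod C.symU hw hz hv hwz hwv hzv hexp').2]
  rw [show reflE C.fU hw * reflE C.fU hv * (reflE C.fU hz * reflE C.fU hv) = reflE C.fU hw * reflE C.fU hz from ?_,
    C.pair_iff]
  · rw [← Similarity.sqSign_eq_one_iff] at h1 h2 ⊢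
    rw [Similarity.sqSign_mul h2' hw hz]
    rw [Similarity.sqSign_mul h2' hw hv] at h1
    rw [Similarity.sqSign_mul h2' hz hv] at h2
    rcases Int.units_eq_one_or (Similarity.sqSign (C.fU v v)) with h | h <;>
      rcases Int.units_eq_one_or (Similarity.sqSign (C.fU z z)) with h' | h' <;>
      rcases Int.units_eq_one_or (Similarity.sqSign (C.fU w w)) with h'' | h'' <;>
      simp only [h, h', h''] at h1 h2 ⊢ <;> revert h1 h2 <;> decide
  · refine LinearEquiv.ext fun x => ?_
    simp only [LinearEquiv.mul_apply, reflE_apply, reflL_apply, map_sub, map_smul, smul_eq_mul, hwv, hzv, hwz,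
      C.symU.symm v w, C.symU.symm v z, mul_zero, sub_zero]
    match_scalars <;> field_simp <;> ring

/-- Orthogonal to any axis there is a good one. -/
theorem exists_good_perp {z : V3 F} (hz : C.fU z z ≠ 0) :
    ∃ u, ∃ hu : C.fU u u ≠ 0, C.fU z u = 0 ∧ C.kr (rotE C.fU hu) 1 ∈ H := by
  obtain ⟨w, hzw, hww⟩ := exists_perp_value C.symU hz hz
  have hw : C.fU w w ≠ 0 := hww ▸ hz
  obtain ⟨u, hu, hzu, hwu, hexp⟩ := exists_third C.symU hz hw hzw
  refine ⟨u, hu, hzu, ?_⟩
  have hexp' : ∀ x, x = (C.fU u x / C.fU u u) • u + (C.fU z x / C.fU z z) • z + (C.fU w x / C.fU w w) • w :=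
    fun x => by
      conv_lhs => rw [hexp x]
      abel
  rw [(rot_prod C.symU hu hz hw (by rw [C.symU.symm, hzu]) (by rw [C.symU.symm, hwu]) hzw hexp').2, C.pair_iff, hww]
  exact ⟨_, rfl⟩

theorem exists_good : ∃ z, ∃ hz : C.fU z z ≠ 0, C.kr (rotE C.fU hz) 1 ∈ H := by
  obtain ⟨u, hu, -, h⟩ := C.exists_good_perp (z := C.z) (C.frU.zz ▸ C.frU.n0)
  exact ⟨u, hu, h⟩

end Ctx

end Cfsg.Agent.Lib.TensorThreeThree
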