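import Cfsg.Agent.Lib.TensorThreeFour.Operators
import Cfsg.Agent.Lib.SingMax.Basic
import Cfsg.Agent.Lib.Similarity.SpinorProduct

/-!
The tensor product `U ⊗ W` of two three-dimensional orthogonal spaces inside `Ω₉`: the data, product maps
between two such descriptions of one space, and coordinates.
-/

set_option autoImplicit false
set_option linter.unusedSectionVars false

namespace Cfsg.Agent.Lib.TensorThreeThree

open Module QuadraticMap Matrix Cfsg.Agent.Lib Cfsg.Agent.Lib.TensorThreeFour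

/-- Vectors of a factor. -/
abbrev V3 (F : Type*) [Field F] := Fin 3 → F

/-- The action on column vectors. -/
abbrev act {ι : Type} [Fintype ι] [DecidableEq ι] {F : Type*} [Field F] (g : GL ι F) (v : ι → F) : ι → F :=
  (g : Matrix ι ι F) *ᵥ v

/-- The action as a linear map. -/
abbrev actL {ι : Type} [Fintype ι] [DecidableEq ι] {F : Type*} [Field F] (g : GL ι F) :
    (ι → F) →ₗ[F] (ι → F) := Matrix.mulVecLin (g : Matrix ι ι F)

section Act

variable {ι : Type} [Fintype ι] [DecidableEq ι] {F : Type*} [Field F]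

theorem act_mul (x y : GL ι F) (v : ι → F) : act (x * y) v = act x (act y v) := by
  rw [act, Units.val_mul, ← mulVec_mulVec]

theorem act_one (v : ι → F) : act (1 : GL ι F) v = v := by
  rw [act, Units.val_one, one_mulVec]

theorem act_inv_act (x : GL ι F) (v : ι → F) : act x⁻¹ (act x v) = v := by
  rw [← act_mul, inv_mul_cancel, act_one]

theorem act_act_inv (x : GL ι F) (v : ι → F) : act x (act x⁻¹ v) = v := by
  rw [← act_mul, mul_inv_cancel, act_one]

theorem act_add (x : GL ι F) (v w : ι → F) : act x (v + w) = act x v + act x w := mulVec_add _ _ _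

theorem act_sub (x : GL ι F) (v w : ι → F) : act x (v - w) = act x v - act x w := mulVec_sub _ _ _

theorem act_smul (x : GL ι F) (t : F) (v : ι → F) : act x (t • v) = t • act x v := mulVec_smul _ _ _

theorem act_zero (x : GL ι F) : act x 0 = 0 := mulVec_zero _

end Act

/-- A Kronecker element for a bilinear product map. -/
def IsKr {ι : Type} [Fintype ι] [DecidableEq ι] {F : Type*} [Field F]
    (ten : V3 F →ₗ[F] V3 F →ₗ[F] (ι → F)) (g : GL ι F) : Prop :=
  ∃ (A B : V3 F ≃ₗ[F] V3 F), ∀ u w, act g (ten u w) = ten (A u) (B w)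

/-- The data: the forms, frames, the product map, and an overgroup of the Kronecker elements in `Ω`. -/
structure Ctx {F : Type*} [Field F] {ι : Type} [Fintype ι] [DecidableEq ι] (Q : QuadraticForm F (ι → F))
    (H : Subgroup (GL ι F)) where
  fU : LinearMap.BilinForm F (V3 F)
  fW : LinearMap.BilinForm F (V3 F)
  ten : V3 F →ₗ[F] V3 F →ₗ[F] (ι → F)
  a : V3 F
  z : V3 F
  b : V3 F
  n : F
  e : V3 F
  w : V3 F
  g : V3 F
  m : F
  bV : Basis (Fin 3 × Fin 3) F (ι → F)
  bV_eq : ∀ i j, bV (i, j) = ten (Pi.single i 1) (Pi.single j 1)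
  symU : Sym fU
  symW : Sym fW
  frU : Frame3 fU a z b n
  frW : Frame3 fW e w g m
  polarQ : ∀ u v u' v', polar ⇑Q (ten u v) (ten u' v') = fU u u' * fW v v'
  five : 5 ≤ Nat.card F
  le_omega : H ≤ Cfsg.Geo.omegaGL ⇑Q
  kron : ∀ h ∈ Cfsg.Geo.omegaGL ⇑Q, IsKr ten h → h ∈ H

namespace Ctx

variable {ι : Type} [Fintype ι] [DecidableEq ι] {F : Type*} [Field F] {Q : QuadraticForm F (ι → F)}
  {H : Subgroup (GL ι F)} (C : Ctx Q H)

/-- The factors exchanged. -/
noncomputable def flip : Ctx Q H where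
  fU := C.fW
  fW := C.fU
  ten := C.ten.flip
  a := C.e
  z := C.w
  b := C.g
  n := C.m
  e := C.a
  w := C.z
  g := C.b
  m := C.n
  bV := C.bV.reindex (Equiv.prodComm (Fin 3) (Fin 3))
  bV_eq := fun i j => by rw [Basis.reindex_apply]; exact C.bV_eq j i
  symU := C.symW
  symW := C.symU
  frU := C.frW
  frW := C.frU
  polarQ := fun u v u' v' => by simp [C.polarQ, mul_comm]
  five := C.five
  le_omega := C.le_omega
  kron := fun h hh ⟨A, B, hAB⟩ => C.kron h hh ⟨B, A, fun u v => hAB v u⟩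

@[simp] theorem flip_flip_ten : C.flip.ten.flip = C.ten := rfl

include C

theorem two : (2 : F) ≠ 0 := C.symU.two

theorem ext_ten {W : Type*} [AddCommGroup W] [Module F W] {L L' : (ι → F) →ₗ[F] W}
    (h : ∀ u v, L (C.ten u v) = L' (C.ten u v)) : L = L' :=
  C.bV.ext fun ⟨i, j⟩ => by rw [C.bV_eq]; exact h _ _

theorem gl_ext {x y : GL ι F} (h : ∀ u v, act x (C.ten u v) = act y (C.ten u v)) : x = y := by
  refine SingMax.gl_ext' fun v => ?_
  exact LinearMap.congr_fun (C.ext_ten (L := actL x) (L' := actL y) h) v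

theorem repr_ten (u v : V3 F) (i j : Fin 3) : C.bV.repr (C.ten u v) (i, j) = u i * v j := by
  refine LinearMap.congr_fun (LinearMap.congr_fun (?_ : C.ten.compr₂ (C.bV.coord (i, j)) =
    (LinearMap.mul F F).compl₁₂ (LinearMap.proj i) (LinearMap.proj j)) u) v
  refine (Pi.basisFun F (Fin 3)).ext fun k => (Pi.basisFun F (Fin 3)).ext fun l => ?_
  simp only [LinearMap.compr₂_apply, LinearMap.compl₁₂_apply, Pi.basisFun_apply, ← C.bV_eq]
  simp only [Basis.coord_apply, Basis.repr_self, LinearMap.coe_proj, Function.eval, LinearMap.mul_apply']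
  rw [Finsupp.single_apply]
  by_cases h1 : k = i <;> by_cases h2 : l = j <;> simp [h1, h2, Ne.symm] <;> tauto

theorem card_eq : Fintype.card ι = 9 := by
  rw [← Module.finrank_fintype_fun_eq_card F, Module.finrank_eq_card_basis C.bV]
  rfl

theorem Q_pure (u v : V3 F) : Q (C.ten u v) = C.fU u u * C.fW v v / 2 := by
  rw [eq_div_iff C.two, ← C.polarQ, polar_self, two_nsmul, mul_two]

omit C in
/-- Preserving the quadratic form. -/
def Isom (Q : QuadraticForm F (ι → F)) (x : GL ι F) : Prop := ∀ v, Q (act x v) = Q v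

theorem isom_of_mem {x : GL ι F} (hx : x ∈ H) : Isom Q x := by
  obtain ⟨k, -, rfl⟩ := C.le_omega hx
  exact Orth.mem_isometryGroup_iff.1 k.2

omit C in
theorem isom_mul {x y : GL ι F} (hx : Isom Q x) (hy : Isom Q y) : Isom Q (x * y) := fun v => by
  rw [act_mul]; exact (hx _).trans (hy v)

omit C in
theorem isom_inv {x : GL ι F} (hx : Isom Q x) : Isom Q x⁻¹ := fun v => by
  conv_rhs => rw [← act_act_inv x v]
  exact (hx _).symm

omit C in
theorem polar_isom {x : GL ι F} (hx : Isom Q x) (v w : ι → F) :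
    polar ⇑Q (act x v) (act x w) = polar ⇑Q v w := SingMax.polar_of_iso hx v w

theorem isom_of_ten {x : GL ι F}
    (h : ∀ u v u' v', polar ⇑Q (act x (C.ten u v)) (act x (C.ten u' v')) = C.fU u u' * C.fW v v') :
    Isom Q x := by
  have e : (QuadraticMap.polarBilin Q).compl₁₂ (actL x) (actL x) = QuadraticMap.polarBilin Q :=
    C.ext_ten fun u v => C.ext_ten fun u' v' => by
      show polar ⇑Q (act x (C.ten u v)) (act x (C.ten u' v')) = polar ⇑Q (C.ten u v) (C.ten u' v')
      rw [h, C.polarQ]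
  intro v
  have h' := LinearMap.congr_fun (LinearMap.congr_fun e v) v
  simp only [LinearMap.compl₁₂_apply, QuadraticMap.polarBilin_apply_apply, polar_self,
    Matrix.mulVecLin_apply, two_nsmul, ← two_mul] at h'
  exact mul_left_cancel₀ C.two h'

/-! Product maps between two descriptions. -/

/-- The linear map of a pair. -/
noncomputable def homL (D : Ctx Q H) (A B : V3 F →ₗ[F] V3 F) : (ι → F) →ₗ[F] (ι → F) :=
  C.bV.constr F fun ij => D.ten (A (Pi.single ij.1 1)) (B (Pi.single ij.2 1))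

theorem homL_ten (D : Ctx Q H) (A B : V3 F →ₗ[F] V3 F) (u v : V3 F) :
    C.homL D A B (C.ten u v) = D.ten (A u) (B v) := by
  suffices (C.ten.compr₂ (C.homL D A B)) = D.ten.compl₁₂ A B from
    LinearMap.congr_fun (LinearMap.congr_fun this u) v
  refine (Pi.basisFun F (Fin 3)).ext fun i => (Pi.basisFun F (Fin 3)).ext fun j => ?_
  simp only [LinearMap.compr₂_apply, LinearMap.compl₁₂_apply, Pi.basisFun_apply]
  rw [← C.bV_eq, homL, Basis.constr_basis]

omit C in
theorem toMatrix'_mul {f g : (ι → F) →ₗ[F] (ι → F)} (h : f.comp g = LinearMap.id) :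
    LinearMap.toMatrix' f * LinearMap.toMatrix' g = 1 := by
  rw [← LinearMap.toMatrix'_comp, h, LinearMap.toMatrix'_id]

/-- The product element of a pair from one description to another. -/
noncomputable def hom (D : Ctx Q H) (A B : V3 F ≃ₗ[F] V3 F) : GL ι F :=
  ⟨LinearMap.toMatrix' (C.homL D A.toLinearMap B.toLinearMap),
    LinearMap.toMatrix' (D.homL C A.symm.toLinearMap B.symm.toLinearMap),
    toMatrix'_mul (D.ext_ten fun u v => by simp [homL_ten]),
    toMatrix'_mul (C.ext_ten fun u v => by simp [homL_ten])⟩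

theorem hom_ten (D : Ctx Q H) (A B : V3 F ≃ₗ[F] V3 F) (u v : V3 F) :
    act (C.hom D A B) (C.ten u v) = D.ten (A u) (B v) := by
  show LinearMap.toMatrix' _ *ᵥ _ = _
  rw [LinearMap.toMatrix'_mulVec, homL_ten]
  rfl

/-- A product element between two descriptions. -/
def IsHom (D : Ctx Q H) (x : GL ι F) : Prop :=
  ∃ (A B : V3 F ≃ₗ[F] V3 F), ∀ u v, act x (C.ten u v) = D.ten (A u) (B v)

theorem isHom_hom (D : Ctx Q H) (A B : V3 F ≃ₗ[F] V3 F) : C.IsHom D (C.hom D A B) := ⟨A, B, C.hom_ten D A B⟩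

theorem eq_hom {D : Ctx Q H} {x : GL ι F} {A B : V3 F ≃ₗ[F] V3 F}
    (h : ∀ u v, act x (C.ten u v) = D.ten (A u) (B v)) : x = C.hom D A B :=
  C.gl_ext fun u v => by rw [h, hom_ten]

/-- The Kronecker element of a pair. -/
noncomputable def kr (A B : V3 F ≃ₗ[F] V3 F) : GL ι F := C.hom C A B

theorem kr_ten (A B : V3 F ≃ₗ[F] V3 F) (u v : V3 F) :
    act (C.kr A B) (C.ten u v) = C.ten (A u) (B v) := C.hom_ten C A B u v

theorem eq_kr {x : GL ι F} {A B : V3 F ≃ₗ[F] V3 F}
    (h : ∀ u v, act x (C.ten u v) = C.ten (A u) (B v)) : x = C.kr A B := C.eq_hom h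

theorem flip_kr (A B : V3 F ≃ₗ[F] V3 F) : C.flip.kr A B = C.kr B A :=
  C.eq_kr fun u v => C.flip.kr_ten A B v u

theorem kr_mul (A A' B B' : V3 F ≃ₗ[F] V3 F) : C.kr A B * C.kr A' B' = C.kr (A * A') (B * B') :=
  C.gl_ext fun u v => by rw [act_mul, kr_ten, kr_ten, kr_ten]; rfl

theorem kr_one : C.kr 1 1 = 1 := C.gl_ext fun u v => by rw [kr_ten, act_one]; rfl

/-- The Kronecker homomorphism. -/
noncomputable def krHom : (V3 F ≃ₗ[F] V3 F) × (V3 F ≃ₗ[F] V3 F) →* GL ι F where
  toFun p := C.kr p.1 p.2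
  map_one' := C.kr_one
  map_mul' _ _ := (C.kr_mul _ _ _ _).symm

theorem kr_inv (A B : V3 F ≃ₗ[F] V3 F) : (C.kr A B)⁻¹ = C.kr A⁻¹ B⁻¹ := (map_inv C.krHom (A, B)).symm

theorem kr_pow (A B : V3 F ≃ₗ[F] V3 F) (k : ℕ) : C.kr A B ^ k = C.kr (A ^ k) (B ^ k) :=
  (map_pow C.krHom (A, B) k).symm

theorem isKr_kr (A B : V3 F ≃ₗ[F] V3 F) : IsKr C.ten (C.kr A B) := ⟨A, B, C.kr_ten A B⟩

theorem isKr_mul {x y : GL ι F} (hx : IsKr C.ten x) (hy : IsKr C.ten y) : IsKr C.ten (x * y) := by
  obtain ⟨A, B, h⟩ := hx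
  obtain ⟨A', B', h'⟩ := hy
  rw [C.eq_kr h, C.eq_kr h', kr_mul]
  exact C.isKr_kr _ _

theorem isKr_inv {x : GL ι F} (hx : IsKr C.ten x) : IsKr C.ten x⁻¹ := by
  obtain ⟨A, B, h⟩ := hx
  rw [C.eq_kr h, kr_inv]
  exact C.isKr_kr _ _

theorem isom_kr {A B : V3 F ≃ₗ[F] V3 F} (hA : IsIso C.fU A.toLinearMap) (hB : IsIso C.fW B.toLinearMap) :
    Isom Q (C.kr A B) := by
  refine C.isom_of_ten fun u v u' v' => ?_
  rw [kr_ten, kr_ten, C.polarQ]
  exact congrArg₂ (· * ·) (hA u u') (hB v v')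

/-! Coordinates. -/

/-- Contraction with a vector of `W`. -/
noncomputable def co (c : V3 F) : (ι → F) →ₗ[F] V3 F :=
  (((QuadraticMap.polarBilin Q).flip) (C.ten C.b c)).smulRight C.a +
    (C.n⁻¹ • ((QuadraticMap.polarBilin Q).flip) (C.ten C.z c)).smulRight C.z +
    (((QuadraticMap.polarBilin Q).flip) (C.ten C.a c)).smulRight C.b

theorem co_ten (c : V3 F) (u v : V3 F) : C.co c (C.ten u v) = C.fW v c • u := by
  conv_rhs => rw [C.frU.expand u]
  simp only [co, LinearMap.add_apply, LinearMap.smulRight_apply, LinearMap.flip_apply, LinearMap.smul_apply,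
    QuadraticMap.polarBilin_apply_apply, C.polarQ, C.symU.symm u C.b, C.symU.symm u C.z, C.symU.symm u C.a,
    smul_eq_mul]
  module

theorem fU_co (c : V3 F) (v : ι → F) (u : V3 F) : C.fU (C.co c v) u = polar ⇑Q v (C.ten u c) := by
  refine LinearMap.congr_fun (C.ext_ten (L := ((C.fU.flip u).comp (C.co c)))
    (L' := (QuadraticMap.polarBilin Q).flip (C.ten u c)) fun x w => ?_) v
  simp [co_ten, C.polarQ, mul_comm]

/-- Contraction with a vector of `U`. -/
noncomputable def ro (u : V3 F) : (ι → F) →ₗ[F] V3 F := C.flip.co u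

theorem ro_ten (u x v : V3 F) : C.ro u (C.ten x v) = C.fU x u • v := C.flip.co_ten u v x

theorem decompW (v : ι → F) :
    v = C.ten (C.co C.g v) C.e + C.m⁻¹ • C.ten (C.co C.w v) C.w + C.ten (C.co C.e v) C.g := by
  refine LinearMap.congr_fun (C.ext_ten (L := LinearMap.id)
    (L' := (C.ten.flip C.e).comp (C.co C.g) + C.m⁻¹ • (C.ten.flip C.w).comp (C.co C.w) +
      (C.ten.flip C.g).comp (C.co C.e)) fun u x => ?_) v
  conv_lhs => rw [LinearMap.id_apply, C.frW.expand x]
  simp only [LinearMap.add_apply, LinearMap.smul_apply, LinearMap.comp_apply, LinearMap.flip_apply, co_ten,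
    map_add, map_smul, C.symW.symm x C.g, C.symW.symm x C.w, C.symW.symm x C.e]
  module

theorem z_ne : C.z ≠ 0 := fun h => C.frU.n0 (by rw [← C.frU.zz, h]; simp)

theorem a_ne : C.a ≠ 0 := fun h => one_ne_zero (α := F) (by rw [← C.frU.ab, h]; simp)

theorem w_ne : C.w ≠ 0 := C.flip.z_ne

theorem e_ne : C.e ≠ 0 := C.flip.a_ne

theorem ten_left_inj {u u' v : V3 F} (hv : v ≠ 0) (h : C.ten u v = C.ten u' v) : u = u' := by
  obtain ⟨c, hc⟩ := exists_ne C.symW hv
  have h' := congrArg (C.co c) h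
  rw [co_ten, co_ten] at h'
  exact smul_right_injective _ hc h'

theorem ten_right_inj {u v v' : V3 F} (hu : u ≠ 0) (h : C.ten u v = C.ten u v') : v = v' :=
  C.flip.ten_left_inj hu h

theorem nondegQ : (QuadraticMap.polarBilin Q).Nondegenerate := by
  have hs : ∀ x, (∀ y, polar ⇑Q x y = 0) → x = 0 := fun x hx => by
    have h0 : ∀ c, C.co c x = 0 := fun c => C.symU.ext fun u => by
      rw [fU_co, hx, map_zero, LinearMap.zero_apply]
    rw [C.decompW x, h0, h0, h0]
    simp
  exact ⟨hs, fun y hy => hs y fun x => by rw [polar_comm]; exact hy x⟩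

end Ctx

end Cfsg.Agent.Lib.TensorThreeThree
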