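import Cfsg.Agent.Lib.TensorThreeThree.Eichler

/-!
Two descriptions with rigid radicals: an element of the overgroup carrying `U ⊗ e` to the corresponding
subspace, or a Siegel element of the second factor into the second factor, is a product map.
-/

set_option autoImplicit false
set_option linter.unusedSectionVars false

namespace Cfsg.Agent.Lib.TensorThreeThree

open Module QuadraticMap Matrix Cfsg.Agent.Lib Cfsg.Agent.Lib.TensorThreeFour

namespace Ctx

variable {ι : Type} [Fintype ι] [DecidableEq ι] {F : Type*} [Field F] {Q : QuadraticForm F (ι → F)}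
  {H : Subgroup (GL ι F)} (C D : Ctx Q H)
include C

theorem hom_inv_ten (A B : V3 F ≃ₗ[F] V3 F) (u v : V3 F) :
    act (C.hom D A B)⁻¹ (D.ten u v) = C.ten (A.symm u) (B.symm v) := by
  conv_lhs => rw [← A.apply_symm_apply u, ← B.apply_symm_apply v, ← C.hom_ten D A B, act_inv_act]

theorem co_e_of_stab {x : GL ι F} (hx : Isom Q x) {A : V3 F ≃ₗ[F] V3 F}
    (hA : ∀ u, act x (C.ten u C.e) = D.ten (A u) D.e) (u : V3 F) :
    D.co D.e (act x (C.ten u C.w)) = 0 := D.symU.ext fun v => by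
  rw [fU_co, ← A.apply_symm_apply v, ← hA, polar_isom hx, C.polarQ, C.fW_we, mul_zero, map_zero,
    LinearMap.zero_apply]

/-- Action of a Siegel element on the orthogonal of `U ⊗ e`. -/
theorem yt_low (t : F) {v : ι → F} (hv : C.co C.e v = 0) :
    act (C.yt t) v = v - t • C.ten (C.co C.w v) C.e := by
  have hm := C.frW.n0
  have e := C.decompW v
  rw [hv, map_zero, LinearMap.zero_apply, add_zero] at e
  conv_lhs => rw [e, act_add, act_smul, C.yt_e, C.yt_w]
  conv_rhs => arg 1; rw [e]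
  simp only [map_smul, LinearMap.smul_apply, smul_add, smul_smul]
  match_scalars <;> field_simp

theorem conj_yt_rd {x : GL ι F} (hx : Isom Q x) {A : V3 F ≃ₗ[F] V3 F}
    (hA : ∀ u, act x (C.ten u C.e) = D.ten (A u) D.e) (t : F) : D.RD (x * C.yt t * x⁻¹) := by
  have hy := C.rd_yt t
  have hA' : ∀ u, act x⁻¹ (D.ten u D.e) = C.ten (A.symm u) C.e := fun u => by
    conv_lhs => rw [← A.apply_symm_apply u, ← hA]
    exact act_inv_act _ _
  refine ⟨isom_mul (isom_mul hx hy.1) (isom_inv hx), fun u => ?_, fun u => ?_⟩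
  · rw [act_mul, act_mul, hA', hy.2.1, hA, LinearEquiv.apply_symm_apply]
  · refine ⟨A (-(t • C.co C.w (act x⁻¹ (D.ten u D.w)))), ?_⟩
    rw [act_mul, act_mul, C.yt_low t (D.co_e_of_stab C (isom_inv hx) hA' u), act_sub, act_act_inv, act_smul, hA,
      map_neg, map_smul, map_neg, map_smul, LinearMap.neg_apply, LinearMap.smul_apply, sub_eq_add_neg]

theorem rd_hom {x : GL ι F} (hx : C.RD x) {A B : V3 F ≃ₗ[F] V3 F} (hk : Isom Q (C.hom D A B))
    (hBe : B C.e = D.e) {c : F} (hc : c ≠ 0) (hBw : B C.w = c • D.w) :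
    D.RD (C.hom D A B * x * (C.hom D A B)⁻¹) := by
  have hs : B.symm D.e = C.e := by rw [LinearEquiv.symm_apply_eq, hBe]
  have hsw : B.symm D.w = c⁻¹ • C.w := by
    rw [LinearEquiv.symm_apply_eq, map_smul, hBw, smul_smul, inv_mul_cancel₀ hc, one_smul]
  refine ⟨isom_mul (isom_mul hk hx.1) (isom_inv hk), fun u => ?_, fun u => ⟨c⁻¹ • A (C.Lm x (A.symm u)), ?_⟩⟩
  · rw [act_mul, act_mul, hom_inv_ten, hs, hx.2.1, hom_ten, hBe, LinearEquiv.apply_symm_apply]
  · rw [act_mul, act_mul, hom_inv_ten, hsw, map_smul, act_smul, C.mid_eq hx, act_smul, act_add, hom_ten, hom_ten,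
      hBe, hBw, LinearEquiv.apply_symm_apply, map_smul, map_smul, LinearMap.smul_apply, smul_add, smul_smul,
      inv_mul_cancel₀ hc, one_smul]

variable [Finite F]

/-- An element carrying `U ⊗ e` to its counterpart has the graded action of a product map. -/
theorem exists_graded (hD : D.NR) {h : GL ι F} (hh : h ∈ H)
    (hS : ∀ u, ∃ u', act h (C.ten u C.e) = D.ten u' D.e) :
    ∃ (A B : V3 F ≃ₗ[F] V3 F) (μ c : F), μ ≠ 0 ∧ c ≠ 0 ∧ (∀ u u', D.fU (A u) (A u') = μ * C.fU u u') ∧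
      (∀ v v', D.fW (B v) (B v') = μ⁻¹ * C.fW v v') ∧ Isom Q (C.hom D A B) ∧ B C.e = D.e ∧
      B C.w = c • D.w ∧ C.RD ((C.hom D A B)⁻¹ * h) := by
  have hi := C.isom_of_mem hh
  have hm := C.frW.n0
  have hm' := D.frW.n0
  obtain ⟨L, hL⟩ : ∃ L : V3 F →ₗ[F] V3 F, L = (D.co D.g).comp ((actL h).comp (C.ten.flip C.e)) := ⟨_, rfl⟩
  have hLu : ∀ u, act h (C.ten u C.e) = D.ten (L u) D.e := fun u => by
    obtain ⟨u', hu'⟩ := hS u
    have : L u = D.co D.g (act h (C.ten u C.e)) := by rw [hL]; rfl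
    rw [this, hu', co_g_ten_e]
  obtain ⟨A, hAL⟩ : ∃ A : V3 F ≃ₗ[F] V3 F, ∀ u, A u = L u := ⟨LinearEquiv.ofInjectiveEndo L fun u u' e => by
    have h1 := congrArg (act h⁻¹) (show act h (C.ten u C.e) = act h (C.ten u' C.e) by rw [hLu, hLu, e])
    rw [act_inv_act, act_inv_act] at h1
    exact C.ten_left_inj C.e_ne h1, fun _ => rfl⟩
  have hA : ∀ u, act h (C.ten u C.e) = D.ten (A u) D.e := fun u => by rw [hLu, hAL]
  have hAz : A C.z ≠ 0 := fun e => C.z_ne (A.injective (e.trans (map_zero A).symm))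
  -- the Siegel elements are carried to Siegel elements
  obtain ⟨s, hs⟩ := hD _ (H.mul_mem (H.mul_mem hh (C.yt_mem 1)) (H.inv_mem hh)) (C.conj_yt_rd D hi hA 1)
  have hco : ∀ u, s • D.co D.w (act h (C.ten u C.w)) = C.m • A u := fun u => by
    have hv := C.co_e_of_stab D hi hA u
    have e := congrArg (fun x => act x (act h (C.ten u C.w))) hs
    simp only [act_mul, act_inv_act] at e
    rw [D.yt_low s hv, C.yt_w, act_add, hA, sub_eq_add_neg, add_right_inj, ← LinearMap.smul_apply, ← map_smul,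
      ← LinearMap.neg_apply, ← map_neg] at e
    have e' := D.ten_left_inj D.e_ne e
    rw [one_mul, neg_smul, map_neg, map_smul, neg_inj] at e'
    exact e'.symm
  have hs0 : s ≠ 0 := fun h0 => by
    have e := hco C.z
    rw [h0, zero_smul, eq_comm] at e
    exact hAz ((smul_eq_zero.1 e).resolve_left hm)
  obtain ⟨c, hc⟩ : ∃ c, c = C.m / (s * D.m) := ⟨_, rfl⟩
  have hc0 : c ≠ 0 := hc ▸ div_ne_zero hm (mul_ne_zero hs0 hm')
  have hw : ∀ u, ∃ r, act h (C.ten u C.w) = D.ten (A u) (c • D.w) + D.ten r D.e := fun u => by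
    refine ⟨D.co D.g (act h (C.ten u C.w)), ?_⟩
    conv_lhs => rw [D.decompW (act h (C.ten u C.w)), C.co_e_of_stab D hi hA u, map_zero, LinearMap.zero_apply,
      add_zero, add_comm]
    congr 1
    have e : D.co D.w (act h (C.ten u C.w)) = (C.m / s) • A u := by
      rw [div_eq_inv_mul, ← smul_smul, ← hco, inv_smul_smul₀ hs0]
    rw [e, map_smul, map_smul, LinearMap.smul_apply, smul_smul, hc]
    congr 1
    field_simp
  obtain ⟨μ, hμ⟩ : ∃ μ, μ = C.m / (c * c * D.m) := ⟨_, rfl⟩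
  have hμ0 : μ ≠ 0 := hμ ▸ div_ne_zero hm (mul_ne_zero (mul_ne_zero hc0 hc0) hm')
  have hAm : ∀ u u', D.fU (A u) (A u') = μ * C.fU u u' := fun u u' => by
    obtain ⟨r, hr⟩ := hw u
    obtain ⟨r', hr'⟩ := hw u'
    have e := polar_isom hi (C.ten u C.w) (C.ten u' C.w)
    rw [hr, hr'] at e
    simp only [polar_add_left, polar_add_right, C.polarQ, D.polarQ, map_smul, polar_smul_left, polar_smul_right, C.frW.zz,
      D.frW.zz, D.frW.aa, D.frW.az, D.fW_we, smul_eq_mul, mul_zero, add_zero] at e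
    rw [hμ, div_mul_eq_mul_div, eq_div_iff (mul_ne_zero (mul_ne_zero hc0 hc0) hm')]
    linear_combination e
  -- the second factor
  obtain ⟨β, hβ⟩ : ∃ β : V3 F →ₗ[F] V3 F, β = (C.fW C.g).smulRight D.e +
      (C.m⁻¹ • C.fW C.w).smulRight (c • D.w) + (μ⁻¹ • C.fW C.e).smulRight D.g := ⟨_, rfl⟩
  have hβapp : ∀ p, β p = C.fW C.g p • D.e + (C.m⁻¹ * C.fW C.w p) • c • D.w + (μ⁻¹ * C.fW C.e p) • D.g :=
    fun p => by simp [hβ]
  have hcc : c * c * D.m = μ⁻¹ * C.m := by rw [hμ]; field_simp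
  have hβi : ∀ p q, D.fW (β p) (β q) = μ⁻¹ * C.fW p q := by
    intro p q
    conv_rhs => rw [C.frW.expand p, C.frW.expand q]
    simp only [hβapp, map_add, map_smul, LinearMap.add_apply, LinearMap.smul_apply, smul_eq_mul, D.frW.aa,
      D.frW.bb, D.frW.ab, D.frW.az, D.frW.bz, D.frW.zz, C.frW.aa, C.frW.bb, C.frW.ab, C.frW.az, C.frW.bz,
      C.frW.zz, D.fW_we, D.fW_wg, D.fW_ge, C.fW_we, C.fW_wg, C.fW_ge]
    field_simp
    field_simp at hcc
    linear_combination (μ * C.fW C.w p * C.fW C.w q) * hcc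
  obtain ⟨B, hB⟩ : ∃ B : V3 F ≃ₗ[F] V3 F, ∀ p, B p = β p :=
    ⟨LinearEquiv.ofInjectiveEndo β fun p q e => C.symW.ext fun r => by
      have h1 := hβi p r
      rw [e, hβi q r] at h1
      exact (mul_left_cancel₀ (inv_ne_zero hμ0) h1).symm, fun _ => rfl⟩
  have hBi : ∀ v v', D.fW (B v) (B v') = μ⁻¹ * C.fW v v' := fun v v' => by rw [hB, hB, hβi]
  have hk : Isom Q (C.hom D A B) := C.isom_of_ten fun u v u' v' => by
    rw [hom_ten, hom_ten, D.polarQ, hAm, hBi]
    field_simp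
  have hBe : B C.e = D.e := by
    simp [hB, hβapp, C.fW_ge, C.fW_we, C.frW.aa]
  have hBw : B C.w = c • D.w := by
    simp [hB, hβapp, C.frW.zz, C.frW.az, C.frW.bz, hm]
  refine ⟨A, B, μ, c, hμ0, hc0, hAm, hBi, hk, hBe, hBw, isom_mul (isom_inv hk) hi, fun u => ?_, fun u => ?_⟩
  · rw [act_mul, hA, hom_inv_ten, ← hBe, LinearEquiv.symm_apply_apply, LinearEquiv.symm_apply_apply]
  · obtain ⟨r, hr⟩ := hw u
    refine ⟨A.symm r, ?_⟩
    rw [act_mul, hr, act_add, ← hBw, ← hBe, hom_inv_ten, hom_inv_ten]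
    simp

/-- An element carrying `U ⊗ e` to its counterpart is a product map. -/
theorem isHom_of_stabS (hC : C.NR) (hD : D.NR) {h : GL ι F} (hh : h ∈ H)
    (hS : ∀ u, ∃ u', act h (C.ten u C.e) = D.ten u' D.e) : C.IsHom D h := by
  obtain ⟨A, B, μ, c, hμ, hc, hA, hB, hk, hBe, hBw, hr⟩ := C.exists_graded D hD hh hS
  obtain ⟨k, hkdef⟩ : ∃ k, k = C.hom D A B := ⟨_, rfl⟩
  rw [← hkdef] at hk hr
  obtain ⟨r, hrdef⟩ : ∃ r, r = k⁻¹ * h := ⟨_, rfl⟩
  rw [← hrdef] at hr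
  have hh' : h = k * r := by rw [hrdef, mul_inv_cancel_left]
  obtain ⟨p, hp, hpo, hchar⟩ := C.exists_char
  haveI := Fact.mk hp
  -- radical elements of the overgroup carried back by the product map
  have hback : ∀ x ∈ H, D.RD x → k⁻¹ * x * k ∈ H := by
    intro x hxH hx
    obtain ⟨t, rfl⟩ := hD x hxH hx
    obtain ⟨σ, hσ⟩ : ∃ σ, σ = siegE D.symW D.frW.aa (b := t • D.w) (by rw [map_smul, D.frW.az, smul_zero]) :=
      ⟨_, rfl⟩
    have e : k⁻¹ * D.yt t * k = C.kr 1 (B⁻¹ * σ * B) := C.gl_ext fun u v => by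
      rw [act_mul, act_mul, hkdef, hom_ten, yt, ← hσ, kr_ten, hom_inv_ten, kr_ten]
      simp [LinearEquiv.mul_apply]
    rw [e]
    refine C.kr_mem_of_pow_odd (fun _ _ => rfl) (fun u v => ?_) hpo (one_pow _) ?_
    · have hσi : IsIso D.fW σ.toLinearMap := hσ ▸ siegL_iso D.symW D.frW.aa (by rw [map_smul, D.frW.az, smul_zero])
      have hb : ∀ a b, C.fW (B.symm a) (B.symm b) = μ * D.fW a b := fun a b => by
        have e := hB (B.symm a) (B.symm b)
        rw [LinearEquiv.apply_symm_apply, LinearEquiv.apply_symm_apply] at e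
        rw [e, mul_inv_cancel_left₀ hμ]
      show C.fW (B.symm (σ (B u))) (B.symm (σ (B v))) = _
      rw [hb, show D.fW (σ (B u)) (σ (B v)) = _ from hσi _ _, hB, mul_inv_cancel_left₀ hμ]
    · have e' := conj_pow (a := B⁻¹) (b := σ) (i := p)
      rw [inv_inv] at e'
      rw [e', hσ, siegE_pow_char D.symW _ _ p, mul_one, inv_mul_cancel]
  -- the commutator with the Siegel element
  have hyz : r * C.yt 1 * (C.yt 1 * r)⁻¹ = 1 := by
    refine C.isZ_eq_one_of_NR hC ?_ (C.comm_isZ hr (C.rd_yt 1))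
    have hA'' : ∀ v, act h (C.ten v C.e) = D.ten (A v) D.e := fun v => by
      rw [hh', act_mul, hr.2.1, hkdef, hom_ten, hBe]
    have h1 := hback _ (H.mul_mem (H.mul_mem hh (C.yt_mem 1)) (H.inv_mem hh))
      (C.conj_yt_rd D (C.isom_of_mem hh) hA'' 1)
    have h2 := H.mul_mem h1 (H.inv_mem (C.yt_mem 1))
    convert h2 using 1
    rw [hh']; group
  have hT := C.comm_yt hr hyz
  -- the commutators with the Siegel elements of the first factor
  have hmx : ∀ {x b : V3 F} (hx : C.fU x x = 0) (hb : C.fU x b = 0),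
      C.RD (r * C.kr (siegE C.symU hx hb) 1 * r⁻¹ * (C.kr (siegE C.symU hx hb) 1)⁻¹) ∧
      r * C.kr (siegE C.symU hx hb) 1 * r⁻¹ * (C.kr (siegE C.symU hx hb) 1)⁻¹ ∈ H := by
    intro x b hx hb
    have hmi : IsIso C.fU (siegE C.symU hx hb).toLinearMap := siegL_iso C.symU hx hb
    have hrd0 : C.RD (r * C.kr (siegE C.symU hx hb) 1 * r⁻¹ * (C.kr (siegE C.symU hx hb) 1)⁻¹) := by
      have h2 := C.rd_mul hr (C.rd_conj (C.rd_inv hr) hmi)
      rwa [← mul_assoc, ← mul_assoc] at h2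
    refine ⟨hrd0, ?_⟩
    have hmk : k * C.kr (siegE C.symU hx hb) 1 * k⁻¹ ∈ H := by
      have e : k * C.kr (siegE C.symU hx hb) 1 * k⁻¹ = D.kr (A * siegE C.symU hx hb * A⁻¹) 1 :=
        D.gl_ext fun u v => by
          rw [act_mul, act_mul, hkdef, hom_inv_ten, kr_ten, hom_ten, kr_ten]
          simp [LinearEquiv.mul_apply]
      rw [e]
      refine D.kr_mem_of_pow_odd (fun u v => ?_) (fun _ _ => rfl) hpo ?_ (one_pow _)
      · have ha : ∀ a b, C.fU (A.symm a) (A.symm b) = μ⁻¹ * D.fU a b := fun a b => by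
          have e := hA (A.symm a) (A.symm b)
          rw [LinearEquiv.apply_symm_apply, LinearEquiv.apply_symm_apply] at e
          rw [e, inv_mul_cancel_left₀ hμ]
        show D.fU (A (siegE C.symU hx hb (A.symm u))) (A (siegE C.symU hx hb (A.symm v))) = _
        rw [hA, show C.fU (siegE C.symU hx hb _) (siegE C.symU hx hb _) = _ from hmi _ _, ha,
          mul_inv_cancel_left₀ hμ]
      · rw [conj_pow, siegE_pow_char C.symU hx hb p, mul_one, mul_inv_cancel]
    have h1 := H.mul_mem (H.mul_mem (H.mul_mem hh (C.siegU_mem hx hb)) (H.inv_mem hh)) (H.inv_mem hmk)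
    have e : h * C.kr (siegE C.symU hx hb) 1 * h⁻¹ * (k * C.kr (siegE C.symU hx hb) 1 * k⁻¹)⁻¹ =
        k * (r * C.kr (siegE C.symU hx hb) 1 * r⁻¹ * (C.kr (siegE C.symU hx hb) 1)⁻¹) * k⁻¹ := by
      rw [hh']; group
    rw [e] at h1
    have h3 := hback _ h1 (hkdef ▸ C.rd_hom D hrd0 (hkdef ▸ hk) hBe hc hBw)
    convert h3 using 1
    group
  have hsc : ∀ {x b : V3 F} (hx : C.fU x x = 0) (hb : C.fU x b = 0),
      ∃ c : F, ∀ v, siegL C.fU x b (C.Lm r v) = C.Lm r (siegL C.fU x b v) + c • siegL C.fU x b v := by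
    intro x b hx hb
    obtain ⟨hrd, hmem⟩ := hmx hx hb
    obtain ⟨t, he⟩ := hC _ hmem hrd
    refine ⟨t * C.m, fun v => ?_⟩
    have hm' := C.rd_conj (C.rd_inv hr) (A := siegE C.symU hx hb) (siegL_iso C.symU hx hb)
    have e := congrArg (fun y => C.Lm y (siegE C.symU hx hb v)) he
    rw [show r * C.kr (siegE C.symU hx hb) 1 * r⁻¹ * (C.kr (siegE C.symU hx hb) 1)⁻¹ =
      r * (C.kr (siegE C.symU hx hb) 1 * r⁻¹ * (C.kr (siegE C.symU hx hb) 1)⁻¹) by group,
      C.Lm_mul hr hm', C.Lm_conj (C.rd_inv hr), C.Lm_inv hr, C.Lm_yt, map_neg,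
      LinearMap.add_apply, LinearMap.neg_apply, LinearEquiv.conj_apply_apply, LinearEquiv.symm_apply_apply,
      LinearMap.smul_apply, LinearMap.id_apply, siegE_apply, siegE_apply] at e
    linear_combination (norm := module) -e
  have fr := C.frU
  obtain ⟨s, hs0, hs1⟩ := exists_not_pm_one (F := F) C.five
  have haz : ∀ t : F, C.fU C.a (t • C.z) = 0 := fun t => by rw [map_smul, fr.az, smul_zero]
  have hbz : ∀ t : F, C.fU C.b (t • C.z) = 0 := fun t => by rw [map_smul, fr.bz, smul_zero]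
  obtain ⟨α, hα⟩ : ∃ α : F, C.Lm r = α • LinearMap.id := by
    have hsy : ∀ u v, C.fU (C.Lm r u) v = C.fU u (C.Lm r v) := fun u v => by
      have e := C.Tm_adj hr u v
      rw [hT, LinearMap.neg_apply, map_neg, LinearMap.neg_apply] at e
      exact neg_inj.1 e
    obtain ⟨α, u, e1⟩ := form_of_symm C.symU fr hsy hs0 hs1 (hsc fr.aa (haz 1)) (hsc fr.aa (haz s))
    obtain ⟨α', u', e2⟩ := form_of_symm C.symU (fr.swap C.symU) hsy hs0 hs1 (hsc fr.bb (hbz 1))
      (hsc fr.bb (hbz s))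
    have e := congrArg (C.fU C.b) ((e1 C.b).symm.trans (e2 C.b))
    simp only [map_add, map_smul, fr.bb, fr.ab, C.symU.symm C.b C.a, smul_eq_mul, mul_zero, mul_one,
      zero_add] at e
    exact ⟨α, LinearMap.ext fun v => by simp [e1, e]⟩
  obtain ⟨t₀, hz⟩ := C.rd_of_scalar hr hα
  obtain ⟨Z, hZ⟩ : ∃ Z, Z = r * (C.yt t₀)⁻¹ := ⟨_, rfl⟩
  rw [← hZ] at hz
  have hfix : ∀ {x b : V3 F} (hx : C.fU x x = 0) (hb : C.fU x b = 0) (v : V3 F),
      C.Zm Z (siegL C.fU x b v) = siegL C.fU x b (C.Zm Z v) := by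
    intro x b hx hb v
    have hmi := siegL_iso C.symU hx hb
    have hcomm : C.yt t₀ * C.kr (siegE C.symU hx hb) 1 = C.kr (siegE C.symU hx hb) 1 * C.yt t₀ := by
      rw [yt, kr_mul, kr_mul, one_mul, mul_one, one_mul, mul_one]
    have e : r * C.kr (siegE C.symU hx hb) 1 * r⁻¹ * (C.kr (siegE C.symU hx hb) 1)⁻¹ =
        Z * (C.kr (siegE C.symU hx hb) 1 * Z⁻¹ * (C.kr (siegE C.symU hx hb) 1)⁻¹) := by
      have hr' : r = Z * C.yt t₀ := by rw [hZ, inv_mul_cancel_right]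
      rw [hr', mul_assoc Z (C.yt t₀), hcomm]
      group
    have hmem := (hmx hx hb).2
    rw [e] at hmem
    have hzc := C.isZ_conj (C.isZ_inv hz) (A := siegE C.symU hx hb) hmi
    have h1 := C.isZ_eq_one_of_NR hC hmem (C.isZ_mul hz hzc)
    have h2 := congrArg C.Zm h1
    rw [C.Zm_mulZ hz hzc.1, C.Zm_conj (C.isZ_inv hz), C.Zm_inv hz, Zm_one] at h2
    have h3 := LinearMap.congr_fun h2 (siegE C.symU hx hb v)
    rw [LinearMap.add_apply, map_neg, LinearMap.neg_apply, LinearEquiv.conj_apply_apply,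
      LinearEquiv.symm_apply_apply, LinearMap.zero_apply, add_neg_eq_zero] at h3
    simpa using h3
  obtain ⟨t, ht⟩ := scalar_of_comm C.symU fr (L := C.Zm Z) (fun t v => hfix fr.aa (haz t) v)
    (fun t v => hfix fr.bb (hbz t) v)
  have hZ1 : Z = 1 := C.isZ_ext hz C.isZ_one <| by
    have e := C.Zm_skew hz C.a C.b
    simp only [ht, LinearMap.smul_apply, LinearMap.id_apply, map_smul, smul_eq_mul, fr.ab, mul_one] at e
    rw [ht, Zm_one, (mul_eq_zero.1 (show t * 2 = 0 by linear_combination e)).resolve_right C.two, zero_smul]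
  rw [hh', show r = C.yt t₀ from mul_inv_eq_one.1 (hZ ▸ hZ1), hkdef]
  exact ⟨A, (siegE C.symW C.frW.aa (b := t₀ • C.w) (by rw [map_smul, C.frW.az, smul_zero])).trans B, fun u v => by
    rw [act_mul, yt_ten, hom_ten]
    rfl⟩

/-- Carrying a Siegel element of the second factor into the second factor forces a product map. -/
theorem isHom_of_conj (hC : C.NR) (hD : D.NR) {h : GL ι F} (hh : h ∈ H)
    {t₀ : F} (ht₀ : t₀ ≠ 0) {σ : V3 F ≃ₗ[F] V3 F} (he : h * C.yt t₀ * h⁻¹ = D.kr 1 σ) : C.IsHom D h := by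
  have hi := C.isom_of_mem hh
  have hm : t₀ * t₀ * C.m ≠ 0 := mul_ne_zero (mul_ne_zero ht₀ ht₀) C.frW.n0
  obtain ⟨y, hy⟩ : ∃ y, y = actL (C.yt t₀) - LinearMap.id := ⟨_, rfl⟩
  obtain ⟨y', hy'⟩ : ∃ y', y' = actL (D.kr 1 σ) - LinearMap.id := ⟨_, rfl⟩
  obtain ⟨N, hN'⟩ : ∃ N : V3 F →ₗ[F] V3 F, N = σ.toLinearMap - LinearMap.id := ⟨_, rfl⟩
  have hy'ten : ∀ u v, y' (D.ten u v) = D.ten u (N v) := fun u v => by
    rw [hy', hN', LinearMap.sub_apply, LinearMap.sub_apply, LinearMap.id_apply, LinearMap.id_apply, map_sub]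
    exact congrArg (· - _) (D.kr_ten 1 σ u v)
  have hyten : ∀ u v, y (y (C.ten u v)) = C.ten (-(t₀ * t₀ * C.m * C.fW C.e v) • u) C.e := fun u v => by
    have e : ∀ v, y (C.ten u v) = C.ten u (siegL C.fW C.e (t₀ • C.w) v - v) := fun v => by
      rw [hy, LinearMap.sub_apply, LinearMap.id_apply, map_sub]
      exact congrArg (· - _) (C.yt_ten t₀ u v)
    rw [e, e, map_smul, LinearMap.smul_apply, ← map_smul]
    congr 1
    simp only [siegL_apply, map_add, map_sub, map_smul, C.frW.aa, C.frW.az, C.frW.zz, C.fW_we, LinearMap.smul_apply, smul_eq_mul]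
    match_scalars <;> ring
  have hconj : ∀ v, act h (y v) = y' (act h v) := fun v => by
    rw [hy, hy', LinearMap.sub_apply, LinearMap.sub_apply, LinearMap.id_apply, LinearMap.id_apply, ← he, act_sub]
    show _ = act _ (act h v) - _
    rw [act_mul, act_mul, act_inv_act]
    rfl
  -- the image of `S`
  have himg : ∀ v, ∃ u, act h⁻¹ (y' (y' v)) = C.ten u C.e := by
    intro v
    rw [← act_act_inv h v, ← hconj, ← hconj, act_inv_act]
    refine ⟨_, LinearMap.congr_fun (C.ext_ten (L := y.comp y)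
      (L' := (C.ten.flip C.e).comp (-(t₀ * t₀ * C.m) • C.co C.e)) fun u v => ?_) (act h⁻¹ v)⟩
    simp [hyten, co_ten, C.symW.symm v C.e, smul_smul]
  have hts : ∀ v v', D.fW (N (N v)) (N (N v')) = 0 := by
    intro v v'
    obtain ⟨u, hu⟩ := himg (D.ten D.z v)
    obtain ⟨u', hu'⟩ := himg (D.ten D.z v')
    have e := polar_isom (isom_inv hi) (y' (y' (D.ten D.z v))) (y' (y' (D.ten D.z v')))
    rw [hu, hu', hy'ten, hy'ten, hy'ten, hy'ten, C.polarQ, D.polarQ, C.frW.aa, mul_zero, D.frU.zz, eq_comm] at e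
    exact (mul_eq_zero.1 e).resolve_left D.frU.n0
  obtain ⟨v₀, hv₀⟩ : ∃ v, N (N v) ≠ 0 := by
    by_contra hno
    push Not at hno
    have h0 : ∀ v, y' (y' v) = 0 := fun v =>
      LinearMap.congr_fun (D.ext_ten (L := y'.comp y') (L' := 0) fun u w => by simp [hy'ten, hno]) v
    have e := h0 (act h (C.ten C.z C.g))
    rw [← hconj, ← hconj, hyten] at e
    have e' := congrArg (act h⁻¹) e
    rw [act_inv_act, C.frW.ab, mul_one, act_zero] at e'
    have e'' := congrArg (C.co C.g) e'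
    rw [co_g_ten_e, map_zero] at e''
    exact neg_ne_zero.2 hm ((smul_eq_zero.1 e'').resolve_right C.z_ne)
  obtain ⟨r, hr⟩ : ∃ r, r = N (N v₀) := ⟨_, rfl⟩
  rw [← hr] at hv₀
  have hrr : D.fW r r = 0 := hr ▸ hts _ _
  obtain ⟨B, -, hBH, t, ht, hBr⟩ := D.exists_moveW hrr hv₀ D.frW.aa D.e_ne
  obtain ⟨A₁, B₁, h₁⟩ := C.isHom_of_stabS D hC hD (H.mul_mem hBH hh) fun u => by
    obtain ⟨v, hv⟩ : ∃ v, act h (C.ten u C.e) = D.ten v r := by
      have hlin : ∀ w, ∃ s : F, N (N w) = s • r := fun w => by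
        obtain ⟨s, hs⟩ := Submodule.mem_span_singleton.1 (D.sing_span hrr (hts w w) (hr ▸ hts v₀ w) hv₀)
        exact ⟨s, hs.symm⟩
      choose s hs using hlin
      have hline : ∀ x, ∃ v, y' (y' x) = D.ten v r := by
        intro x
        rw [D.decompW x]
        simp only [map_add, map_smul, hy'ten, hs]
        exact ⟨s D.e • D.co D.g x + D.m⁻¹ • s D.w • D.co D.w x + s D.g • D.co D.e x,
          by simp only [map_add, map_smul, LinearMap.add_apply, LinearMap.smul_apply]⟩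
      obtain ⟨v, hv⟩ := hline (act h (C.ten ((-(t₀ * t₀ * C.m))⁻¹ • u) C.g))
      refine ⟨v, ?_⟩
      rw [← hv, ← hconj, ← hconj, hyten, C.frW.ab, mul_one, smul_smul, mul_inv_cancel₀ (neg_ne_zero.2 hm),
        one_smul]
    refine ⟨t • v, ?_⟩
    rw [act_mul, hv, kr_ten, hBr, map_smul, LinearMap.map_smul₂]
    rfl
  refine ⟨A₁, B₁.trans B⁻¹, fun u v => ?_⟩
  rw [← act_inv_act (D.kr 1 B) (act h (C.ten u v)), ← act_mul (D.kr 1 B), h₁, kr_inv, kr_ten, inv_one]
  rfl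

end Ctx

end Cfsg.Agent.Lib.TensorThreeThree
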